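import Mathlib
import Cfsg.Agent.CharDeep.DegreeBound
import Cfsg.Agent.S0145
import Cfsg.Agent.Blocks.Basic
import Cfsg.Agent.Characters.Values
import Cfsg.Agent.Characters.GaloisBasic
import Cfsg.Agent.S4437
import Cfsg.Agent.S0908
import Cfsg.Agent.S0919
import Cfsg.Agent.S0969
import Cfsg.Agent.H592.Transit
import Cfsg.Agent.Blocks.CentralizerSum
import Cfsg.Agent.Blocks.BrauerMap
import Cfsg.Agent.H892.FixDim
import Cfsg.Agent.Blocks.BrauerHom
import Cfsg.Agent.Blocks.ExistsModular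
import Cfsg.Agent.CharDeep.LinearChar
import Cfsg.Agent.S0188
import Cfsg.Agent.OddHalf.D9.EEight.Id.Onto
import Cfsg.Agent.H494.PSURow
import Cfsg.Agent.H994.NX.Wie
import Cfsg.Agent.H665.RIM.Defs
import Cfsg.Agent.LFourA.AltPsiAut
import Cfsg.Agent.H620.RIM.Nb
import Cfsg.Agent.H535.RIM.Ov2
import Cfsg.Agent.Lib.FastPerm
import Cfsg.Agent.H487.SchurMult
import Cfsg.Agent.Blocks.CliffordCentral
import Cfsg.Agent.H713.Invol
import Cfsg.Agent.H68.Bounds
import Cfsg.Agent.H487.SchurPerfect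
import Cfsg.Agent.S0713
import Cfsg.Agent.S0892
import Cfsg.Agent.Lib.DivFast
import Cfsg.Agent.S2086
import Cfsg.Agent.S2116
import Cfsg.Agent.S0254
import Cfsg.Agent.H710.Cuspidal
import Cfsg.Agent.H904.PV.U3
import Cfsg.Agent.S2545
import Cfsg.Agent.S0822
import Cfsg.Agent.S0279
import Cfsg.Agent.H948.UMain
import Cfsg.Agent.H793.PC.Pi_m3
import Cfsg.Agent.Blocks.Deflate
import Cfsg.Agent.H586.GW.Final
import Cfsg.Agent.CharDeep.Twist
import Cfsg.Agent.H965.XZ.IdxD
import Cfsg.Agent.H87.Spin.Ones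
import Cfsg.Agent.H600.RIM.Row
import Cfsg.Agent.H95.StemCover
import Cfsg.Agent.H990.TC.Univ
import Cfsg.Agent.H115.HC.RankTwo
import Cfsg.Agent.H53.HC.Asm
import Cfsg.Agent.Characters.Central
import Cfsg.Agent.Characters.Linear
import Cfsg.Agent.H45.GG.Series_m3
import Cfsg.Agent.LieRecognition.BNCox
import Cfsg.Agent.H113.PSL.Pass
import Cfsg.Agent.H113.PSL.Main
import Cfsg.Agent.S0243
import Cfsg.Agent.H658.Domin
import Cfsg.Agent.H829.GowDesc
import Cfsg.Agent.S4426
import Cfsg.Agent.Blocks.HeightZeroSection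
import Cfsg.Agent.OddOrderCharacters.VChar
import Cfsg.Agent.TAB.Use.Defs_m3
import Cfsg.Agent.FastGrp
import Cfsg.Agent.Prune
set_option linter.all false

section
prune_inst 0x7f90a8f829a801dedfff7e3faed0dff810808fffa6dff9437fe0619f0b9f030009c56b8509e010fe0e56623410387803f97e8efe2029dc7ffffd57b41ffbec0f85663500119080240e240ff603f057086f3fddff7ffffffffffffff7ffffffbeffbfe3befffd

-- part: H548/RIM/Orb
section
prune_inst 0x200800000000000000800000000000008400002
set_option linter.all false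
open scoped Cfsg.Agent.FastGrp

/-!
# S4816, three orbits of characters (helper548)

`three_of_orders`: `E` normal in `G`, `N ≤ E` central in `G`, `φ` a linear character of `N`; three elements of `E` of distinct orders
prime to `|N|` give three irreducible characters of `E` over `φ` which are pairwise not conjugate in `G`.
-/

set_option autoImplicit false
set_option linter.unusedSectionVars false

namespace Cfsg.Agent.H548.RIM

open Cfsg Cfsg.Agent.Characters.Core
open scoped ComplexConjugate commutatorElement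

universe u

section generic

variable {X : Type*} [Group X] [Fintype X] {N : Subgroup X} {φ : N →* ℂˣ}

/-- functions over `φ` are orthogonal to the irreducible characters which are not over `φ` -/
theorem inner_eq_zero (hN : N ≤ Subgroup.center X) {f : X → ℂ} (hmul : ∀ (n : N) (g : X), f (n * g) = φ n * f g) {ψ : X → ℂ}
    (hψ : IsIrrCharacter X ψ) (hnot : ¬ ∀ n : N, ψ n = ψ 1 * φ n) : classInner f ψ = 0 := by
  classical
  push Not at hnot
  obtain ⟨n, hn⟩ := hnot
  obtain ⟨w, -, hw⟩ := Cfsg.Agent.CharDeep.DegreeBound.exists_omega hψ (hN n.2)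
  have h0 : ψ n = w * ψ 1 := by
    have := hw 1
    simpa using this
  have hwn : w ≠ φ n := by
    intro h
    apply hn
    rw [h0, h, mul_comm]
  have h1 : ∑ g : X, f g * conj (ψ g) = (φ n : ℂ) * conj w * ∑ g : X, f g * conj (ψ g) := by
    conv_lhs => rw [← Fintype.sum_equiv (Equiv.mulLeft (n : X))
      (fun g => f (n * g) * conj (ψ (n * g))) (fun g => f g * conj (ψ g)) (fun g => rfl)]
    rw [Finset.mul_sum]
    refine Finset.sum_congr rfl fun g _ => ?_
    have h2 : ψ ((n : X) * g) = w * ψ g := by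
      first
      | exact hw g
      | (have := hw g; rw [Subgroup.mem_center_iff.1 (hN n.2) g] at this; exact this)
    rw [hmul, h2, map_mul]
    ring
  have hww : w * conj w = 1 := by
    have h3 : ψ 1 ≠ 0 := isIrr_apply_one_ne_zero hψ
    -- `w` is a root of unity
    have h4 : ∀ j : ℕ, ψ ((n : X) ^ j) = w ^ j * ψ 1 := by
      intro j
      induction j with
      | zero => simp
      | succ j ih =>
        have h5 : ψ ((n : X) * (n : X) ^ j) = w * ψ ((n : X) ^ j) := by
          first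
          | exact hw _
          | (have := hw ((n : X) ^ j)
             rw [Subgroup.mem_center_iff.1 (hN n.2)] at this; exact this)
        rw [pow_succ', h5, ih]
        ring
    have h5 := h4 (orderOf (n : X))
    rw [pow_orderOf_eq_one] at h5
    have h6 : w ^ orderOf (n : X) = 1 := by
      have : (w ^ orderOf (n : X) - 1) * ψ 1 = 0 := by linear_combination -h5
      rcases mul_eq_zero.1 this with h | h
      · linear_combination h
      · exact absurd h h3
    have h7 : ‖w‖ = 1 := by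
      have h8 : ‖w‖ ^ orderOf (n : X) = 1 := by rw [← norm_pow, h6, norm_one]
      exact (pow_eq_one_iff_of_nonneg (norm_nonneg _) (orderOf_pos _).ne').1 h8
    rw [Complex.mul_conj, Complex.normSq_eq_norm_sq, h7]
    norm_num
  have h2 : (1 - (φ n : ℂ) * conj w) * ∑ g : X, f g * conj (ψ g) = 0 := by
    linear_combination h1
  have h3 : (1 - (φ n : ℂ) * conj w) ≠ 0 := by
    intro h
    apply hwn
    have : (φ n : ℂ) * conj w = 1 := by linear_combination -h
    have h5 : conj w ≠ 0 := by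
      intro h0; rw [h0, mul_zero] at this; exact zero_ne_one this
    apply mul_right_cancel₀ h5
    rw [this, hww]
  rw [classInner_def, (mul_eq_zero.1 h2).resolve_left h3, mul_zero]

end generic

section part1

variable {G : Type u} [Group G] [Fintype G] {E : Subgroup G} (hE : E.Normal) (N : Subgroup E) (φ : N →* ℂˣ)

/-- conjugation on a normal subgroup -/
def cj (x : G) (g : E) : E := ⟨x⁻¹ * g * x, by
  have := hE.conj_mem g g.2 x⁻¹
  rwa [inv_inv] at this⟩

theorem cj_mul (x : G) (a b : E) : cj hE x (a * b) = cj hE x a * cj hE x b := by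
  apply Subtype.ext
  show x⁻¹ * ((a : G) * b) * x = (x⁻¹ * a * x) * (x⁻¹ * b * x)
  group

theorem cj_pow (x : G) (a : E) (m : ℕ) : cj hE x (a ^ m) = cj hE x a ^ m := by
  induction m with
  | zero =>
    apply Subtype.ext
    show x⁻¹ * ((a ^ 0 : E) : G) * x = ((cj hE x a ^ 0 : E) : G)
    rw [pow_zero, pow_zero, Subgroup.coe_one]
    group
  | succ m ih => rw [pow_succ, cj_mul, ih, pow_succ]

open Classical in
/-- the function attached to `k` -/
noncomputable def sf (k g : E) : ℂ :=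
  ∑ x : G, if h : cj hE x g * k⁻¹ ∈ N then ((φ ⟨_, h⟩ : ℂˣ) : ℂ) else 0

variable {N φ} {k : E}

theorem sf_conj (t : G) {g g' : E} (hg : (g' : G) = t * g * t⁻¹) : sf hE N φ k g' = sf hE N φ k g := by
  classical
  unfold sf
  refine Fintype.sum_equiv (Equiv.mulLeft t⁻¹) _ _ fun x => ?_
  have e : cj hE x g' = cj hE (t⁻¹ * x) g := by
    apply Subtype.ext
    show x⁻¹ * (g' : G) * x = (t⁻¹ * x)⁻¹ * g * (t⁻¹ * x)
    rw [hg]
    group
  simp only [Equiv.coe_mulLeft, e]
  rfl

theorem sf_mul (hN : ∀ n : E, n ∈ N → (n : G) ∈ Subgroup.center G) (n : N) (g : E) :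
    sf hE N φ k (n * g) = φ n * sf hE N φ k g := by
  classical
  unfold sf
  rw [Finset.mul_sum]
  refine Finset.sum_congr rfl fun x _ => ?_
  have hc : ∀ y : G, y * ((n : E) : G) = ((n : E) : G) * y := Subgroup.mem_center_iff.1 (hN n n.2)
  have e : cj hE x ((n : E) * g) * k⁻¹ = (n : E) * (cj hE x g * k⁻¹) := by
    apply Subtype.ext
    show x⁻¹ * (((n : E) : G) * g) * x * (k : G)⁻¹ = ((n : E) : G) * ((x⁻¹ * g * x) * (k : G)⁻¹)
    rw [← mul_assoc x⁻¹, hc x⁻¹]
    group
  by_cases h : cj hE x g * k⁻¹ ∈ N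
  · have h' : cj hE x ((n : E) * g) * k⁻¹ ∈ N := by rw [e]; exact N.mul_mem n.2 h
    rw [dif_pos h, dif_pos h']
    have e2 : (⟨_, h'⟩ : N) = n * ⟨_, h⟩ := Subtype.ext e
    rw [e2, map_mul, Units.val_mul]
  · have h' : ¬ cj hE x ((n : E) * g) * k⁻¹ ∈ N := by
      rw [e]
      intro h1
      exact h ((N.mul_mem_cancel_left n.2).1 h1)
    rw [dif_neg h, dif_neg h', mul_zero]

theorem sf_self_ne_zero (hk : ∀ x : G, cj hE x k * k⁻¹ ∈ N → cj hE x k = k) : sf hE N φ k k ≠ 0 := by
  classical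
  have h1 : sf hE N φ k k = ((Finset.univ.filter fun x : G => cj hE x k * k⁻¹ ∈ N).card : ℂ) := by
    unfold sf
    rw [Finset.card_filter]
    push_cast
    refine Finset.sum_congr rfl fun x _ => ?_
    by_cases h : cj hE x k * k⁻¹ ∈ N
    · rw [dif_pos h, if_pos h]
      have h3 := hk x h
      have h4 : (⟨_, h⟩ : N) = 1 := Subtype.ext (by
        show cj hE x k * k⁻¹ = 1
        rw [h3, mul_inv_cancel])
      rw [h4, map_one]
      rfl
    · rw [dif_neg h, if_neg h]
  rw [h1]
  simp only [ne_eq, Nat.cast_eq_zero]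
  apply Finset.card_ne_zero_of_mem (a := 1)
  simp only [Finset.mem_filter, Finset.mem_univ, true_and]
  have : cj hE 1 k * k⁻¹ = 1 := by
    apply Subtype.ext
    show (1 : G)⁻¹ * (k : G) * 1 * (k : G)⁻¹ = 1
    group
  rw [this]
  exact N.one_mem

theorem exists_of_sf_ne_zero {g : E} (h : sf hE N φ k g ≠ 0) : ∃ x : G, cj hE x g * k⁻¹ ∈ N := by
  classical
  obtain ⟨x, -, hx⟩ := Finset.exists_ne_zero_of_sum_ne_zero h
  by_cases h4 : cj hE x g * k⁻¹ ∈ N
  · exact ⟨x, h4⟩
  · rw [dif_neg h4] at hx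
    exact absurd rfl hx

theorem eq_of_coprime (hN : N ≤ Subgroup.center E) {g : E} (hk : (orderOf k).Coprime (Nat.card N))
    (hg : (orderOf g).Coprime (Nat.card N)) {x : G} (h : cj hE x g * k⁻¹ ∈ N) : cj hE x g = k := by
  set y := cj hE x g with hy
  set n : E := y * k⁻¹ with hn
  have hyn : y = n * k := by rw [hn, inv_mul_cancel_right]
  have hyg : y ^ orderOf g = 1 := by
    rw [hy, ← cj_pow, pow_orderOf_eq_one]
    apply Subtype.ext
    show x⁻¹ * (1 : G) * x = 1
    group
  have hc : Commute n k := ((Subgroup.mem_center_iff.1 (hN h)) k).symm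
  have h1 : n ^ (orderOf g * orderOf k) = 1 := by
    have h2 : y ^ (orderOf g * orderOf k) = 1 := by rw [pow_mul, hyg, one_pow]
    rw [hyn, hc.mul_pow, mul_comm (orderOf g), pow_mul k, pow_orderOf_eq_one, one_pow, mul_one] at h2
    rw [mul_comm]
    exact h2
  have h2 : orderOf n ∣ orderOf g * orderOf k := orderOf_dvd_of_pow_eq_one h1
  have h3 : orderOf n ∣ Nat.card N := by
    have : orderOf (⟨n, h⟩ : N) ∣ Nat.card N := orderOf_dvd_natCard _
    rwa [← Subgroup.orderOf_coe] at this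
  have h4 : orderOf n = 1 := Nat.eq_one_of_dvd_coprimes (Nat.Coprime.mul_left hg hk) h2 h3
  rw [orderOf_eq_one_iff] at h4
  rw [hyn, h4, one_mul]

end part1

/-- **Three orbits.** -/
theorem three_of_orders {G : Type u} [Group G] [Finite G] {E : Subgroup G} (hE : E.Normal) (N : Subgroup E) (φ : N →* ℂˣ)
    (hN : ∀ n : E, n ∈ N → (n : G) ∈ Subgroup.center G) (k : Fin 3 → E)
    (hco : ∀ i, (orderOf (k i)).Coprime (Nat.card N)) (hne : ∀ i j, i ≠ j → orderOf (k i) ≠ orderOf (k j)) :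
    ∃ ψ : Fin 3 → E → ℂ, (∀ i, IsIrrCharacter E (ψ i)) ∧ (∀ i, ∀ n : N, ψ i n = ψ i 1 * φ n) ∧
      ∀ i j, i ≠ j → ∀ g : G, ¬ ∀ (x y : E), (y : G) = g * x * g⁻¹ → ψ i y = ψ j x := by
  classical
  have := Fintype.ofFinite G
  have hNE : N ≤ Subgroup.center E := by
    intro n hn
    rw [Subgroup.mem_center_iff]
    intro g
    exact Subtype.ext (Subgroup.mem_center_iff.1 (hN n hn) g)
  -- the three functions
  let F : Fin 3 → E → ℂ := fun i => sf hE N φ (k i)
  have hFc : ∀ i (t : G) (g g' : E), (g' : G) = t * g * t⁻¹ → F i g' = F i g := fun i t g g' h => sf_conj hE t h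
  have hFm : ∀ i (n : N) (g : E), F i (n * g) = φ n * F i g := fun i n g => sf_mul hE hN n g
  have hF0 : ∀ i, F i (k i) ≠ 0 := fun i => sf_self_ne_zero hE fun x hx => eq_of_coprime hE hNE (hco i) (hco i) hx
  have hF1 : ∀ i j, i ≠ j → F i (k j) = 0 := by
    intro i j hij
    by_contra h
    obtain ⟨x, hx⟩ := exists_of_sf_ne_zero hE h
    have h1 := eq_of_coprime hE hNE (hco i) (hco j) hx
    apply hne i j hij
    have h2 : orderOf (cj hE x (k j)) = orderOf (k j) := by
      let c : E →* E := { toFun := cj hE x, map_one' := by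
                            apply Subtype.ext
                            show x⁻¹ * (1 : G) * x = 1
                            group
                          map_mul' := cj_mul hE x }
      have hc : Function.Injective c := by
        intro a b hab
        have h3 : x⁻¹ * (a : G) * x = x⁻¹ * (b : G) * x := congrArg Subtype.val hab
        apply Subtype.ext
        exact mul_left_cancel (mul_right_cancel h3)
      exact orderOf_injective c hc (k j)
    rw [← h2, h1]
  -- conjugacy of characters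
  let R : (E → ℂ) → (E → ℂ) → Prop := fun a b => ∃ g : G, ∀ x y : E, (y : G) = g * x * g⁻¹ → a y = b x
  have hRs : ∀ a b, R a b → R b a := by
    rintro a b ⟨g, hg⟩
    refine ⟨g⁻¹, fun x y hxy => ?_⟩
    symm
    apply hg
    rw [hxy]
    group
  have hRi : ∀ i a b, R a b → classInner (F i) a = classInner (F i) b := by
    rintro i a b ⟨g, hg⟩
    rw [classInner_def, classInner_def]
    congr 1
    symm
    refine Fintype.sum_equiv (MulAut.conjNormal (H := E) g).toEquiv _ _ fun x => ?_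
    have h1 : ((MulAut.conjNormal (H := E) g x : E) : G) = g * x * g⁻¹ := MulAut.conjNormal_apply g x
    show F i x * conj (b x) = F i (MulAut.conjNormal g x) * conj (a (MulAut.conjNormal g x))
    rw [hFc i g x _ h1, hg x _ h1]
  by_contra hcon
  -- two representatives
  have hO : ∀ ψ₀ ψ₁ ψ₂ : E → ℂ, IsIrrCharacter E ψ₀ → IsIrrCharacter E ψ₁ → IsIrrCharacter E ψ₂ →
      (∀ n : N, ψ₀ n = ψ₀ 1 * φ n) → (∀ n : N, ψ₁ n = ψ₁ 1 * φ n) → (∀ n : N, ψ₂ n = ψ₂ 1 * φ n) →
      R ψ₀ ψ₁ ∨ R ψ₀ ψ₂ ∨ R ψ₁ ψ₂ := by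
    intro ψ₀ ψ₁ ψ₂ h0 h1 h2 o0 o1 o2
    by_contra hno
    push Not at hno
    obtain ⟨n01, n02, n12⟩ := hno
    apply hcon
    refine ⟨![ψ₀, ψ₁, ψ₂], ?_, ?_, ?_⟩
    · intro i; fin_cases i
      · exact h0
      · exact h1
      · exact h2
    · intro i; fin_cases i
      · exact o0
      · exact o1
      · exact o2
    · intro i j hij g hg
      have hR : R (![ψ₀, ψ₁, ψ₂] i) (![ψ₀, ψ₁, ψ₂] j) := ⟨g, hg⟩
      fin_cases i <;> fin_cases j
      · exact hij rfl
      · exact n01 hR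
      · exact n02 hR
      · exact n01 (hRs _ _ hR)
      · exact hij rfl
      · exact n12 hR
      · exact n02 (hRs _ _ hR)
      · exact n12 (hRs _ _ hR)
      · exact hij rfl
  have hrep : ∃ ψ₀ ψ₁ : E → ℂ, ∀ ψ : E → ℂ, IsIrrCharacter E ψ → (∀ n : N, ψ n = ψ 1 * φ n) → R ψ₀ ψ ∨ R ψ₁ ψ := by
    by_cases hex : ∃ ψ₀ ψ₁ : E → ℂ, IsIrrCharacter E ψ₀ ∧ IsIrrCharacter E ψ₁ ∧ (∀ n : N, ψ₀ n = ψ₀ 1 * φ n) ∧
        (∀ n : N, ψ₁ n = ψ₁ 1 * φ n) ∧ ¬ R ψ₀ ψ₁
    · obtain ⟨ψ₀, ψ₁, h0, h1, o0, o1, h01⟩ := hex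
      refine ⟨ψ₀, ψ₁, fun ψ hψ ho => ?_⟩
      rcases hO ψ₀ ψ₁ ψ h0 h1 hψ o0 o1 ho with h | h | h
      · exact absurd h h01
      · exact Or.inl h
      · exact Or.inr h
    · push Not at hex
      by_cases hex2 : ∃ ψ₀ : E → ℂ, IsIrrCharacter E ψ₀ ∧ ∀ n : N, ψ₀ n = ψ₀ 1 * φ n
      · obtain ⟨ψ₀, h0, o0⟩ := hex2
        exact ⟨ψ₀, ψ₀, fun ψ hψ ho => Or.inl (hex ψ₀ ψ h0 hψ o0 ho)⟩
      · push Not at hex2
        refine ⟨0, 0, fun ψ hψ ho => ?_⟩
        obtain ⟨n, hn⟩ := hex2 ψ hψ
        exact absurd (ho n) hn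
  obtain ⟨ψ₀, ψ₁, hrep⟩ := hrep
  -- a linear relation
  let A : Matrix (Fin 2) (Fin 3) ℂ := fun j i => classInner (F i) (![ψ₀, ψ₁] j)
  have hker : LinearMap.ker A.mulVecLin ≠ ⊥ := by
    apply LinearMap.ker_ne_bot_of_finrank_lt
    simp
  obtain ⟨c, hc, hc0⟩ := (Submodule.ne_bot_iff _).1 hker
  have hc1 : ∀ j, ∑ i, classInner (F i) (![ψ₀, ψ₁] j) * c i = 0 := by
    intro j
    exact congrFun (LinearMap.mem_ker.1 hc) j
  apply hc0
  -- the relation between the functions
  have hzero : (∑ i, c i • F i) = 0 := by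
    apply classFunction_eq_zero
    · intro g h
      simp only [Finset.sum_apply, Pi.smul_apply]
      refine Finset.sum_congr rfl fun i _ => ?_
      rw [hFc i (h : G) g (h * g * h⁻¹) rfl]
    · intro ψ hψ
      rw [classInner_sum_left]
      by_cases ho : ∀ n : N, ψ n = ψ 1 * φ n
      · have h1 : ∀ j, R (![ψ₀, ψ₁] j) ψ → ∑ i, classInner (c i • F i) ψ = 0 := by
          intro j hj
          rw [← hc1 j]
          refine Finset.sum_congr rfl fun i _ => ?_
          rw [classInner_smul_left, hRi i _ _ hj, mul_comm]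
        rcases hrep ψ hψ ho with h | h
        · exact h1 0 h
        · exact h1 1 h
      · refine Finset.sum_eq_zero fun i _ => ?_
        rw [classInner_smul_left, inner_eq_zero hNE (hFm i) hψ ho, mul_zero]
  funext j
  have h1 := congrFun hzero (k j)
  rw [Finset.sum_apply, Finset.sum_eq_single j] at h1
  · rw [Pi.smul_apply, smul_eq_mul, Pi.zero_apply] at h1
    exact (mul_eq_zero.1 h1).resolve_right (hF0 j)
  · intro i _ hij
    rw [Pi.smul_apply, hF1 i j hij, smul_zero]
  · intro h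
    exact absurd (Finset.mem_univ _) h

end Cfsg.Agent.H548.RIM

private theorem dce_971e9e9eb075 : _root_.True := by
  try have : _root_.True := by simp only [_root_.Cfsg.Agent.H548.RIM.cj.congr_simp]
  exact _root_.True.intro
end

-- part: H588/RIM/Val
section
set_option linter.all false
open scoped Cfsg.Agent.FastGrp

/-!
# S4816: values at a rational element of prime order whose square does not divide the order (helper588)
-/

set_option autoImplicit false

namespace Cfsg.Agent.H588.RIM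

open Cfsg Subgroup
open scoped ComplexConjugate
open Cfsg.Agent.Characters.Core Cfsg.Agent.Characters.Values

universe u

variable {L : Type u} [Group L] [Finite L]

omit [Finite L] in
theorem ord_conj (g y : L) : orderOf (g * y * g⁻¹) = orderOf y := by
  rw [← MulAut.conj_apply, MulEquiv.orderOf_eq]

theorem exists_pow_of_mem {x y : L} (h : x ∈ zpowers y) : ∃ j : ℕ, y ^ j = x := by
  rw [← mem_powers_iff_mem_zpowers] at h
  exact h

/-- elements of prime order `r`, `r²` not dividing the order, one of them rational: all are conjugate -/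
theorem conj_all {r : ℕ} [hr : Fact r.Prime] (hL : ¬ r ^ 2 ∣ Nat.card L) {y : L} (hy : orderOf y = r)
    (hc : ∀ j : ℕ, ¬ r ∣ j → IsConj y (y ^ j)) {s : L} (hs : orderOf s = r) : IsConj y s := by
  have h1 : r ∣ Nat.card L := hy ▸ orderOf_dvd_natCard y
  have hf : (Nat.card L).factorization r = 1 := by
    have h0 : Nat.card L ≠ 0 := Nat.card_pos.ne'
    have h2 := (hr.out.pow_dvd_iff_le_factorization h0 (k := 1)).1 (by rwa [pow_one])
    have h3 := mt (hr.out.pow_dvd_iff_le_factorization h0 (k := 2)).2 hL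
    omega
  have hcard : ∀ z : L, orderOf z = r → Nat.card (zpowers z) = r ^ (Nat.card L).factorization r := by
    intro z hz
    rw [Nat.card_zpowers, hz, hf, pow_one]
  let P : Sylow r L := Sylow.ofCard (zpowers y) (hcard y hy)
  let S : Sylow r L := Sylow.ofCard (zpowers s) (hcard s hs)
  obtain ⟨g, hg⟩ := MulAction.exists_smul_eq L P S
  have h2 : g * y * g⁻¹ ∈ zpowers s := by
    have h3 : g * y * g⁻¹ ∈ ((g • P : Sylow r L) : Subgroup L) := by
      rw [Sylow.coe_subgroup_smul]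
      exact ⟨y, mem_zpowers y, rfl⟩
    rw [hg] at h3
    exact h3
  have h3 : s ∈ zpowers (g * y * g⁻¹) := by
    have h4 : zpowers (g * y * g⁻¹) = zpowers s := by
      apply eq_of_le_of_card_ge (zpowers_le.2 h2)
      rw [Nat.card_zpowers, Nat.card_zpowers, hs, ord_conj, hy]
    rw [h4]
    exact mem_zpowers s
  obtain ⟨j, hj⟩ := exists_pow_of_mem h3
  have hjr : ¬ r ∣ j := by
    intro h
    have h5 : s = 1 := by
      rw [← hj]
      obtain ⟨t, rfl⟩ := h
      rw [pow_mul, ← hy, ← ord_conj g y, pow_orderOf_eq_one, one_pow]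
    rw [h5, orderOf_one] at hs
    exact hr.out.one_lt.ne hs
  have h6 : IsConj (y ^ j) s := by
    rw [isConj_iff]
    refine ⟨g, ?_⟩
    rw [← hj, conj_pow]
  exact (hc j hjr).trans h6

omit [Finite L] in
/-- from one conjugating element -/
theorem conj_pow_of {y g : L} {r k : ℕ} (hy : y ^ r = 1) (hg : g * y * g⁻¹ = y ^ k)
    (hk : ∀ j < r, j ≠ 0 → ∃ i < r, k ^ i % r = j) (hr : 0 < r) (j : ℕ) (hj : ¬ r ∣ j) : IsConj y (y ^ j) := by
  have h1 : ∀ i : ℕ, IsConj y (y ^ k ^ i) := by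
    intro i
    induction i with
    | zero => rw [pow_zero, pow_one]
    | succ i ih =>
      refine ih.trans ?_
      rw [isConj_iff]
      refine ⟨g, ?_⟩
      rw [← conj_pow, hg, ← pow_mul, pow_succ', mul_comm]
  obtain ⟨i, -, hi⟩ := hk (j % r) (Nat.mod_lt _ hr) (fun h => hj (Nat.dvd_of_mod_eq_zero h))
  have h2 : y ^ k ^ i = y ^ j := by
    rw [← Nat.mod_add_div (k ^ i) r, ← Nat.mod_add_div j r, hi, pow_add, pow_add, pow_mul, pow_mul, hy, one_pow, one_pow]
  rw [← h2]
  exact h1 i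

/-- the value at such an element -/
theorem exists_val {θ : L → ℂ} (hθ : IsIrrCharacter L θ) {r : ℕ} (hr : r.Prime) {y : L} (hy : orderOf y = r)
    (hc : ∀ j : ℕ, ¬ r ∣ j → IsConj y (y ^ j)) :
    ∃ m : ℤ, θ y = m ∧ (r : ℤ) ∣ (charDegree θ : ℤ) - m ∧ m * m ≤ Nat.card (centralizer ({y} : Set L)) := by
  classical
  have := Fintype.ofFinite L
  have := Fintype.ofFinite (zpowers y)
  have : Finite (IrrCharacter L) := finite_irr (G := L)
  have : Fintype (IrrCharacter L) := Fintype.ofFinite _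
  have hd := Blocks.Basic.irr_one_eq_charDegree hθ
  have ha : ∀ x ∈ zpowers y, x ≠ 1 → θ x = θ y := by
    intro x hx hx1
    obtain ⟨j, hj⟩ := exists_pow_of_mem hx
    rw [← hj]
    refine (Blocks.Basic.irr_isConj hθ (hc j ?_)).symm
    rintro ⟨t, rfl⟩
    apply hx1
    rw [← hj, pow_mul, ← hy, pow_orderOf_eq_one, one_pow]
  obtain ⟨m, hm⟩ := classInner_isNat (isCharacter_comp (zpowers y).subtype (isIrr_isCharacter hθ))
    (isCharacter_one (G := zpowers y))
  have hcard : Nat.card (zpowers y) = r := by rw [Nat.card_zpowers, hy]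
  have h1 : (charDegree θ : ℂ) + ((r : ℂ) - 1) * θ y = r * m := by
    rw [classInner_def] at hm
    have h2 : ∑ g : zpowers y, (θ ∘ (zpowers y).subtype) g * conj ((1 : zpowers y → ℂ) g) =
        (charDegree θ : ℂ) + ((r : ℂ) - 1) * θ y := by
      rw [← Finset.add_sum_erase Finset.univ _ (Finset.mem_univ (1 : zpowers y))]
      congr 1
      · simp [hd]
      · rw [Finset.sum_congr rfl (g := fun _ => θ y)]
        · rw [Finset.sum_const, Finset.card_erase_of_mem (Finset.mem_univ _), Finset.card_univ,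
            ← Nat.card_eq_fintype_card, hcard, nsmul_eq_mul, Nat.cast_sub hr.one_lt.le, Nat.cast_one]
        · intro g hg
          have hg1 : g ≠ 1 := (Finset.mem_erase.1 hg).1
          have : θ g = θ y := ha g g.2 fun h => hg1 (Subtype.ext h)
          simp [this]
    rw [h2, hcard] at hm
    have hr0 : (r : ℂ) ≠ 0 := by exact_mod_cast hr.ne_zero
    rw [← hm, ← mul_assoc, mul_inv_cancel₀ hr0, one_mul]
  -- the value is rational, hence an integer
  obtain ⟨a, haz⟩ : ∃ a : ℤ, θ y = a := by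
    have hr1 : ((r : ℂ) - 1) ≠ 0 := by
      have : (r : ℂ) ≠ 1 := by exact_mod_cast hr.one_lt.ne'
      exact sub_ne_zero.2 this
    apply Cfsg.Agent.Characters.GaloisBasic.exists_int_of_rat (isIrr_isCharacter hθ)
    refine ⟨((r : ℚ) * m - charDegree θ) / ((r : ℚ) - 1), ?_⟩
    push_cast
    rw [eq_div_iff hr1]
    linear_combination h1
  refine ⟨a, haz, ?_, ?_⟩
  · rw [haz] at h1
    have h2 : (charDegree θ : ℤ) + ((r : ℤ) - 1) * a = r * m := by exact_mod_cast h1
    exact ⟨m - a, by linear_combination h2⟩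
  · have h1 := S0145.sum_irr_mul_conj y y
    rw [if_pos (IsConj.refl y)] at h1
    have h2 : ∀ χ : IrrCharacter L, (χ : L → ℂ) y * conj ((χ : L → ℂ) y) = (Complex.normSq ((χ : L → ℂ) y) : ℂ) :=
      fun χ => Complex.mul_conj _
    rw [Finset.sum_congr rfl fun χ _ => h2 χ] at h1
    have h3 : ∑ χ : IrrCharacter L, Complex.normSq ((χ : L → ℂ) y) = (Nat.card (centralizer ({y} : Set L)) : ℝ) := by
      exact_mod_cast h1
    have h4 : Complex.normSq (θ y) ≤ ∑ χ : IrrCharacter L, Complex.normSq ((χ : L → ℂ) y) :=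
      Finset.single_le_sum (f := fun χ : IrrCharacter L => Complex.normSq ((χ : L → ℂ) y))
        (fun χ _ => Complex.normSq_nonneg _) (Finset.mem_univ ⟨θ, hθ⟩)
    rw [h3, haz] at h4
    have h5 : Complex.normSq (a : ℂ) = (a : ℝ) * a := by
      rw [Complex.normSq_intCast]
    rw [h5] at h4
    exact_mod_cast h4

end Cfsg.Agent.H588.RIM
end

-- part: H35/RIM/BR1
section
set_option linter.all false
open scoped Cfsg.Agent.FastGrp

/-!
# S4816, TOOL-BR1 (helper35): Brauer's first main theorem as a source of characters of degree divisible by `p`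

* `exists_block` : `Q` an abelian `p`-subgroup, `p ∤ |N(Q) : C(Q)|`, `θ ∈ Irr(C(Q))` of defect zero modulo `Q`: there is
  a block with defect group `Q` induced by the block of `θ`;
* `exists_dvd` : if `Q` is not a Sylow subgroup there is `χ ∈ Irr(G)` with `p ∣ χ(1)` and the same scalars as `θ` on the
  central `p'`-elements.
-/

set_option autoImplicit false

namespace Cfsg.Agent.H35.RIM

open Cfsg Cfsg.Agent.Blocks.Local Cfsg.Agent.H592.Transport

universe u

variable {G : Type u} [Group G] {p : ℕ} [hp : Fact p.Prime] {M : Ideal AlgInt}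

omit hp in
/-- roots of unity of order prime to `p` which are congruent are equal -/
theorem root_eq (hM : IsPModular p M) {m : ℕ} (hm : ¬ p ∣ m) {a b : ℂ} (ha : a ^ m = 1) (hb : b ^ m = 1)
    (h : MemLocalIdeal M (a - b)) : a = b := by
  have hprime : M.IsPrime := isPrime_of_isPModular hM
  have hm0 : m ≠ 0 := by
    rintro rfl
    exact hm (dvd_zero p)
  have hia : IsIntegral ℤ a := by
    refine ⟨Polynomial.X ^ m - 1, Polynomial.monic_X_pow_sub_C (1 : ℤ) hm0, ?_⟩
    simp [ha]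
  have hib : IsIntegral ℤ b := by
    refine ⟨Polynomial.X ^ m - 1, Polynomial.monic_X_pow_sub_C (1 : ℤ) hm0, ?_⟩
    simp [hb]
  by_contra hne
  set c := a * b ^ (m - 1) with hc
  have hbm : b ^ (m - 1) * b = 1 := by rw [← pow_succ, Nat.sub_add_cancel (Nat.pos_of_ne_zero hm0), hb]
  have hc1 : c ≠ 1 := by
    intro e
    apply hne
    calc a = a * (b ^ (m - 1) * b) := by rw [hbm, mul_one]
      _ = c * b := by rw [hc]; ring
      _ = b := by rw [e, one_mul]
  have hcm : c ^ m = 1 := by rw [hc, mul_pow, ha, ← pow_mul, mul_comm (m - 1) m, pow_mul, hb, one_pow, mul_one]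
  have hgeom : ∑ i ∈ Finset.range m, c ^ i = 0 := by
    have := mul_geom_sum c m
    rw [hcm, sub_self] at this
    exact (mul_eq_zero.1 this).resolve_left (sub_ne_zero.2 hc1)
  have hic : MemLocalRing M c :=
    memLocalRing_mul (memLocalRing_of_isIntegral hia) (memLocalRing_pow (memLocalRing_of_isIntegral hib) _)
  have hcc : MemLocalIdeal M (c - 1) := by
    have e : c - 1 = (a - b) * b ^ (m - 1) := by
      rw [sub_mul, hc, mul_comm b, hbm]
    rw [e]
    exact memLocalIdeal_mul_right h (memLocalRing_pow (memLocalRing_of_isIntegral hib) _)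
  have h2 : MemLocalIdeal M (∑ i ∈ Finset.range m, c ^ i - ∑ i ∈ Finset.range m, (1 : ℂ) ^ i) := by
    refine memLocalIdeal_sum_sub_sum fun i _ => ?_
    exact memLocalIdeal_pow_sub_pow hic memLocalRing_one hcc i
  rw [hgeom] at h2
  simp only [one_pow, Finset.sum_const, Finset.card_range, nsmul_eq_mul, mul_one, zero_sub] at h2
  rw [memLocalIdeal_neg_iff, memLocalIdeal_natCast_iff hM] at h2
  exact hm h2

variable {Q : Subgroup G}

/-- conjugation on the centralizer -/
def cq (Q : Subgroup G) {g : G} (hg : g ∈ Subgroup.normalizer (Q : Set G)) :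
    ↥(Subgroup.centralizer (Q : Set G)) ≃* ↥(Subgroup.centralizer (Q : Set G)) where
  toFun x := ⟨g⁻¹ * x * g, by
    have := Cfsg.Agent.Blocks.BrauerMap.conj_mem_centralizer (Subgroup.inv_mem _ hg) x.2
    rwa [inv_inv] at this⟩
  invFun x := ⟨g * x * g⁻¹, Cfsg.Agent.Blocks.BrauerMap.conj_mem_centralizer hg x.2⟩
  left_inv x := Subtype.ext (by
    show g * (g⁻¹ * x * g) * g⁻¹ = x
    group)
  right_inv x := Subtype.ext (by
    show g⁻¹ * (g * x * g⁻¹) * g = x
    group)
  map_mul' x y := Subtype.ext (by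
    show g⁻¹ * (x * y) * g = g⁻¹ * x * g * (g⁻¹ * y * g)
    group)

/-- the stabilizer of a set of characters of `C(Q)` in `N(Q)` -/
def stabM (Q : Subgroup G) (b : Set (IrrCharacter ↥(Subgroup.centralizer (Q : Set G)))) : Submonoid G where
  carrier := {g | g ∈ Subgroup.normalizer (Q : Set G) ∧ ∀ θ ∈ b, ∀ θ' : IrrCharacter ↥(Subgroup.centralizer (Q : Set G)),
    (∀ h h' : ↥(Subgroup.centralizer (Q : Set G)), (h' : G) = g * h * g⁻¹ → (θ' : _ → ℂ) h' = (θ : _ → ℂ) h) → θ' ∈ b}
  one_mem' := by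
    refine ⟨Subgroup.one_mem _, fun θ hθ θ' h => ?_⟩
    have : θ' = θ := by
      apply Subtype.ext
      funext x
      exact h x x (by group)
    rw [this]
    exact hθ
  mul_mem' := by
    rintro a c ⟨ha, ha'⟩ ⟨hc, hc'⟩
    refine ⟨Subgroup.mul_mem _ ha hc, fun θ hθ θ' h => ?_⟩
    have h1 : tr (cq Q hc) θ ∈ b := by
      refine hc' θ hθ _ fun x x' hx => ?_
      rw [tr_apply]
      have e : cq Q hc x' = x := by
        apply Subtype.ext
        show c⁻¹ * (x' : G) * c = x
        rw [hx]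
        group
      rw [e]
    refine ha' _ h1 θ' fun x x' hx => ?_
    rw [tr_apply]
    refine h _ x' ?_
    show (x' : G) = a * c * (c⁻¹ * (x : G) * c) * (a * c)⁻¹
    rw [hx]
    group

/-- the stabilizer as a subgroup -/
def stab [Finite G] (Q : Subgroup G) (b : Set (IrrCharacter ↥(Subgroup.centralizer (Q : Set G)))) : Subgroup G :=
  { stabM Q b with
    inv_mem' := by
      intro g hg
      have h1 : g⁻¹ = g ^ (orderOf g - 1) := by
        rw [inv_eq_iff_mul_eq_one, ← pow_succ', Nat.sub_add_cancel (orderOf_pos g), pow_orderOf_eq_one]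
      rw [h1]
      exact (stabM Q b).pow_mem hg _ }

theorem mem_stab [Finite G] {b : Set (IrrCharacter ↥(Subgroup.centralizer (Q : Set G)))} {g : G} :
    g ∈ stab Q b ↔ g ∈ Subgroup.normalizer (Q : Set G) ∧ ∀ θ ∈ b,
      ∀ θ' : IrrCharacter ↥(Subgroup.centralizer (Q : Set G)),
        (∀ h h' : ↥(Subgroup.centralizer (Q : Set G)), (h' : G) = g * h * g⁻¹ → (θ' : _ → ℂ) h' = (θ : _ → ℂ) h) →
          θ' ∈ b := Iff.rfl

theorem le_stab [Finite G] (b : Set (IrrCharacter ↥(Subgroup.centralizer (Q : Set G)))) :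
    Subgroup.centralizer (Q : Set G) ≤ stab Q b := by
  intro g hg
  refine ⟨Subgroup.centralizer_le_normalizer _ hg, fun θ hθ θ' h => ?_⟩
  have : θ' = θ := by
    apply Subtype.ext
    funext x
    have h1 := h x (⟨g, hg⟩ * x * ⟨g, hg⟩⁻¹) rfl
    rw [← h1]
    exact (Cfsg.Agent.Characters.Core.isIrr_isClassFunction θ'.2 x ⟨g, hg⟩).symm
  rw [this]
  exact hθ

/-- **a block with defect group `Q`** -/
theorem exists_block [Finite G] (hM : IsPModular p M) (hQ : IsPGroup p Q)
    (hQa : Q ≤ Subgroup.centralizer (Q : Set G))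
    (hN : ¬ p ∣ (Subgroup.centralizer (Q : Set G)).relIndex (Subgroup.normalizer (Q : Set G)))
    (θ : IrrCharacter ↥(Subgroup.centralizer (Q : Set G)))
    (hdeg : (charDegree (θ : ↥(Subgroup.centralizer (Q : Set G)) → ℂ)).factorization p =
      (Q.subgroupOf (Subgroup.centralizer (Q : Set G))).index.factorization p) :
    ∃ B : Set (IrrCharacter G), IsDefectGroup p M B Q ∧
      IsInducedBlock M (Subgroup.centralizer (Q : Set G))
        (blockOf M (θ : ↥(Subgroup.centralizer (Q : Set G)) → ℂ)) B := by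
  classical
  haveI := Fintype.ofFinite G
  haveI := Fintype.ofFinite ↥(Subgroup.centralizer (Q : Set G))
  have hb : IsPBlock M (blockOf M (θ : ↥(Subgroup.centralizer (Q : Set G)) → ℂ)) := ⟨θ, rfl⟩
  obtain ⟨B, hB⟩ := Cfsg.Agent.S0919.result p M hM Q (Subgroup.centralizer (Q : Set G)) hQ hQa le_rfl (Subgroup.centralizer_le_normalizer _) _ hb
  refine ⟨B, ?_, hB⟩
  have hbQ := (Cfsg.Agent.S0969.result p M hM (Q.subgroupOf (Subgroup.centralizer (Q : Set G))) hQ.comap_subtype (by
    intro x hx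
    rw [Subgroup.mem_center_iff]
    intro y
    apply Subtype.ext
    exact (Subgroup.mem_centralizer_iff.1 y.2 x (Subgroup.mem_subgroupOf.1 hx)).symm) θ hdeg).1
  refine (Cfsg.Agent.S4437.result p M hM Q hQ (Subgroup.centralizer (Q : Set G)) (by rw [sup_eq_right.2 hQa]) _ hb hbQ B hB
    (stab Q (blockOf M (θ : ↥(Subgroup.centralizer (Q : Set G)) → ℂ))) fun g => mem_stab).2 ?_
  intro hd
  apply hN
  have h1 : stab Q (blockOf M (θ : ↥(Subgroup.centralizer (Q : Set G)) → ℂ)) ≤ Subgroup.normalizer (Q : Set G) := fun g hg => hg.1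
  rw [← Subgroup.relIndex_mul_relIndex (Subgroup.centralizer (Q : Set G)) _ _ (le_stab _) h1]
  exact hd.mul_right _

/-- scalars of central elements -/
theorem central_value [Finite G] {χ : G → ℂ} (hχ : IsIrrCharacter G χ) {z : G} (hz : z ∈ Subgroup.center G) :
    (χ z / χ 1) ^ orderOf z = 1 := by
  obtain ⟨c, -, hc⟩ := Cfsg.Agent.Blocks.CentralizerSum.exists_central_scalar hχ hz
  have h1 : χ 1 ≠ 0 := Cfsg.Agent.Characters.Core.isIrr_apply_one_ne_zero hχ
  have h2 : ∀ m : ℕ, χ (z ^ m) = c ^ m * χ 1 := by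
    intro m
    induction m with
    | zero => simp
    | succ m ih => rw [pow_succ', hc, ih, pow_succ']; ring
  have h3 : χ z / χ 1 = c := by
    have := h2 1
    rw [pow_one, pow_one] at this
    rw [this, mul_div_assoc, div_self h1, mul_one]
  have h4 := h2 (orderOf z)
  rw [pow_orderOf_eq_one] at h4
  rw [h3]
  exact (mul_right_cancel₀ h1 (by rw [one_mul]; exact h4)).symm

/-- **a character of degree divisible by `p`** -/
theorem exists_dvd [Finite G] (hM : IsPModular p M) (hQ : IsPGroup p Q)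
    (hQa : Q ≤ Subgroup.centralizer (Q : Set G))
    (hN : ¬ p ∣ (Subgroup.centralizer (Q : Set G)).relIndex (Subgroup.normalizer (Q : Set G)))
    (hns : Nat.card Q * p ∣ Nat.card G)
    (θ : IrrCharacter ↥(Subgroup.centralizer (Q : Set G)))
    (hdeg : (charDegree (θ : ↥(Subgroup.centralizer (Q : Set G)) → ℂ)).factorization p =
      (Q.subgroupOf (Subgroup.centralizer (Q : Set G))).index.factorization p) :
    ∃ χ : IrrCharacter G, p ∣ charDegree (χ : G → ℂ) ∧ ∀ z : G, ∀ hz : z ∈ Subgroup.center G, ¬ p ∣ orderOf z →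
      (χ : G → ℂ) z / (χ : G → ℂ) 1 = (θ : ↥(Subgroup.centralizer (Q : Set G)) → ℂ)
        ⟨z, Subgroup.center_le_centralizer _ hz⟩ / (θ : ↥(Subgroup.centralizer (Q : Set G)) → ℂ) 1 := by
  classical
  obtain ⟨B, hBQ, hind⟩ := exists_block hM hQ hQa hN θ hdeg
  obtain ⟨hb, hB, hcong⟩ := hind
  have hB' := hB
  obtain ⟨χ, rfl⟩ := hB
  have hprime : M.IsPrime := isPrime_of_isPModular hM
  have hχB : χ ∈ blockOf M (χ : G → ℂ) := by
    intro g
    rw [sub_self]
    exact memLocalIdeal_zero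
  have hθb : θ ∈ blockOf M (θ : ↥(Subgroup.centralizer (Q : Set G)) → ℂ) := by
    intro g
    rw [sub_self]
    exact memLocalIdeal_zero
  refine ⟨χ, ?_, ?_⟩
  · have h1 := Cfsg.Agent.S0908.result p M hM _ hB' Q hBQ
    rw [blockDefect] at h1
    set s := sInf ((fun χ : IrrCharacter G => (charDegree (χ : G → ℂ)).factorization p) '' blockOf M (χ : G → ℂ)) with hs
    have h2 : s ≤ (charDegree (χ : G → ℂ)).factorization p := Nat.sInf_le ⟨χ, hχB, rfl⟩
    have h3 : s ≠ 0 := by
      intro e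
      rw [e, Nat.sub_zero] at h1
      rw [h1, ← pow_succ] at hns
      exact Nat.pow_succ_factorization_not_dvd Nat.card_pos.ne' hp.out hns
    exact Nat.dvd_of_factorization_pos (by omega)
  · intro z hz hzp
    have h1 := hcong θ hθb χ hχB z
    have e1 : inducedCentralChar (Subgroup.centralizer (Q : Set G)) (θ : ↥(Subgroup.centralizer (Q : Set G)) → ℂ) z =
        (θ : ↥(Subgroup.centralizer (Q : Set G)) → ℂ) ⟨z, Subgroup.center_le_centralizer _ hz⟩ /
          (θ : ↥(Subgroup.centralizer (Q : Set G)) → ℂ) 1 := by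
      rw [inducedCentralChar]
      have e2 : {h : ↥(Subgroup.centralizer (Q : Set G)) | IsConj z (h : G)} =
          {⟨z, Subgroup.center_le_centralizer _ hz⟩} := by
        ext h
        rw [Set.mem_ofPred_eq, Set.mem_singleton_iff]
        constructor
        · intro h2
          obtain ⟨c, hc⟩ := isConj_iff.1 h2
          apply Subtype.ext
          show (h : G) = z
          rw [← hc, Subgroup.mem_center_iff.1 hz c, mul_inv_cancel_right]
        · rintro rfl
          exact IsConj.refl _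
      rw [e2, finsum_mem_singleton]
    have e3 : centralChar (χ : G → ℂ) z = (χ : G → ℂ) z / (χ : G → ℂ) 1 := by
      rw [centralChar]
      have e4 : Subgroup.centralizer ({z} : Set G) = ⊤ := by
        rw [Subgroup.eq_top_iff']
        intro g
        rw [Subgroup.mem_centralizer_singleton_iff]
        exact Subgroup.mem_center_iff.1 hz g
      rw [e4, Subgroup.index_top, Nat.cast_one, one_mul]
    rw [e1, e3] at h1
    have hz' : (⟨z, Subgroup.center_le_centralizer _ hz⟩ : ↥(Subgroup.centralizer (Q : Set G))) ∈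
        Subgroup.center ↥(Subgroup.centralizer (Q : Set G)) := by
      rw [Subgroup.mem_center_iff]
      intro g
      apply Subtype.ext
      exact Subgroup.mem_center_iff.1 hz g
    refine (root_eq hM hzp ?_ (central_value χ.2 hz) h1).symm
    have h5 := central_value θ.2 hz'
    rwa [← Subgroup.orderOf_coe] at h5

end Cfsg.Agent.H35.RIM

private theorem dce_5ff06b807b73 : _root_.True := by
  try have : _root_.True := by simp only [_root_.Cfsg.blockDefect.eq_1]
  try have : _root_.True := by simp only [_root_.Cfsg.inducedCentralChar.eq_1]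
  exact _root_.True.intro
end

-- part: H388/RI/Chain
section
prune_inst 0x220080000000000000080000000000001c410002
set_option linter.all false
open scoped Cfsg.Agent.FastGrp

/-!
# S4816, module side: the covering bound and the chain bound (helper388)

`L` perfect, `π : L →* S` onto the simple group `S` with a central kernel of order prime to `p`, `|S| = N p ^ a`, `p ∤ N`;
`V` a finite `F_p L`-module without fixed vectors all of whose stabilizers have index prime to `p`.
* `cov` : `|V : C_V(P)| ≤ N` for every Sylow `p`-subgroup `P`;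
* `cov_pow` : `|V : C_V(P)| = p ^ e` with `p ^ e ≤ N`;
* `gen` : `|V| ≤ |V : C_V(P)| ^ (j + 1)` for some `j` with `(p + 1) ^ j ≤ N`;
* `chain` : the numerical form.
-/

set_option autoImplicit false

namespace Cfsg.Agent.H388.RI

open Subgroup MulAction
open scoped commutatorElement

variable {L : Type*} [Group L] {p : ℕ}

/-- one step of the chain -/
theorem step [Finite L] (hp : p.Prime) {K P : Subgroup L} (hK : ¬ p ∣ K.index) (hP : IsPGroup p P) (h : ¬ P ≤ K) :
    (p + 1) * Nat.card K ≤ Nat.card ↥(K ⊔ P) := by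
  have : Fact p.Prime := ⟨hp⟩
  have hr : K.relIndex (K ⊔ P) * (K ⊔ P).index = K.index := relIndex_mul_index le_sup_left
  have hrp : ¬ p ∣ K.relIndex (K ⊔ P) := fun hd => hK (hr ▸ Dvd.dvd.mul_right hd _)
  have hc : Nat.card K * K.relIndex (K ⊔ P) = Nat.card ↥(K ⊔ P) := by
    have := Subgroup.card_mul_index (K.subgroupOf (K ⊔ P))
    rw [Nat.card_congr (Subgroup.subgroupOfEquivOfLe (le_sup_left : K ≤ K ⊔ P)).toEquiv] at this
    exact this
  have h1 : K.relIndex P ≤ K.relIndex (K ⊔ P) :=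
    Subgroup.relIndex_le_of_le_right le_sup_right (Subgroup.index_ne_zero_of_finite)
  have h2 : p ≤ K.relIndex P := by
    obtain ⟨n, hn⟩ := (IsPGroup.iff_card (p := p) (G := P)).1 hP
    have h3 : K.relIndex P ∣ p ^ n := by
      rw [← hn]
      exact Subgroup.index_dvd_card _
    obtain ⟨j, -, hj⟩ := (Nat.dvd_prime_pow hp).1 h3
    rw [hj]
    rcases Nat.eq_zero_or_pos j with rfl | hj0
    · exfalso
      apply h
      rw [pow_zero] at hj
      exact Subgroup.relIndex_eq_one.1 hj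
    · calc p = p ^ 1 := (pow_one p).symm
        _ ≤ p ^ j := Nat.pow_le_pow_right hp.pos hj0
  have h3 : p + 1 ≤ K.relIndex (K ⊔ P) := by
    rcases Nat.lt_or_ge p (K.relIndex (K ⊔ P)) with h4 | h4
    · exact h4
    · exfalso
      apply hrp
      have : K.relIndex (K ⊔ P) = p := le_antisymm h4 (h2.trans h1)
      rw [this]
  rw [← hc, mul_comm]
  exact Nat.mul_le_mul_left _ h3

variable {V : Type*} [AddCommGroup V] [DistribMulAction L V]

/-- the fixed points of a subgroup -/
def F (V : Type*) [AddCommGroup V] [DistribMulAction L V] (K : Subgroup L) : AddSubgroup V where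
  carrier := {v | ∀ g ∈ K, g • v = v}
  zero_mem' := fun g _ => smul_zero g
  add_mem' := fun ha hb g hg => by rw [smul_add, ha g hg, hb g hg]
  neg_mem' := fun ha g hg => by rw [smul_neg, ha g hg]

theorem mem_F {K : Subgroup L} {v : V} : v ∈ F V K ↔ ∀ g ∈ K, g • v = v := Iff.rfl

theorem F_sup (K M : Subgroup L) : F V (K ⊔ M) = F V K ⊓ F V M := by
  ext v
  rw [AddSubgroup.mem_inf, mem_F, mem_F, mem_F]
  constructor
  · intro h
    exact ⟨fun g hg => h g (le_sup_left (a := K) hg), fun g hg => h g (le_sup_right (b := M) hg)⟩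
  · rintro ⟨h1, h2⟩ g hg
    have h3 : K ⊔ M ≤ stabilizer L v := sup_le (fun g hg => mem_stabilizer_iff.2 (h1 g hg))
      (fun g hg => mem_stabilizer_iff.2 (h2 g hg))
    exact mem_stabilizer_iff.1 (h3 hg)

theorem F_anti {K M : Subgroup L} (h : K ≤ M) : F V M ≤ F V K := fun _ hv g hg => hv g (h hg)

/-- conjugate subgroups have the same number of fixed points -/
theorem card_F_conj (K : Subgroup L) (g : L) :
    Nat.card (F V (K.map (MulAut.conj g).toMonoidHom)) = Nat.card (F V K) := by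
  refine (Nat.card_congr ?_).symm
  refine
    { toFun := fun v => ⟨g • (v : V), ?_⟩
      invFun := fun v => ⟨g⁻¹ • (v : V), ?_⟩
      left_inv := fun v => Subtype.ext (inv_smul_smul g (v : V))
      right_inv := fun v => Subtype.ext (smul_inv_smul g (v : V)) }
  · rintro _ ⟨k, hk, rfl⟩
    show (g * k * g⁻¹) • g • (v : V) = g • (v : V)
    rw [← mul_smul, inv_mul_cancel_right, mul_smul, v.2 k hk]
  · intro k hk
    have h1 := v.2 (g * k * g⁻¹) ⟨k, hk, rfl⟩
    rw [← mul_smul]
    have h2 : k * g⁻¹ = g⁻¹ * (g * k * g⁻¹) := by group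
    rw [h2, mul_smul, h1]

theorem index_F_conj [Finite V] (K : Subgroup L) (g : L) :
    (F V (K.map (MulAut.conj g).toMonoidHom)).index = (F V K).index := by
  have h1 := AddSubgroup.card_mul_index (F V (K.map (MulAut.conj g).toMonoidHom))
  have h2 := AddSubgroup.card_mul_index (F V K)
  rw [card_F_conj] at h1
  have h3 : 0 < Nat.card (F V K) := Nat.card_pos
  exact Nat.eq_of_mul_eq_mul_left h3 (h1.trans h2.symm)

/-- the number of fixed points of two Sylow subgroups -/
theorem card_F_sylow [Finite L] (hp : p.Prime) (P Q : Sylow p L) : Nat.card (F V (Q : Subgroup L)) = Nat.card (F V (P : Subgroup L)) := by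
  have : Fact p.Prime := ⟨hp⟩
  obtain ⟨g, rfl⟩ := MulAction.exists_smul_eq L P Q
  rw [← card_F_conj (P : Subgroup L) g]
  congr 2

/-- every vector is fixed by a Sylow subgroup -/
theorem exists_sylow [Finite L] (hp : p.Prime) (hfix : ∀ v : V, ¬ p ∣ (stabilizer L v).index) (v : V) :
    ∃ Q : Sylow p L, v ∈ F V (Q : Subgroup L) := by
  have : Fact p.Prime := ⟨hp⟩
  let R : Sylow p (stabilizer L v) := default
  have h1 : IsPGroup p ((R : Subgroup (stabilizer L v)).map (stabilizer L v).subtype) := R.2.map _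
  have h2 : ¬ p ∣ ((R : Subgroup (stabilizer L v)).map (stabilizer L v).subtype).index := by
    rw [Subgroup.index_map_subtype]
    intro h
    rcases hp.dvd_mul.1 h with h | h
    · exact R.not_dvd_index' (by
        exact Subgroup.index_ne_zero_of_finite) h
    · exact hfix v h
  refine ⟨h1.toSylow h2, ?_⟩
  intro g hg
  obtain ⟨x, -, rfl⟩ := hg
  exact mem_stabilizer_iff.1 x.2

/-- the covering bound -/
theorem card_le [Finite L] [Finite V] (hp : p.Prime) (hfix : ∀ v : V, ¬ p ∣ (stabilizer L v).index) (P : Sylow p L) :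
    Nat.card V ≤ Nat.card (Sylow p L) * Nat.card (F V (P : Subgroup L)) := by
  classical
  have := Fintype.ofFinite (Sylow p L)
  have := Fintype.ofFinite V
  have h1 : Nat.card V ≤ Nat.card (Σ Q : Sylow p L, F V (Q : Subgroup L)) := by
    apply Nat.card_le_card_of_injective
      (fun v : V => (⟨(exists_sylow hp hfix v).choose, ⟨v, (exists_sylow hp hfix v).choose_spec⟩⟩ :
        Σ Q : Sylow p L, F V (Q : Subgroup L)))
    intro v w h
    have h2 := congrArg (fun x : Σ Q : Sylow p L, F V (Q : Subgroup L) => (x.2 : V)) h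
    exact h2
  refine h1.trans (le_of_eq ?_)
  rw [Nat.card_sigma, Finset.sum_congr rfl fun Q _ => card_F_sylow hp P Q, Finset.sum_const, Finset.card_univ,
    smul_eq_mul, Nat.card_eq_fintype_card (α := Sylow p L)]

section cover

variable {S : Type*} [Group S] {π : L →* S} {N a : ℕ}

/-- the Sylow subgroup of the cover -/
theorem card_P [Finite L] (hp : p.Prime) (hπ : Function.Surjective π) (hk : ¬ p ∣ Nat.card π.ker) (hN : ¬ p ∣ N)
    (hcard : Nat.card S = N * p ^ a) (P : Sylow p L) : Nat.card P = p ^ a := by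
  have : Fact p.Prime := ⟨hp⟩
  have h1 : Nat.card L = Nat.card S * Nat.card π.ker := by
    have h2 := Subgroup.card_eq_card_quotient_mul_card_subgroup π.ker
    rwa [Nat.card_congr (QuotientGroup.quotientKerEquivOfSurjective π hπ).toEquiv] at h2
  rw [Sylow.card_eq_multiplicity]
  congr 1
  rw [h1, hcard]
  have hN0 : N ≠ 0 := fun h => hN (h ▸ dvd_zero p)
  have hk0 : Nat.card π.ker ≠ 0 := Nat.card_pos.ne'
  rw [Nat.factorization_mul (mul_ne_zero hN0 (pow_ne_zero _ hp.ne_zero)) hk0,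
    Nat.factorization_mul hN0 (pow_ne_zero _ hp.ne_zero), Finsupp.add_apply, Finsupp.add_apply,
    Nat.factorization_eq_zero_of_not_dvd hN, Nat.factorization_eq_zero_of_not_dvd hk, hp.factorization_pow,
    Finsupp.single_eq_same]
  omega

theorem card_ker_sup [Finite L] (hp : p.Prime) (hk : ¬ p ∣ Nat.card π.ker)
    (P : Sylow p L) : Nat.card ↥(π.ker ⊔ (P : Subgroup L)) = Nat.card π.ker * Nat.card P := by
  have : Fact p.Prime := ⟨hp⟩
  obtain ⟨n, hn⟩ := (IsPGroup.iff_card (p := p) (G := P)).1 P.2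
  have hcop : (Nat.card π.ker).Coprime (Nat.card P) := by
    rw [hn]
    exact Nat.Coprime.pow_right n ((Nat.Prime.coprime_iff_not_dvd hp).2 hk).symm
  have hdis : π.ker ⊓ (P : Subgroup L) = ⊥ := (Subgroup.disjoint_of_coprime_natCard hcop).eq_bot
  have h1 := Subgroup.card_mul_index (π.ker.subgroupOf (π.ker ⊔ (P : Subgroup L)))
  rw [Nat.card_congr (Subgroup.subgroupOfEquivOfLe (le_sup_left : π.ker ≤ π.ker ⊔ (P : Subgroup L))).toEquiv] at h1
  rw [← h1]
  congr 1
  have h2 : π.ker.relIndex (π.ker ⊔ (P : Subgroup L)) = π.ker.relIndex (P : Subgroup L) := by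
    rw [Subgroup.relIndex_sup_left]
  have h3 : π.ker.relIndex (P : Subgroup L) = Nat.card P := by
    rw [← Subgroup.inf_relIndex_right, hdis, Subgroup.relIndex_bot_left]
  exact h2.trans h3

theorem card_sylow_le [Finite L] (hp : p.Prime) (hπ : Function.Surjective π)
    (hcen : π.ker ≤ center L) (hk : ¬ p ∣ Nat.card π.ker) (hN : ¬ p ∣ N) (hcard : Nat.card S = N * p ^ a) :
    Nat.card (Sylow p L) ≤ N := by
  have : Fact p.Prime := ⟨hp⟩
  let P : Sylow p L := default
  have h1 : Nat.card L = Nat.card S * Nat.card π.ker := by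
    have h2 := Subgroup.card_eq_card_quotient_mul_card_subgroup π.ker
    rwa [Nat.card_congr (QuotientGroup.quotientKerEquivOfSurjective π hπ).toEquiv] at h2
  rw [Sylow.card_eq_index_normalizer P]
  have h2 : π.ker ⊔ (P : Subgroup L) ≤ normalizer ((P : Subgroup L) : Set L) := by
    refine sup_le (fun z hz => ?_) le_normalizer
    have hz' := fun t => mem_center_iff.1 (hcen hz) t
    rw [Subgroup.mem_normalizer_iff]
    intro t
    have h3 : z * t * z⁻¹ = t := by rw [← hz' t, mul_inv_cancel_right]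
    rw [h3]
  have h3 : (normalizer ((P : Subgroup L) : Set L)).index ≤ (π.ker ⊔ (P : Subgroup L)).index :=
    Nat.le_of_dvd (Nat.pos_of_ne_zero Subgroup.index_ne_zero_of_finite) (Subgroup.index_dvd_of_le h2)
  refine h3.trans (le_of_eq ?_)
  have h4 := Subgroup.card_mul_index (π.ker ⊔ (P : Subgroup L))
  rw [card_ker_sup hp hk, card_P hp hπ hk hN hcard P, h1, hcard] at h4
  have h5 : 0 < Nat.card π.ker * p ^ a := Nat.mul_pos Nat.card_pos (pow_pos hp.pos _)
  apply Nat.eq_of_mul_eq_mul_left h5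
  rw [h4]; ring

/-- **The covering bound**: `|V : C_V(P)| ≤ N`. -/
theorem cov [Finite L] [Finite V] (hp : p.Prime) (hπ : Function.Surjective π)
    (hcen : π.ker ≤ center L) (hk : ¬ p ∣ Nat.card π.ker) (hN : ¬ p ∣ N) (hcard : Nat.card S = N * p ^ a)
    (hfix : ∀ v : V, ¬ p ∣ (stabilizer L v).index) (P : Sylow p L) : (F V (P : Subgroup L)).index ≤ N := by
  have h1 := card_le hp hfix P
  have h2 := card_sylow_le hp hπ hcen hk hN hcard
  have h3 := AddSubgroup.card_mul_index (F V (P : Subgroup L))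
  have h4 : 0 < Nat.card (F V (P : Subgroup L)) := Nat.card_pos
  rw [← h3, mul_comm] at h1
  exact (Nat.le_of_mul_le_mul_right h1 h4).trans h2

/-- the index of the fixed space is a power of `p` -/
theorem index_pow [Finite V] (hp : p.Prime) (hV : ∀ v : V, p • v = 0) (W : AddSubgroup V) : ∃ e, W.index = p ^ e := by
  have : Fact p.Prime := ⟨hp⟩
  have h1 : IsPGroup p (Multiplicative V) := by
    intro v
    refine ⟨1, ?_⟩
    rw [pow_one]
    exact hV v
  obtain ⟨n, hn⟩ := (IsPGroup.iff_card (p := p) (G := Multiplicative V)).1 h1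
  have hn' : Nat.card V = p ^ n := hn
  have h2 : W.index ∣ p ^ n := hn' ▸ AddSubgroup.index_dvd_card W
  obtain ⟨e, -, he⟩ := (Nat.dvd_prime_pow hp).1 h2
  exact ⟨e, he⟩

/-- The covering bound with a power of `p`. -/
theorem cov_pow [Finite L] [Finite V] (hp : p.Prime) (hπ : Function.Surjective π)
    (hcen : π.ker ≤ center L) (hk : ¬ p ∣ Nat.card π.ker) (hN : ¬ p ∣ N) (hcard : Nat.card S = N * p ^ a)
    (hV : ∀ v : V, p • v = 0) (hfix : ∀ v : V, ¬ p ∣ (stabilizer L v).index) (P : Sylow p L) {c : ℕ}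
    (hc : N < p ^ (c + 1)) : ∃ e ≤ c, (F V (P : Subgroup L)).index = p ^ e := by
  obtain ⟨e, he⟩ := index_pow hp hV (F V (P : Subgroup L))
  refine ⟨e, ?_, he⟩
  have h1 := cov hp hπ hcen hk hN hcard hfix P
  rw [he] at h1
  exact Nat.lt_succ_iff.1 ((Nat.pow_lt_pow_iff_right hp.one_lt).1 (h1.trans_lt hc))

/-- the chain -/
theorem gen_aux [Finite L] [Finite V] (hp : p.Prime) (P : Sylow p L)
    (hgen : ∀ K : Subgroup L, (∀ g : L, (P : Subgroup L).map (MulAut.conj g).toMonoidHom ≤ π.ker ⊔ K) → π.ker ⊔ K = ⊤)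
    (hfin : ∀ K : Subgroup L, π.ker ⊔ K = ⊤ → K = ⊤) :
    ∀ n : ℕ, ∀ K : Subgroup L, Nat.card L - Nat.card ↥(π.ker ⊔ K) ≤ n → (P : Subgroup L) ≤ K →
      ∀ j : ℕ, (p + 1) ^ j * (Nat.card π.ker * Nat.card P) ≤ Nat.card ↥(π.ker ⊔ K) →
        (F V K).index ≤ (F V (P : Subgroup L)).index ^ (j + 1) →
        ∃ j : ℕ, (p + 1) ^ j * (Nat.card π.ker * Nat.card P) ≤ Nat.card L ∧
          (F V (⊤ : Subgroup L)).index ≤ (F V (P : Subgroup L)).index ^ (j + 1) := by
  have : Fact p.Prime := ⟨hp⟩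
  intro n
  induction n with
  | zero =>
    intro K hn hPK j hj hF
    have h1 : Nat.card ↥(π.ker ⊔ K) = Nat.card L :=
      le_antisymm (Subgroup.card_le_card_group _) (by omega)
    have h2 : π.ker ⊔ K = ⊤ := (Subgroup.card_eq_iff_eq_top _).1 h1
    have h3 := hfin K h2
    subst h3
    exact ⟨j, h1 ▸ hj, hF⟩
  | succ n ih =>
    intro K hn hPK j hj hF
    by_cases htop : π.ker ⊔ K = ⊤
    · have h3 := hfin K htop
      subst h3
      refine ⟨j, ?_, hF⟩
      rw [htop, Subgroup.card_top] at hj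
      exact hj
    · have h4 : ∃ g : L, ¬ (P : Subgroup L).map (MulAut.conj g).toMonoidHom ≤ π.ker ⊔ K := by
        by_contra hcon
        push Not at hcon
        exact htop (hgen K hcon)
      obtain ⟨g, hg⟩ := h4
      have hidx : ¬ p ∣ (π.ker ⊔ K).index := by
        intro h
        exact P.not_dvd_index' Subgroup.index_ne_zero_of_finite
          (h.trans (Subgroup.index_dvd_of_le (hPK.trans le_sup_right)))
      have h5 := step hp hidx (P.2.map (MulAut.conj g).toMonoidHom) hg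
      rw [sup_assoc] at h5
      have h6 : 0 < Nat.card ↥(π.ker ⊔ K) := Nat.card_pos
      have h7 : Nat.card ↥(π.ker ⊔ (K ⊔ (P : Subgroup L).map (MulAut.conj g).toMonoidHom)) ≤ Nat.card L :=
        Subgroup.card_le_card_group _
      refine ih (K ⊔ (P : Subgroup L).map (MulAut.conj g).toMonoidHom) ?_ (hPK.trans le_sup_left) (j + 1) ?_ ?_
      · have h8 : Nat.card ↥(π.ker ⊔ K) < (p + 1) * Nat.card ↥(π.ker ⊔ K) := by
          have := hp.two_le
          nlinarith only [h6, this]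
        omega
      · refine le_trans ?_ h5
        rw [pow_succ]
        calc (p + 1) ^ j * (p + 1) * (Nat.card π.ker * Nat.card P)
            = (p + 1) * ((p + 1) ^ j * (Nat.card π.ker * Nat.card P)) := by ring
          _ ≤ _ := Nat.mul_le_mul_left _ hj
      · rw [F_sup]
        refine AddSubgroup.index_inf_le.trans ?_
        rw [index_F_conj, pow_succ _ (j + 1)]
        exact Nat.mul_le_mul_right _ hF

theorem eq_top_of_sup (hperf : commutator L = ⊤) (hcen : π.ker ≤ center L) (K : Subgroup L)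
    (h : π.ker ⊔ K = ⊤) : K = ⊤ := by
  have hn : K.Normal := by
    constructor
    intro k hk g
    have hg : g ∈ π.ker ⊔ K := h ▸ mem_top g
    have : π.ker.Normal := inferInstance
    obtain ⟨z, hz, x, hx, rfl⟩ := Subgroup.mem_sup_of_normal_left.1 hg
    have h1 : z * x * k * (z * x)⁻¹ = x * k * x⁻¹ := by
      have h2 := mem_center_iff.1 (hcen hz) (x * k * x⁻¹)
      calc z * x * k * (z * x)⁻¹ = z * (x * k * x⁻¹) * z⁻¹ := by group
        _ = (x * k * x⁻¹) * z * z⁻¹ := by rw [h2]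
        _ = _ := by group
    rw [h1]
    exact mul_mem (mul_mem hx hk) (inv_mem hx)
  have hc : commutator L ≤ K := by
    rw [commutator_def, commutator_le]
    intro g _ l _
    have hg : g ∈ π.ker ⊔ K := h ▸ mem_top g
    have hl : l ∈ π.ker ⊔ K := h ▸ mem_top l
    obtain ⟨z, hz, x, hx, rfl⟩ := Subgroup.mem_sup_of_normal_left.1 hg
    obtain ⟨w, hw, y, hy, rfl⟩ := Subgroup.mem_sup_of_normal_left.1 hl
    have hz' := fun t => mem_center_iff.1 (hcen hz) t
    have hw' := fun t => mem_center_iff.1 (hcen hw) t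
    have h1 : ⁅z * x, w * y⁆ = ⁅x, y⁆ := by
      rw [commutatorElement_def, commutatorElement_def]
      have e1 : z * x * (w * y) = x * y * (z * w) := by
        calc z * x * (w * y) = (z * (x * (w * y))) := by group
          _ = x * (w * y) * z := (hz' _).symm
          _ = x * (y * w) * z := by rw [hw' y]
          _ = x * y * (w * z) := by group
          _ = x * y * (z * w) := by rw [hz' w]
      have e2 : w * y * (z * x) = y * x * (z * w) := by
        calc w * y * (z * x) = w * (y * (z * x)) := by group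
          _ = y * (z * x) * w := (hw' _).symm
          _ = y * (x * z) * w := by rw [hz' x]
          _ = y * x * (z * w) := by group
      have e3 : z * x * (w * y) * (z * x)⁻¹ * (w * y)⁻¹ = (z * x * (w * y)) * (w * y * (z * x))⁻¹ := by group
      rw [e3, e1, e2]
      group
    rw [h1, commutatorElement_def]
    exact mul_mem (mul_mem (mul_mem hx hy) (inv_mem hx)) (inv_mem hy)
  exact top_le_iff.1 (hperf ▸ hc)

/-- **The chain bound.** -/
theorem gen [Finite L] [Finite V] [IsSimpleGroup S] (hp : p.Prime) (hperf : commutator L = ⊤)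
    (hπ : Function.Surjective π) (hcen : π.ker ≤ center L) (hk : ¬ p ∣ Nat.card π.ker) (hN : ¬ p ∣ N) (ha : a ≠ 0)
    (hcard : Nat.card S = N * p ^ a) (P : Sylow p L) (h0 : ∀ v : V, (∀ g : L, g • v = v) → v = 0) :
    ∃ j : ℕ, (p + 1) ^ j ≤ N ∧ Nat.card V ≤ (F V (P : Subgroup L)).index ^ (j + 1) := by
  have : Fact p.Prime := ⟨hp⟩
  have hPc := card_P hp hπ hk hN hcard P
  have hL : Nat.card L = Nat.card S * Nat.card π.ker := by
    have h2 := Subgroup.card_eq_card_quotient_mul_card_subgroup π.ker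
    rwa [Nat.card_congr (QuotientGroup.quotientKerEquivOfSurjective π hπ).toEquiv] at h2
  have hgen : ∀ K : Subgroup L, (∀ g : L, (P : Subgroup L).map (MulAut.conj g).toMonoidHom ≤ π.ker ⊔ K) →
      π.ker ⊔ K = ⊤ := by
    intro K hK
    have h1 : normalClosure ((P : Subgroup L) : Set L) ≤ π.ker ⊔ K := by
      rw [normalClosure, closure_le]
      intro x hx
      obtain ⟨y, hy, hyx⟩ := Group.mem_conjugatesOfSet_iff.1 hx
      obtain ⟨g, rfl⟩ := isConj_iff.1 hyx
      exact hK g ⟨y, hy, rfl⟩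
    have h2 : (normalClosure ((P : Subgroup L) : Set L)).map π = ⊤ := by
      have hn : ((normalClosure ((P : Subgroup L) : Set L)).map π).Normal :=
        Subgroup.normalClosure_normal.map π hπ
      rcases hn.eq_bot_or_eq_top with h3 | h3
      · exfalso
        have h4 : (P : Subgroup L) ≤ π.ker := by
          intro x hx
          have h5 : π x ∈ (normalClosure ((P : Subgroup L) : Set L)).map π := ⟨x, subset_normalClosure hx, rfl⟩
          rw [h3, mem_bot] at h5
          exact h5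
        have h6 : Nat.card P ∣ Nat.card π.ker := Subgroup.card_dvd_of_le h4
        rw [hPc] at h6
        exact hk ((dvd_pow_self p ha).trans h6)
      · exact h3
    rw [eq_top_iff]
    intro x _
    have h3 : π x ∈ (normalClosure ((P : Subgroup L) : Set L)).map π := h2 ▸ mem_top _
    obtain ⟨y, hy, hyx⟩ := h3
    have h4 : x * y⁻¹ ∈ π.ker := by rw [MonoidHom.mem_ker, map_mul, map_inv, hyx, mul_inv_cancel]
    have h5 : x = (x * y⁻¹) * y := by group
    rw [h5]
    exact mul_mem (le_sup_left (a := π.ker) h4) (h1 hy)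
  obtain ⟨j, hj1, hj2⟩ := gen_aux (V := V) hp P hgen (eq_top_of_sup hperf hcen) (Nat.card L) (P : Subgroup L)
    (Nat.sub_le _ _) le_rfl 0 (by rw [pow_zero, one_mul, card_ker_sup hp hk]) (by rw [zero_add, pow_one])
  refine ⟨j, ?_, ?_⟩
  · rw [hL, hcard, hPc] at hj1
    have h5 : 0 < Nat.card π.ker * p ^ a := Nat.mul_pos Nat.card_pos (pow_pos hp.pos _)
    have h6 : (p + 1) ^ j * (Nat.card π.ker * p ^ a) ≤ N * (Nat.card π.ker * p ^ a) := by
      refine hj1.trans (le_of_eq ?_)
      ring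
    exact Nat.le_of_mul_le_mul_right h6 h5
  · refine le_trans (le_of_eq ?_) hj2
    have h6 : F V (⊤ : Subgroup L) = ⊥ := by
      rw [AddSubgroup.eq_bot_iff_forall]
      intro v hv
      exact h0 v fun g => hv g (mem_top g)
    rw [h6, AddSubgroup.index_bot]

/-- **The chain bound, numerical form.** -/
theorem chain [Finite L] [Finite V] [IsSimpleGroup S] (hp : p.Prime) (hperf : commutator L = ⊤)
    (hπ : Function.Surjective π) (hcen : π.ker ≤ center L) (hk : ¬ p ∣ Nat.card π.ker) (hN : ¬ p ∣ N) (ha : a ≠ 0)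
    (hcard : Nat.card S = N * p ^ a) (hV : ∀ v : V, p • v = 0) (h0 : ∀ v : V, (∀ g : L, g • v = v) → v = 0)
    (hfix : ∀ v : V, ¬ p ∣ (stabilizer L v).index) {c k D : ℕ} (hc : N < p ^ (c + 1)) (hkk : N < (p + 1) ^ k)
    (hD : p ^ D ≤ Nat.card V) (hnum : c * k < D) : False := by
  have : Fact p.Prime := ⟨hp⟩
  let P : Sylow p L := default
  obtain ⟨e, he, hi⟩ := cov_pow hp hπ hcen hk hN hcard hV hfix P hc
  obtain ⟨j, hj, hj2⟩ := gen (V := V) hp hperf hπ hcen hk hN ha hcard P h0
  have h1 : j < k := (Nat.pow_lt_pow_iff_right (by have := hp.two_le; omega)).1 (hj.trans_lt hkk)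
  have h2 : p ^ D ≤ p ^ (e * (j + 1)) := by
    rw [pow_mul, ← hi]
    exact hD.trans hj2
  have h3 := (Nat.pow_le_pow_iff_right hp.one_lt).1 h2
  have h4 : e * (j + 1) ≤ c * k := Nat.mul_le_mul he h1
  omega

end cover

end Cfsg.Agent.H388.RI
end

-- part: H887/RIM/Lin
section
prune_inst 0x220080000000000000080000000000001c410002
set_option linter.all false
open scoped Cfsg.Agent.FastGrp

/-!
# S4816 (RIM), EK tools: from `F_p H`-modules to representations over an algebraically closed field (helper887)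

**`exists_lin`** : for a finite group `H` acting on an elementary abelian `p`-group `V` there is a representation `ρ` of `H`
over an algebraically closed field of characteristic `p`, of dimension `d`, `|V| = p ^ d`, with the same kernel and the same
dimensions of the fixed spaces of the elements.
-/

set_option autoImplicit false
set_option linter.style.haveILetI false
set_option linter.unusedSectionVars false

namespace Cfsg.Agent.H887.RIM

open Module Cfsg.Agent.H892.FixDim
open scoped TensorProduct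

universe u v

section aux

variable {p : ℕ} [Fact p.Prime] {H : Type u} {V : Type v} [Group H] [AddCommGroup V] [Finite V] [Module (ZMod p) V]

/-- a linear action over `F_p` from a distributive action -/
def toLin (p : ℕ) (H : Type u) (V : Type v) [Group H] [AddCommGroup V] [Module (ZMod p) V] [DistribMulAction H V] :
    H →* Module.End (ZMod p) V where
  toFun h := AddMonoidHom.toZModLinearMap p (DistribSMul.toAddMonoidHom V h)
  map_one' := by
    apply LinearMap.ext
    intro v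
    exact one_smul H v
  map_mul' a b := by
    apply LinearMap.ext
    intro v
    exact mul_smul a b v

/-- base change of a representation -/
noncomputable def bc {k : Type*} [Field k] {V : Type v} [AddCommGroup V] [Module k V] (K : Type*) [Field K] [Algebra k K]
    (σ : H →* Module.End k V) : H →* Module.End K (K ⊗[k] V) where
  toFun h := (σ h).baseChange K
  map_one' := by
    rw [map_one]
    ext
    simp
  map_mul' a b := by
    rw [map_mul]
    ext
    simp

theorem bc_apply {k : Type*} [Field k] {V : Type v} [AddCommGroup V] [Module k V] (K : Type*) [Field K] [Algebra k K]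
    (σ : H →* Module.End k V) (h : H) : bc K σ h = (σ h).baseChange K := rfl

theorem bc_ker {k : Type*} [Field k] {V : Type v} [AddCommGroup V] [Module k V] (K : Type*) [Field K] [Algebra k K]
    (σ : H →* Module.End k V) (h : H) :
    finrank K (LinearMap.ker (bc K σ h - 1)) = finrank k (LinearMap.ker (σ h - 1)) :=
  fx_baseChange K (σ h)

theorem bc_finrank (k : Type*) [Field k] (V : Type v) [AddCommGroup V] [Module k V] (K : Type*) [Field K] [Algebra k K] :
    finrank K (K ⊗[k] V) = finrank k V := Module.finrank_baseChange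

theorem card_sub (U : Submodule (ZMod p) V) : Nat.card U = p ^ finrank (ZMod p) U := by
  rw [Module.natCard_eq_pow_finrank (K := ZMod p), Nat.card_zmod]

end aux

/-- the statement over a splitting field -/
theorem exists_lin_aux {p : ℕ} [Fact p.Prime] {H : Type u} {V : Type v} [Group H] [AddCommGroup V] [Finite V]
    [Module (ZMod p) V] [DistribMulAction H V] (K : Type) [Field K] [Algebra (ZMod p) K] :
    ∃ (W : Type v) (_ : AddCommGroup W) (_ : Module K W) (_ : FiniteDimensional K W) (ρ : H →* Module.End K W),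
      Nat.card V = p ^ finrank K W ∧ (∀ h : H, ρ h = 1 ↔ ∀ v : V, h • v = v) ∧
      ∀ h : H, Nat.card {v : V // h • v = v} = p ^ finrank K (LinearMap.ker (ρ h - 1)) := by
  haveI : Module.Finite (ZMod p) V := Module.Finite.of_finite
  have hVc : Nat.card V = p ^ finrank (ZMod p) V := by
    rw [Module.natCard_eq_pow_finrank (K := ZMod p), Nat.card_zmod]
  refine ⟨K ⊗[ZMod p] V, _, _, inferInstance, bc K (toLin p H V), ?_, ?_, ?_⟩
  · rw [bc_finrank, hVc]
  · intro h
    constructor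
    · intro h1 v
      have h2 : finrank (ZMod p) (LinearMap.ker (toLin p H V h - 1)) = finrank (ZMod p) V := by
        have h5 : LinearMap.ker (bc K (toLin p H V) h - 1) = ⊤ := by
          rw [eq_top_iff]
          intro w _
          rw [mem_ker_sub_one, h1]
          rfl
        rw [← bc_ker K, h5, finrank_top, bc_finrank]
      have h3 : LinearMap.ker (toLin p H V h - 1) = ⊤ := Submodule.eq_top_of_finrank_eq h2
      have h4 : v ∈ LinearMap.ker (toLin p H V h - 1) := by rw [h3]; exact Submodule.mem_top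
      rw [mem_ker_sub_one] at h4
      exact h4
    · intro h1
      have h2 : toLin p H V h = 1 := LinearMap.ext fun v => h1 v
      rw [bc_apply, h2]
      ext
      simp
  · intro h
    rw [bc_ker, ← card_sub]
    refine Nat.card_congr (Equiv.subtypeEquivRight fun v => ?_)
    rw [mem_ker_sub_one]
    rfl

theorem exists_ac (k : Type) [Field k] : ∃ (K : Type) (_ : Field K) (_ : Algebra k K), IsAlgClosed K :=
  ⟨AlgebraicClosure k, inferInstance, inferInstance, inferInstance⟩

theorem exists_lin {p : ℕ} (hp : p.Prime) {H : Type u} {V : Type v} [Group H] [AddCommGroup V] [Finite V]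
    [DistribMulAction H V] (hV : ∀ v : V, p • v = 0) :
    ∃ (K : Type) (_ : Field K) (_ : CharP K p) (_ : IsAlgClosed K) (W : Type v) (_ : AddCommGroup W) (_ : Module K W)
      (_ : FiniteDimensional K W) (ρ : H →* Module.End K W), Nat.card V = p ^ finrank K W ∧
      (∀ h : H, ρ h = 1 ↔ ∀ v : V, h • v = v) ∧
      ∀ h : H, Nat.card {v : V // h • v = v} = p ^ finrank K (LinearMap.ker (ρ h - 1)) := by
  haveI : Fact p.Prime := ⟨hp⟩
  letI : Module (ZMod p) V := AddCommGroup.zmodModule hV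
  obtain ⟨K, _, _, hK⟩ := exists_ac (ZMod p)
  exact ⟨K, inferInstance, charP_of_injective_algebraMap (algebraMap (ZMod p) K).injective p, hK, exists_lin_aux K⟩

end Cfsg.Agent.H887.RIM
end

-- part: H388/RI/Two
section
set_option linter.all false
open scoped Cfsg.Agent.FastGrp

/-!
# S4816, module side: commutators of `p`-elements (helper388)

* `comm_index` : `|V : C_V(x b x⁻¹ b⁻¹)| ≤ |V : C_V(Q)| ^ 2` for `x ∈ Q`;
* `comm_codim` : the same for a `p`-element `x` in the situation of the covering bound, for the codimension in a representation;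
* `exists_p_part` : the `p`-part of an element.
-/

set_option autoImplicit false

namespace Cfsg.Agent.H388.RI

open Subgroup MulAction

variable {L : Type*} [Group L] {p : ℕ} {V : Type*} [AddCommGroup V] [DistribMulAction L V]

/-- **Two conjugates.** -/
theorem comm_index [Finite V] (Q : Subgroup L) {x : L} (hx : x ∈ Q) (b : L) :
    (F V (zpowers (x * b * x⁻¹ * b⁻¹))).index ≤ (F V Q).index ^ 2 := by
  have h1 : F V (Q ⊔ Q.map (MulAut.conj b).toMonoidHom) ≤ F V (zpowers (x * b * x⁻¹ * b⁻¹)) := by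
    apply F_anti
    rw [zpowers_le]
    have h2 : x * b * x⁻¹ * b⁻¹ = x * (b * x⁻¹ * b⁻¹) := by group
    rw [h2]
    exact mul_mem (le_sup_left (a := Q) hx)
      (le_sup_right (b := Q.map (MulAut.conj b).toMonoidHom) ⟨x⁻¹, inv_mem hx, rfl⟩)
  have h2 : (F V (zpowers (x * b * x⁻¹ * b⁻¹))).index ≤ (F V (Q ⊔ Q.map (MulAut.conj b).toMonoidHom)).index :=
    Nat.le_of_dvd (Nat.pos_of_ne_zero AddSubgroup.index_ne_zero_of_finite) (AddSubgroup.index_dvd_of_le h1)
  refine h2.trans ?_
  rw [F_sup, pow_two]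
  refine AddSubgroup.index_inf_le.trans ?_
  rw [index_F_conj]

/-- the `p`-part of an element is a power of it -/
theorem exists_p_part {n : L} [Finite L] (hp : p.Prime) :
    ∃ j : ℕ, ¬ p ∣ j ∧ ∃ t, orderOf (n ^ j) = p ^ t := by
  have ho : orderOf n ≠ 0 := (orderOf_pos n).ne'
  obtain ⟨t, j, hj, h⟩ := Nat.exists_eq_pow_mul_and_not_dvd ho p hp.ne_one
  refine ⟨j, hj, t, ?_⟩
  have hj0 : 0 < j := Nat.pos_of_ne_zero fun h0 => hj (h0 ▸ dvd_zero p)
  rw [orderOf_pow, h, Nat.gcd_mul_left_left, Nat.mul_div_cancel _ hj0]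

section cover

variable {S : Type*} [Group S] {π : L →* S} {N a : ℕ}

/-- **The codimension of a commutator** with a `p`-element: `dim W ≤ 2 c + dim C_W(x b x⁻¹ b⁻¹)`. -/
theorem comm_codim [Finite L] [Finite V] (hp : p.Prime) (hπ : Function.Surjective π)
    (hcen : π.ker ≤ center L) (hk : ¬ p ∣ Nat.card π.ker) (hN : ¬ p ∣ N) (hcard : Nat.card S = N * p ^ a)
    (hV : ∀ v : V, p • v = 0) (hfix : ∀ v : V, ¬ p ∣ (stabilizer L v).index) {c : ℕ} (hc : N < p ^ (c + 1))
    {x : L} {t : ℕ} (hx : orderOf x = p ^ t) (b : L)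
    {k W : Type*} [Field k] [AddCommGroup W] [Module k W] (ρ : L →* Module.End k W)
    (hW : Nat.card V = p ^ Module.finrank k W)
    (hρ : ∀ h : L, Nat.card {v : V // h • v = v} = p ^ Module.finrank k (LinearMap.ker (ρ h - 1))) :
    Module.finrank k W ≤ 2 * c + Module.finrank k (LinearMap.ker (ρ (x * b * x⁻¹ * b⁻¹) - 1)) := by
  have : Fact p.Prime := ⟨hp⟩
  have h1 : IsPGroup p (zpowers x) := by
    rw [IsPGroup.iff_card]
    exact ⟨t, by rw [Nat.card_zpowers, hx]⟩
  obtain ⟨Q, hQ⟩ := h1.exists_le_sylow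
  obtain ⟨e, he, hi⟩ := cov_pow hp hπ hcen hk hN hcard hV hfix Q hc
  have h2 := comm_index (V := V) (Q : Subgroup L) (hQ (mem_zpowers x)) b
  have h3 : Nat.card (F V (zpowers (x * b * x⁻¹ * b⁻¹))) =
      p ^ Module.finrank k (LinearMap.ker (ρ (x * b * x⁻¹ * b⁻¹) - 1)) := by
    rw [← hρ]
    apply Nat.card_congr
    apply Equiv.subtypeEquivRight
    intro v
    rw [mem_F]
    constructor
    · intro h
      exact h _ (mem_zpowers _)
    · intro h g hg
      have h4 : zpowers (x * b * x⁻¹ * b⁻¹) ≤ stabilizer L v := by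
        rw [zpowers_le]
        exact mem_stabilizer_iff.2 h
      exact mem_stabilizer_iff.1 (h4 hg)
  have h4 := AddSubgroup.card_mul_index (F V (zpowers (x * b * x⁻¹ * b⁻¹)))
  rw [h3, hW] at h4
  rw [hi, ← pow_mul] at h2
  have h5 : p ^ Module.finrank k W ≤ p ^ (Module.finrank k (LinearMap.ker (ρ (x * b * x⁻¹ * b⁻¹) - 1)) + e * 2) := by
    rw [← h4, pow_add]
    exact Nat.mul_le_mul_left _ h2
  have h6 := (Nat.pow_le_pow_iff_right hp.one_lt).1 h5
  omega

end cover

end Cfsg.Agent.H388.RI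
end

-- part: H243/RIM/Cent
section
set_option linter.all false
open scoped Cfsg.Agent.FastGrp

/-!
# Normalizers of subgroups of prime order (helper243, for S4816)

* `pow_w` : `|N(⟨y⟩)| = w |C(y)|`, `g y^i g⁻¹ = y^j`: `j^w ≡ i^w mod p`;
* `exists_w` : `|C(y)| = p k`, `p ∥ |Q|`: `|N(⟨y⟩)| = w p k`, `w ∣ p - 1`, `|Q| = w p k n`, `n ≡ 1 mod p`.
-/

set_option autoImplicit false
set_option linter.unusedSectionVars false

namespace Cfsg.Agent.H243.RIM

open Subgroup

section

variable {Q : Type*} [Group Q] [Finite Q] {p : ℕ} [hp : Fact p.Prime] {y : Q}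

theorem centralizer_zpowers (y : Q) : centralizer ((zpowers y : Subgroup Q) : Set Q) = centralizer ({y} : Set Q) := by
  ext g
  rw [mem_centralizer_iff, mem_centralizer_singleton_iff]
  constructor
  · intro h
    exact (h y (mem_zpowers y)).symm
  · rintro h _ ⟨k, rfl⟩
    exact (Commute.zpow_right (show Commute g y from h) k).eq.symm

/-- an element of `⟨y⟩` prime to `p` generates it -/
theorem zpowers_pow (hy : orderOf y = p) {i : ℕ} (hi : ¬ p ∣ i) : zpowers (y ^ i) = zpowers y := by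
  apply eq_of_le_of_card_ge
  · rw [zpowers_le]
    exact pow_mem (mem_zpowers y) i
  · rw [Nat.card_zpowers, Nat.card_zpowers, hy]
    have h1 : orderOf (y ^ i) = p := by
      rw [Nat.Coprime.orderOf_pow, hy]
      rw [hy]
      exact (Nat.Prime.coprime_iff_not_dvd hp.out).2 hi
    rw [h1]

theorem mem_norm (hy : orderOf y = p) {g : Q} {i j : ℕ} (hi : ¬ p ∣ i) (h : g * y ^ i * g⁻¹ = y ^ j) :
    g ∈ normalizer ((zpowers y : Subgroup Q) : Set Q) := by
  have hle : ∀ n ∈ zpowers y, g * n * g⁻¹ ∈ zpowers y := by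
    intro n hn
    rw [← zpowers_pow hy hi] at hn
    obtain ⟨k, rfl⟩ := hn
    show g * (y ^ i) ^ k * g⁻¹ ∈ zpowers y
    rw [← conj_zpow, h]
    exact zpow_mem (pow_mem (mem_zpowers y) j) k
  exact mem_normalizer_fintype hle

theorem conj_pow_pow {g : Q} {i j : ℕ} (h : g * y ^ i * g⁻¹ = y ^ j) (m : ℕ) :
    g ^ m * y ^ (i ^ m) * (g ^ m)⁻¹ = y ^ (j ^ m) := by
  induction m with
  | zero => simp
  | succ m ih =>
    calc g ^ (m + 1) * y ^ (i ^ (m + 1)) * (g ^ (m + 1))⁻¹
        = g * (g ^ m * (y ^ (i ^ m)) ^ i * (g ^ m)⁻¹) * g⁻¹ := by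
          rw [pow_succ' g, pow_succ i, pow_mul]
          group
      _ = g * (y ^ (j ^ m)) ^ i * g⁻¹ := by rw [← conj_pow, ih]
      _ = (g * y ^ i * g⁻¹) ^ (j ^ m) := by rw [conj_pow, ← pow_mul, ← pow_mul, mul_comm i]
      _ = y ^ (j ^ (m + 1)) := by rw [h, ← pow_mul, pow_succ']

/-- **Fusion in a subgroup of prime order.** -/
theorem pow_w {w : ℕ} (hy : orderOf y = p)
    (hN : Nat.card (normalizer ((zpowers y : Subgroup Q) : Set Q)) = w * Nat.card (centralizer ({y} : Set Q)))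
    {g : Q} {i j : ℕ} (hi : ¬ p ∣ i) (h : g * y ^ i * g⁻¹ = y ^ j) : j ^ w % p = i ^ w % p := by
  have hg := mem_norm hy hi h
  set N := normalizer ((zpowers y : Subgroup Q) : Set Q) with hNd
  have hCN : centralizer ((zpowers y : Subgroup Q) : Set Q) ≤ N := centralizer_le_normalizer _
  have hn : ((centralizer ((zpowers y : Subgroup Q) : Set Q)).subgroupOf N).Normal := by
    rw [hNd, ← normalizerMonoidHom_ker]
    infer_instance
  have hidx : ((centralizer ((zpowers y : Subgroup Q) : Set Q)).subgroupOf N).index = w := by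
    have h1 := ((centralizer ((zpowers y : Subgroup Q) : Set Q)).subgroupOf N).card_mul_index
    have hcc : Nat.card (centralizer ((zpowers y : Subgroup Q) : Set Q)) = Nat.card (centralizer ({y} : Set Q)) := by
      rw [centralizer_zpowers]
    rw [Nat.card_congr (subgroupOfEquivOfLe hCN).toEquiv, hN, ← hcc, mul_comm w] at h1
    exact Nat.eq_of_mul_eq_mul_left Nat.card_pos h1
  have h1 := Subgroup.pow_index_mem ((centralizer ((zpowers y : Subgroup Q) : Set Q)).subgroupOf N) (⟨g, hg⟩ : N)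
  rw [hidx, mem_subgroupOf, centralizer_zpowers] at h1
  have h2 : g ^ w ∈ centralizer ({y} : Set Q) := h1
  rw [mem_centralizer_singleton_iff] at h2
  have h3 := conj_pow_pow h w
  have h4 : g ^ w * y ^ (i ^ w) * (g ^ w)⁻¹ = y ^ (i ^ w) := by
    rw [(Commute.pow_right (show Commute (g ^ w) y from h2) (i ^ w)).eq, mul_inv_cancel_right]
  rw [h4, pow_eq_pow_iff_modEq, hy] at h3
  exact h3.symm

/-- **The order of the normalizer.** -/
theorem exists_w {n k : ℕ} (hn : Nat.card Q = n) (h2 : ¬ p ^ 2 ∣ n) (hy : orderOf y = p)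
    (hC : Nat.card (centralizer ({y} : Set Q)) = p * k) :
    ∃ w m : ℕ, w ∣ p - 1 ∧ Nat.card (normalizer ((zpowers y : Subgroup Q) : Set Q)) = w * (p * k) ∧
      n = m * (w * (p * k)) ∧ m % p = 1 := by
  have hpp : p.Prime := hp.out
  set N := normalizer ((zpowers y : Subgroup Q) : Set Q) with hNd
  have hCN : centralizer ((zpowers y : Subgroup Q) : Set Q) ≤ N := centralizer_le_normalizer _
  have h1 := ((centralizer ((zpowers y : Subgroup Q) : Set Q)).subgroupOf N).card_mul_index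
  have hcc : Nat.card (centralizer ((zpowers y : Subgroup Q) : Set Q)) = p * k := by
    rw [centralizer_zpowers, hC]
  rw [Nat.card_congr (subgroupOfEquivOfLe hCN).toEquiv, hcc] at h1
  set w := ((centralizer ((zpowers y : Subgroup Q) : Set Q)).subgroupOf N).index with hw
  -- `w ∣ p - 1`
  have hwp : w ∣ p - 1 := by
    have h3 : Nat.card (MulAut (zpowers y)) = p - 1 := by
      rw [IsCyclic.card_mulAut, Nat.card_zpowers, hy, Nat.totient_prime hpp]
    have h4 := Subgroup.index_ker (normalizerMonoidHom (zpowers y))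
    rw [normalizerMonoidHom_ker] at h4
    rw [hw, hNd, h4, ← h3]
    exact card_subgroup_dvd_card _
  -- Sylow
  have hzp : IsPGroup p (zpowers y) := IsPGroup.of_card (n := 1) (by rw [Nat.card_zpowers, hy, pow_one])
  obtain ⟨P, hPle⟩ := hzp.exists_le_sylow
  have hPz : (P : Subgroup Q) = zpowers y := by
    symm
    refine eq_of_le_of_card_ge hPle ?_
    rw [Nat.card_zpowers, hy]
    obtain ⟨a, ha⟩ := (IsPGroup.iff_card).1 P.2
    have h3 : Nat.card P ∣ Nat.card Q := card_subgroup_dvd_card _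
    have h4 : a < 2 := by
      by_contra h5
      push Not at h5
      exact h2 (hn ▸ (pow_dvd_pow p h5).trans (ha ▸ h3))
    have h5 : Nat.card (P : Subgroup Q) = p ^ a := ha
    rw [h5]
    calc p ^ a ≤ p ^ 1 := Nat.pow_le_pow_right hpp.pos (by omega)
      _ = p := pow_one p
  have h5 : Nat.card (Sylow p Q) = N.index := by
    have h5 := P.card_eq_index_normalizer
    have e : normalizer ((P : Subgroup Q) : Set Q) = N := by rw [hPz]
    rw [← e]
    exact h5
  have h6 := card_sylow_modEq_one p Q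
  rw [h5] at h6
  refine ⟨w, N.index, hwp, ?_, ?_, ?_⟩
  · rw [← h1, mul_comm]
  · have h7 := N.card_mul_index
    rw [hn] at h7
    rw [← h7, ← h1]
    ring
  · have h8 : N.index % p = 1 % p := h6
    rw [h8, Nat.mod_eq_of_lt hpp.one_lt]

end

end Cfsg.Agent.H243.RIM
end

-- part: H243/RIM/Cls
section
set_option linter.all false
open scoped Cfsg.Agent.FastGrp

/-!
# Classes of elements of prime order (helper243, for S4816)
-/

set_option autoImplicit false
set_option linter.unusedSectionVars false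

namespace Cfsg.Agent.H243.RIM

open Subgroup

variable {Q : Type*} [Group Q] [Finite Q]

theorem orderOf_of_conj {a b : Q} (h : IsConj a b) : orderOf a = orderOf b := by
  obtain ⟨c, rfl⟩ := isConj_iff.1 h
  exact (MulEquiv.orderOf_eq (MulAut.conj c) a).symm

/-- classes of elements of different orders -/
theorem card_biUnion (I : Finset ℕ) (Fn : ℕ → Finset (ConjClasses Q)) [DecidableEq (ConjClasses Q)]
    (h : ∀ n ∈ I, ∀ C ∈ Fn n, ∃ g : Q, ConjClasses.mk g = C ∧ orderOf g = n) :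
    (I.biUnion Fn).card = ∑ n ∈ I, (Fn n).card := by
  refine Finset.card_biUnion fun i hi j hj hij => ?_
  rw [Function.onFun, Finset.disjoint_left]
  intro C h1 h2
  obtain ⟨a, rfl, ha⟩ := h i hi C h1
  obtain ⟨b, hb, hb'⟩ := h j hj _ h2
  have h3 : IsConj b a := ConjClasses.mk_eq_mk_iff_isConj.1 hb
  exact hij (by rw [← ha, ← hb', orderOf_of_conj h3])

/-- the classes of the powers of an element of prime order -/
theorem card_image_pow {p : ℕ} [hp : Fact p.Prime] [DecidableEq (ConjClasses Q)] {y : Q} (hy : orderOf y = p) {w : ℕ}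
    (hN : Nat.card (normalizer ((zpowers y : Subgroup Q) : Set Q)) = w * Nat.card (centralizer ({y} : Set Q)))
    (J : Finset ℕ) (h1 : ∀ i ∈ J, ¬ p ∣ i) (h2 : ∀ i ∈ J, ∀ j ∈ J, j ^ w % p = i ^ w % p → i = j) :
    (J.image fun i => ConjClasses.mk (y ^ i)).card = J.card ∧
      ∀ C ∈ J.image (fun i => ConjClasses.mk (y ^ i)), ∃ g : Q, ConjClasses.mk g = C ∧ orderOf g = p := by
  constructor
  · refine Finset.card_image_of_injOn fun i hi j hj hij => ?_
    have h3 : IsConj (y ^ i) (y ^ j) := ConjClasses.mk_eq_mk_iff_isConj.1 hij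
    obtain ⟨g, hg⟩ := isConj_iff.1 h3
    exact h2 i hi j hj (pow_w hy hN (h1 i hi) hg)
  · intro C hC
    obtain ⟨i, hi, rfl⟩ := Finset.mem_image.1 hC
    refine ⟨_, rfl, ?_⟩
    rw [Nat.Coprime.orderOf_pow, hy]
    rw [hy]
    exact (Nat.Prime.coprime_iff_not_dvd hp.out).2 (h1 i hi)

/-- **Self-centralizing elements of prime order**: no element of order `p q`. -/
theorem card_centralizer {p : ℕ} [hp : Fact p.Prime] {y : Q} (hy : orderOf y = p) (h2 : ¬ p ^ 2 ∣ Nat.card Q)
    (hno : ∀ g : Q, ∀ q : ℕ, q.Prime → q ≠ p → orderOf g ≠ p * q) :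
    Nat.card (centralizer ({y} : Set Q)) = p := by
  have hpp : p.Prime := hp.out
  set C := centralizer ({y} : Set Q) with hC
  have hyC : y ∈ C := by
    rw [hC, mem_centralizer_singleton_iff]
  have hpg : IsPGroup p C := by
    have h3 : ∀ q : ℕ, q.Prime → q ∣ Nat.card C → q = p := by
      intro q hq hqd
      by_contra hne
      have : Fact q.Prime := ⟨hq⟩
      obtain ⟨c, hc⟩ := exists_prime_orderOf_dvd_card' q hqd
      have hc' : orderOf (c : Q) = q := by rw [Subgroup.orderOf_coe]; exact hc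
      have hcomm : Commute y (c : Q) := by
        have h9 : (c : Q) ∈ centralizer ({y} : Set Q) := c.2
        rw [mem_centralizer_singleton_iff] at h9
        exact h9.symm
      have h4 : orderOf (y * (c : Q)) = p * q := by
        rw [hcomm.orderOf_mul_eq_mul_orderOf_of_coprime, hy, hc']
        rw [hy, hc']
        exact (Nat.coprime_primes hpp hq).2 (Ne.symm hne)
      exact hno _ q hq hne h4
    have h5 : Nat.card C ≠ 0 := Nat.card_pos.ne'
    have h6 : Nat.card C = p ^ (Nat.card C).factorization p := by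
      apply Nat.eq_of_factorization_eq h5 (pow_ne_zero _ hpp.ne_zero)
      intro q
      by_cases hq : q.Prime
      · by_cases hqd : q ∣ Nat.card C
        · rw [h3 q hq hqd, hpp.factorization_pow, Finsupp.single_eq_same]
        · have hqp : q ≠ p := by
            rintro rfl
            apply hqd
            rw [← hy]
            have h7 := _root_.orderOf_dvd_natCard (⟨y, hyC⟩ : C)
            rwa [← Subgroup.orderOf_coe] at h7
          rw [Nat.factorization_eq_zero_of_not_dvd hqd, hpp.factorization_pow, Finsupp.single_eq_of_ne hqp]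
      · rw [Nat.factorization_eq_zero_of_not_prime _ hq, Nat.factorization_eq_zero_of_not_prime _ hq]
    exact IsPGroup.of_card h6
  obtain ⟨a, ha⟩ := (IsPGroup.iff_card).1 hpg
  have h3 : p ∣ Nat.card C := by
    rw [← hy]
    have h7 := _root_.orderOf_dvd_natCard (⟨y, hyC⟩ : C)
    rwa [← Subgroup.orderOf_coe] at h7
  have h4 : Nat.card C ∣ Nat.card Q := card_subgroup_dvd_card _
  rcases Nat.lt_or_ge a 2 with h5 | h5
  · interval_cases a
    · rw [ha, pow_zero, Nat.dvd_one] at h3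
      exact absurd h3 hpp.one_lt.ne'
    · rw [ha, pow_one]
  · exact absurd ((pow_dvd_pow p h5).trans (ha ▸ h4)) h2

end Cfsg.Agent.H243.RIM
end

-- part: H88/RIM/T3
section
prune_inst 0x220080000000000000080000000000001c410000
set_option linter.all false
open scoped Cfsg.Agent.FastGrp

/-!
# S4816, EK tools E5 and E6 (helper88)

* `smul_eq_of_no_fixed` (E5): `y ^ s = 1`, `s` prime, `A` abelian normalised by `y`, no `|A|`-torsion in `V`, `y` without
  non-zero fixed vectors: every `a (y a y⁻¹)⁻¹` acts trivially on `V`. `exists_fixed`, `exists_proper` : the usual forms.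
* `exists_gen` (E6): generation by few conjugates of a Sylow subgroup; `card_le_index_pow` : `|V| ≤ |V : C_V(P)|^(k+1)`;
  `index_le_card_sylow` : `|V : C_V(P)| ≤ n_p`; `card_le_sylow_pow` : `|V| ≤ n_p^(k+1)`, `(p+1)^k ≤ |H : P|`.
-/

set_option autoImplicit false

namespace Cfsg.Agent.H88.RIM

open scoped Pointwise

section T3

variable {H V : Type*} [Group H] [AddCommGroup V] [DistribMulAction H V]

/-- **E5.** -/
theorem smul_eq_of_no_fixed {s : ℕ} (hs : s.Prime) {y : H} (hy : y ^ s = 1) (A : Subgroup H) [Finite A]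
    (hn : ∀ a ∈ A, y * a * y⁻¹ ∈ A) (hab : ∀ a ∈ A, ∀ b ∈ A, a * b = b * a)
    (htor : ∀ v : V, Nat.card A • v = 0 → v = 0) (hfix : ∀ v : V, y • v = v → v = 0)
    {a : H} (ha : a ∈ A) (v : V) : (a * (y * a * y⁻¹)⁻¹) • v = v := by
  classical
  have : Fintype A := Fintype.ofFinite A
  have hnj : ∀ (j : ℕ) (a : H), a ∈ A → y ^ j * a * (y ^ j)⁻¹ ∈ A := by
    intro j
    induction j with
    | zero => intro a ha; simpa using ha
    | succ j ih =>
      intro a ha
      have := ih _ (hn a ha)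
      have e : y ^ (j + 1) * a * (y ^ (j + 1))⁻¹ = y ^ j * (y * a * y⁻¹) * (y ^ j)⁻¹ := by
        rw [pow_succ]; group
      rwa [e]
  -- the operator `Σ_j (a y a⁻¹)^j` is zero
  have h0 : ∀ (a : H) (v : V), ∑ j ∈ Finset.range s, (a * y ^ j * a⁻¹) • v = 0 := by
    intro a v
    set w : V := ∑ j ∈ Finset.range s, (y ^ j) • (a⁻¹ • v) with hw
    have h1 : y • w = w := by
      rw [hw, Finset.smul_sum]
      have h2 := Finset.sum_range_succ (fun j => (y ^ j) • (a⁻¹ • v)) s
      have h3 := Finset.sum_range_succ' (fun j => (y ^ j) • (a⁻¹ • v)) s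
      rw [hy, one_smul] at h2
      rw [pow_zero, one_smul, h2] at h3
      have h4 := add_right_cancel h3
      rw [h4]
      refine Finset.sum_congr rfl fun j _ => ?_
      rw [smul_smul, ← pow_succ']
    have h5 := hfix w h1
    have h6 : ∑ j ∈ Finset.range s, (a * y ^ j * a⁻¹) • v = a • w := by
      rw [hw, Finset.smul_sum]
      refine Finset.sum_congr rfl fun j _ => ?_
      rw [smul_smul, smul_smul, mul_assoc]
    rw [h6, h5, smul_zero]
  -- the sums `S j v = Σ_a (a (y^j a y^-j)⁻¹) • v` are fixed by the image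
  let S : ℕ → V → V := fun j v => ∑ a : A, ((a : H) * (y ^ j * (a : H) * (y ^ j)⁻¹)⁻¹) • v
  have hS : ∀ j v, ∀ c ∈ A, (c * (y ^ j * c * (y ^ j)⁻¹)⁻¹) • S j v = S j v := by
    intro j v c hc
    show _ • (∑ a : A, _) = _
    rw [Finset.smul_sum]
    refine Fintype.sum_equiv (Equiv.mulLeft (⟨c, hc⟩ : A)) _ _ fun a => ?_
    rw [smul_smul]
    congr 1
    show _ = (c * (a : H)) * (y ^ j * (c * (a : H)) * (y ^ j)⁻¹)⁻¹
    have e1 : y ^ j * (c * (a : H)) * (y ^ j)⁻¹ = (y ^ j * c * (y ^ j)⁻¹) * (y ^ j * (a : H) * (y ^ j)⁻¹) := by group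
    have h1 := hnj j c hc
    have h2 := hnj j a a.2
    rw [e1, hab _ h1 _ h2, mul_inv_rev _ (y ^ j * c * (y ^ j)⁻¹)]
    have h3 := hab _ (A.inv_mem h1) _ a.2
    calc c * (y ^ j * c * (y ^ j)⁻¹)⁻¹ * ((a : H) * (y ^ j * (a : H) * (y ^ j)⁻¹)⁻¹)
        = c * ((y ^ j * c * (y ^ j)⁻¹)⁻¹ * (a : H)) * (y ^ j * (a : H) * (y ^ j)⁻¹)⁻¹ := by group
      _ = c * ((a : H) * (y ^ j * c * (y ^ j)⁻¹)⁻¹) * (y ^ j * (a : H) * (y ^ j)⁻¹)⁻¹ := by rw [h3]
      _ = _ := by group
  -- the images for `j` prime to `s` are all the same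
  have hfixS : ∀ j, j ∈ Finset.range s → j ≠ 0 → ∀ v, (a * (y * a * y⁻¹)⁻¹) • S j v = S j v := by
    intro j hj hj0 v
    rw [Finset.mem_range] at hj
    have hco : Nat.Coprime j s := (hs.coprime_iff_not_dvd.2 (Nat.not_dvd_of_pos_of_lt (Nat.pos_of_ne_zero hj0) hj)).symm
    obtain ⟨k, hk⟩ : ∃ k, (y ^ j) ^ k = y := by
      obtain ⟨k, hk⟩ := Nat.exists_mul_mod_eq_one_of_coprime hco hs.one_lt
      refine ⟨k, ?_⟩
      rw [← pow_mul, ← Nat.div_add_mod (j * k) s, hk.2, pow_add, pow_mul, hy, one_pow, one_mul, pow_one]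
    -- by induction `a (z^k a z^-k)⁻¹` fixes `S j v`, `z = y^j`
    have key : ∀ (k : ℕ) (a : H), a ∈ A →
        (a * ((y ^ j) ^ k * a * ((y ^ j) ^ k)⁻¹)⁻¹) • S j v = S j v := by
      intro k
      induction k with
      | zero => intro a _; simp
      | succ k ih =>
        intro a ha
        have hz := hnj j a ha
        have h1 := ih _ hz
        have h2 := hS j v a ha
        have e : a * ((y ^ j) ^ (k + 1) * a * ((y ^ j) ^ (k + 1))⁻¹)⁻¹ =
            (a * (y ^ j * a * (y ^ j)⁻¹)⁻¹) * ((y ^ j * a * (y ^ j)⁻¹) *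
              ((y ^ j) ^ k * (y ^ j * a * (y ^ j)⁻¹) * ((y ^ j) ^ k)⁻¹)⁻¹) := by
          rw [pow_succ]; group
        rw [e, mul_smul, h1, h2]
    have h1 := key k a ha
    rwa [hk] at h1
  -- the sum over `A` of `h0`
  have hsum : Nat.card A • v + ∑ j ∈ (Finset.range s).erase 0, S j ((y ^ j) • v) = 0 := by
    have h1 : ∑ a : A, ∑ j ∈ Finset.range s, ((a : H) * y ^ j * (a : H)⁻¹) • v = 0 :=
      Finset.sum_eq_zero fun a _ => h0 a v
    rw [Finset.sum_comm] at h1
    have h2 : ∀ j, ∑ a : A, ((a : H) * y ^ j * (a : H)⁻¹) • v = S j ((y ^ j) • v) := by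
      intro j
      refine Finset.sum_congr rfl fun a _ => ?_
      rw [smul_smul]
      congr 1
      group
    simp only [h2] at h1
    rw [← Finset.add_sum_erase _ _ (Finset.mem_range.2 hs.pos)] at h1
    have h3 : S 0 ((y ^ 0) • v) = Nat.card A • v := by
      show ∑ a : A, _ = _
      simp only [_root_.pow_zero, _root_.one_mul, _root_.inv_one, _root_.mul_one, _root_.mul_inv_cancel, _root_.one_smul, _root_.Finset.sum_const, _root_.Finset.card_univ, _root_.Nat.card_eq_fintype_card]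
    rwa [h3] at h1
  have h1 : (a * (y * a * y⁻¹)⁻¹) • (Nat.card A • v) = Nat.card A • v := by
    have e : Nat.card A • v = - ∑ j ∈ (Finset.range s).erase 0, S j ((y ^ j) • v) := eq_neg_of_add_eq_zero_left hsum
    rw [e, smul_neg, Finset.smul_sum]
    congr 1
    refine Finset.sum_congr rfl fun j hj => ?_
    exact hfixS j (Finset.mem_of_mem_erase hj) (Finset.ne_of_mem_erase hj) _
  have h2 : Nat.card A • ((a * (y * a * y⁻¹)⁻¹) • v - v) = 0 := by
    rw [smul_sub, smul_comm, h1, sub_self]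
  exact sub_eq_zero.1 (htor _ h2)

/-- **E5**: `y` of prime order normalises the abelian `p'`-subgroup `A` and does not centralise it; then `y` has a non-zero
fixed vector in every faithful `F_p`-module. -/
theorem exists_fixed {p s : ℕ} (hp : p.Prime) (hs : s.Prime) {y : H} (hy : y ^ s = 1) (A : Subgroup H) [Finite A]
    (hn : ∀ a ∈ A, y * a * y⁻¹ ∈ A) (hab : ∀ a ∈ A, ∀ b ∈ A, a * b = b * a) (hpA : ¬ p ∣ Nat.card A)
    (hexp : ∀ v : V, p • v = 0) (hfaith : ∀ h ∈ A, (∀ v : V, h • v = v) → h = 1)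
    (hne : ∃ a ∈ A, y * a * y⁻¹ ≠ a) : ∃ v : V, v ≠ 0 ∧ y • v = v := by
  by_contra hcon
  have hfix : ∀ v : V, y • v = v → v = 0 := by
    intro v hv
    by_contra h0
    exact hcon ⟨v, h0, hv⟩
  have htor : ∀ v : V, Nat.card A • v = 0 → v = 0 := by
    intro v hv
    have h1 : Nat.gcd (Nat.card A) p = 1 := Nat.Coprime.symm ((hp.coprime_iff_not_dvd).2 hpA)
    have h2 := Nat.gcd_eq_gcd_ab (Nat.card A) p
    rw [h1, Nat.cast_one] at h2
    rw [← one_smul ℤ v, h2, add_smul, mul_comm, mul_comm (p : ℤ), mul_smul, mul_smul, natCast_zsmul, natCast_zsmul, hv,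
      hexp, smul_zero, smul_zero, add_zero]
  obtain ⟨a, ha, hne⟩ := hne
  have h1 : a * (y * a * y⁻¹)⁻¹ = 1 :=
    hfaith _ (A.mul_mem ha (A.inv_mem (hn a ha))) fun v => smul_eq_of_no_fixed hs hy A hn hab htor hfix ha v
  exact hne (mul_inv_eq_one.1 h1).symm

end T3

section gen

variable {H : Type*} [Group H] [Finite H]

/-- a Sylow subgroup outside a subgroup of `p'`-index -/
theorem succ_le_relIndex {p : ℕ} [hp : Fact p.Prime] {B C Q : Subgroup H} (hQC : Q ≤ C) (hQB : ¬ Q ≤ B)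
    (hQ : IsPGroup p Q) (hi : ¬ p ∣ B.relIndex C) : p + 1 ≤ B.relIndex C := by
  have h1 : B.relIndex Q ≤ B.relIndex C :=
    Subgroup.relIndex_le_of_le_right hQC (by rw [Subgroup.relIndex]; exact Subgroup.index_ne_zero_of_finite)
  have h2 : B.relIndex Q ≠ 1 := fun e => hQB (Subgroup.relIndex_eq_one.1 e)
  have h3 : p ∣ B.relIndex Q := by
    obtain ⟨n, hn⟩ := hQ.index (B.subgroupOf Q)
    rw [Subgroup.relIndex] at h2 ⊢
    rw [hn] at h2 ⊢
    rcases Nat.eq_zero_or_pos n with rfl | h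
    · exact absurd (pow_zero p) h2
    · exact dvd_pow_self p h.ne'
  have h4 : 0 < B.relIndex Q := Nat.pos_of_ne_zero (by rw [Subgroup.relIndex]; exact Subgroup.index_ne_zero_of_finite)
  have h5 : p ≤ B.relIndex C := (Nat.le_of_dvd h4 h3).trans h1
  rcases h5.lt_or_eq with h6 | h6
  · exact h6
  · exact absurd (h6 ▸ dvd_rfl) hi

/-- **E6, generation**: a group which is the normal closure of its Sylow subgroup `P` is generated by `k + 1` conjugates of
`P` with `(p+1)^k ≤ |H : P|`. -/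
theorem exists_gen {p : ℕ} [hp : Fact p.Prime] (P : Sylow p H)
    (hN : ∀ M : Subgroup H, M.Normal → (P : Subgroup H) ≤ M → M = ⊤) :
    ∀ (B : Subgroup H), (P : Subgroup H) ≤ B → ∃ (k : ℕ) (g : Fin k → H), (p + 1) ^ k ≤ B.index ∧
      B ⊔ ⨆ i, MulAut.conj (g i) • (P : Subgroup H) = ⊤ := by
  intro B
  induction h : B.index using Nat.strong_induction_on generalizing B with
  | _ n ih =>
    intro hB
    by_cases ht : B = ⊤
    · refine ⟨0, fun i => i.elim0, ?_, ?_⟩
      · rw [pow_zero, ← h, ht, Subgroup.index_top]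
      · rw [ht, top_sup_eq]
    obtain ⟨g, hg⟩ : ∃ g : H, ¬ MulAut.conj g • (P : Subgroup H) ≤ B := by
      by_contra hcon
      push Not at hcon
      apply ht
      refine top_le_iff.1 ?_
      have h1 := hN B.normalCore B.normalCore_normal (fun x hx => by
        intro g
        exact hcon g (Subgroup.smul_mem_pointwise_smul _ (MulAut.conj g) _ hx))
      rw [← h1]
      exact B.normalCore_le
    set C : Subgroup H := B ⊔ MulAut.conj g • (P : Subgroup H) with hC
    have hBC : B ≤ C := le_sup_left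
    have hPi : ¬ p ∣ B.relIndex C := by
      intro hd
      have h1 : p ∣ (P : Subgroup H).index := by
        rw [← Subgroup.relIndex_mul_index hB, ← Subgroup.relIndex_mul_index hBC]
        exact Dvd.dvd.mul_left (Dvd.dvd.mul_right hd _) _
      exact P.not_dvd_index h1
    have h2 := succ_le_relIndex (Q := MulAut.conj g • (P : Subgroup H)) le_sup_right hg
      (P.2.map (MulAut.conj g).toMonoidHom) hPi
    have h3 := Subgroup.relIndex_mul_index hBC
    have h4 : 0 < C.index := Nat.pos_of_ne_zero Subgroup.index_ne_zero_of_finite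
    have hp1 := hp.out.one_lt
    have h5 : C.index < n := by
      rw [← h, ← h3]
      nlinarith only [h2, h4, hp1]
    obtain ⟨k, g', h6, h7⟩ := ih _ h5 C rfl (hB.trans hBC)
    refine ⟨k + 1, Fin.cons g g', ?_, ?_⟩
    · rw [pow_succ, ← h, ← h3, mul_comm]
      exact Nat.mul_le_mul h2 h6
    · rw [← top_le_iff, ← h7, hC]
      refine sup_le (sup_le le_sup_left ?_) ?_
      · refine le_sup_of_le_right ?_
        exact le_iSup (fun i => MulAut.conj ((Fin.cons g g' : Fin (k + 1) → H) i) • (P : Subgroup H)) 0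
      · refine le_sup_of_le_right (iSup_le fun i => ?_)
        exact le_iSup (fun i => MulAut.conj ((Fin.cons g g' : Fin (k + 1) → H) i) • (P : Subgroup H)) i.succ

end gen

section bound

variable {H V : Type*} [Group H] [AddCommGroup V] [DistribMulAction H V]

/-- the fixed points of a subgroup in `V` -/
def fxV (V : Type*) [AddCommGroup V] [DistribMulAction H V] (P : Subgroup H) : AddSubgroup V where
  carrier := {v | ∀ g ∈ P, g • v = v}
  add_mem' {a b} ha hb g hg := by rw [smul_add, ha g hg, hb g hg]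
  zero_mem' g _ := smul_zero g
  neg_mem' {a} ha g hg := by rw [smul_neg, ha g hg]

theorem fxV_conj (g : H) (P : Subgroup H) :
    fxV V (MulAut.conj g • P) = (fxV V P).map (DistribSMul.toAddMonoidHom V g) := by
  ext v
  rw [AddSubgroup.mem_map]
  constructor
  · intro hv
    refine ⟨g⁻¹ • v, fun x hx => ?_, by simp only [_root_.DistribSMul.toAddMonoidHom_apply, _root_.smul_inv_smul]⟩
    have h1 := hv (g * x * g⁻¹) ⟨x, hx, rfl⟩
    calc x • g⁻¹ • v = g⁻¹ • ((g * x * g⁻¹) • v) := by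
          rw [smul_smul, smul_smul]
          congr 1
          group
      _ = g⁻¹ • v := by rw [h1]
  · rintro ⟨w, hw, rfl⟩ x hx
    obtain ⟨y, hy, rfl⟩ := hx
    show (g * y * g⁻¹) • (g • w) = g • w
    rw [smul_smul, inv_mul_cancel_right, mul_smul, hw y hy]

theorem index_fxV_conj (g : H) (P : Subgroup H) : (fxV V (MulAut.conj g • P)).index = (fxV V P).index := by
  rw [fxV_conj]
  exact AddSubgroup.index_map_of_bijective (MulAction.bijective g) _

/-- **E6, module form** -/
theorem card_le_pow [Finite V] (h0 : ∀ v : V, (∀ h : H, h • v = v) → v = 0) (P : Subgroup H) {k : ℕ} (g : Fin k → H)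
    (hgen : P ⊔ ⨆ i, MulAut.conj (g i) • P = ⊤) : Nat.card V ≤ (fxV V P).index ^ (k + 1) := by
  have h1 : fxV V P ⊓ ⨅ i, fxV V (MulAut.conj (g i) • P) = ⊥ := by
    rw [eq_bot_iff]
    rintro v ⟨hv1, hv2⟩
    have hv2 : ∀ i, v ∈ fxV V (MulAut.conj (g i) • P) := by simpa only [AddSubgroup.mem_iInf, _root_.AddSubgroup.coe_toAddSubmonoid, _root_.AddSubgroup.coe_iInf, _root_.Set.mem_iInter, _root_.SetLike.mem_coe] using hv2
    apply h0
    intro h
    have h2 : (⊤ : Subgroup H) ≤ MulAction.stabilizer H v := by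
      rw [← hgen]
      refine sup_le (fun x hx => hv1 x hx) (iSup_le fun i x hx => hv2 i x hx)
    exact h2 (Subgroup.mem_top h)
  calc Nat.card V = (⊥ : AddSubgroup V).index := by rw [AddSubgroup.index_bot]
    _ = (fxV V P ⊓ ⨅ i, fxV V (MulAut.conj (g i) • P)).index := by rw [h1]
    _ ≤ (fxV V P).index * (⨅ i, fxV V (MulAut.conj (g i) • P)).index := AddSubgroup.index_inf_le
    _ ≤ (fxV V P).index * ∏ i, (fxV V (MulAut.conj (g i) • P)).index :=
        Nat.mul_le_mul_left _ (AddSubgroup.index_iInf_le _)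
    _ = (fxV V P).index ^ (k + 1) := by
        simp only [index_fxV_conj, Finset.prod_const, Finset.card_univ, Fintype.card_fin]
        rw [pow_succ, mul_comm]

/-- **E6**: `|V| ≤ |V : C_V(P)|^(k+1)` with `(p+1)^k ≤ |H : P|`. -/
theorem card_le_index_pow [Finite H] [Finite V] {p : ℕ} [hp : Fact p.Prime] (P : Sylow p H)
    (hN : ∀ M : Subgroup H, M.Normal → (P : Subgroup H) ≤ M → M = ⊤)
    (h0 : ∀ v : V, (∀ h : H, h • v = v) → v = 0) :
    ∃ k : ℕ, (p + 1) ^ k ≤ (P : Subgroup H).index ∧ Nat.card V ≤ (fxV V (P : Subgroup H)).index ^ (k + 1) := by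
  obtain ⟨k, g, h1, h2⟩ := exists_gen P hN P le_rfl
  exact ⟨k, h1, card_le_pow h0 _ g h2⟩

/-- the union bound: if every vector is fixed by a Sylow subgroup, `|V : C_V(P)| ≤ n_p` -/
theorem index_le_card_sylow [Finite H] [Finite V] {p : ℕ} [hp : Fact p.Prime] (P : Sylow p H)
    (horb : ∀ v : V, ¬ p ∣ (MulAction.stabilizer H v).index) :
    (fxV V (P : Subgroup H)).index ≤ Nat.card (Sylow p H) := by
  classical
  have : Fintype V := Fintype.ofFinite V
  have : Fintype (Sylow p H) := Fintype.ofFinite _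
  have hcov : ∀ v : V, ∃ Q : Sylow p H, v ∈ fxV V (Q : Subgroup H) := by
    intro v
    have h1 : ¬ p ∣ Nat.card (MulAction.orbit H v) := by
      rw [Nat.card_congr (MulAction.orbitEquivQuotientStabilizer H v)]
      exact horb v
    obtain ⟨⟨w, g, rfl⟩, hw⟩ := P.2.nonempty_fixed_point_of_prime_not_dvd_card (MulAction.orbit H v) h1
    refine ⟨g⁻¹ • P, ?_⟩
    rintro x ⟨y, hy, rfl⟩
    have h2 := congrArg Subtype.val (hw ⟨y, hy⟩)
    have h3 : y • (g • v) = g • v := h2
    show (g⁻¹ * y * g⁻¹⁻¹) • v = v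
    rw [inv_inv, mul_smul, mul_smul, h3, inv_smul_smul]
  have hcard : ∀ Q : Sylow p H, Nat.card (fxV V (Q : Subgroup H)) = Nat.card (fxV V (P : Subgroup H)) := by
    intro Q
    obtain ⟨g, rfl⟩ := MulAction.exists_smul_eq H P Q
    have h1 := index_fxV_conj (V := V) g (P : Subgroup H)
    have h2 := (fxV V (P : Subgroup H)).card_mul_index
    have h3 := (fxV V (MulAut.conj g • (P : Subgroup H))).card_mul_index
    rw [h1, ← h2] at h3
    exact Nat.eq_of_mul_eq_mul_right (Nat.pos_of_ne_zero AddSubgroup.index_ne_zero_of_finite) h3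
  have h1 : Nat.card V ≤ Nat.card (Sylow p H) * Nat.card (fxV V (P : Subgroup H)) := by
    have h2 : (Finset.univ : Finset V) ⊆ Finset.univ.biUnion
        fun Q : Sylow p H => Finset.univ.filter fun v => v ∈ fxV V (Q : Subgroup H) := by
      intro v _
      obtain ⟨Q, hQ⟩ := hcov v
      exact Finset.mem_biUnion.2 ⟨Q, Finset.mem_univ _, Finset.mem_filter.2 ⟨Finset.mem_univ _, hQ⟩⟩
    have h3 := (Finset.card_le_card h2).trans Finset.card_biUnion_le
    have h4 : ∀ Q : Sylow p H, (Finset.univ.filter fun v => v ∈ fxV V (Q : Subgroup H)).card =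
        Nat.card (fxV V (P : Subgroup H)) := by
      intro Q
      rw [← hcard Q, Nat.card_eq_fintype_card, Fintype.card_subtype]
    rw [Finset.sum_congr rfl (fun Q _ => h4 Q), Finset.sum_const, smul_eq_mul, Finset.card_univ, Finset.card_univ,
      ← Nat.card_eq_fintype_card, ← Nat.card_eq_fintype_card] at h3
    exact h3
  rw [← (fxV V (P : Subgroup H)).card_mul_index, mul_comm] at h1
  exact Nat.le_of_mul_le_mul_right h1 Nat.card_pos

end bound

end Cfsg.Agent.H88.RIM
end

-- part: H425/RIM/Rep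
section
prune_inst 0x6f5707d657be2120000040012e2005ef3d3000500000b880000a60f060f8bbe220942ae60feb00d0a8888088c4835006817101db4620000000a840600413d07a99881940671910c1982009f00028a61000220080000000000000080000004100401c410002
set_option linter.all false
open scoped Cfsg.Agent.FastGrp

-- part: H425/RIM/Lin
section
/-!
# Linear algebra over `F₇` for the row `L₃(4)`, `p = 7` of S4816 (helper425)

`eight_le` : commuting operators `h ≠ 1`, `c` of order three whose joint characters are permuted transitively.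
-/

set_option autoImplicit false

namespace Cfsg.Agent.H425.RIM.Lin

open Module

variable {V : Type*} [AddCommGroup V] [Module (ZMod 7) V]

/-- joint eigenvectors -/
def X (h c : Module.End (ZMod 7) V) (s : ZMod 3 × ZMod 3) : Prop :=
  ∃ v : V, v ≠ 0 ∧ h v = (2 : ZMod 7) ^ s.1.val • v ∧ c v = (2 : ZMod 7) ^ s.2.val • v

/-- the projections -/
def pj (f : Module.End (ZMod 7) V) (j : ZMod 3) : Module.End (ZMod 7) V :=
  1 + (4 : ZMod 7) ^ j.val • f + (2 : ZMod 7) ^ j.val • f ^ 2

theorem pj_apply (f : Module.End (ZMod 7) V) (j : ZMod 3) (v : V) :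
    pj f j v = v + (4 : ZMod 7) ^ j.val • f v + (2 : ZMod 7) ^ j.val • f (f v) := by
  simp [pj, pow_two]

theorem four_two : ∀ j : ZMod 3, (2 : ZMod 7) ^ j.val * 4 ^ j.val = 1 := by decide

theorem two_two : ∀ j : ZMod 3, (2 : ZMod 7) ^ j.val * 2 ^ j.val = 4 ^ j.val := by decide

theorem pj_eig {f : Module.End (ZMod 7) V} (f3 : f ^ 3 = 1) (j : ZMod 3) (v : V) :
    f (pj f j v) = (2 : ZMod 7) ^ j.val • pj f j v := by
  have h1 : f (f (f v)) = v := by
    have := congrArg (fun g : Module.End (ZMod 7) V => g v) f3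
    simpa [pow_succ] using this
  rw [pj_apply, map_add, map_add, map_smul, map_smul, h1, smul_add, smul_add, smul_smul, smul_smul, four_two, two_two,
    one_smul]
  have h2 : (4 : ZMod 7) ^ j.val • f (f v) + (2 : ZMod 7) ^ j.val • v =
      (2 : ZMod 7) ^ j.val • v + (4 : ZMod 7) ^ j.val • f (f v) := add_comm _ _
  rw [add_assoc, h2]
  abel

theorem three_smul (v : V) (h : (3 : ZMod 7) • v = 0) : v = 0 := by
  have h1 : (5 : ZMod 7) • (3 : ZMod 7) • v = 0 := by rw [h, smul_zero]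
  rw [smul_smul, (by decide : (5 : ZMod 7) * 3 = 1), one_smul] at h1
  exact h1

theorem pj_sum (f : Module.End (ZMod 7) V) (v : V) : pj f 0 v + pj f 1 v + pj f 2 v = (3 : ZMod 7) • v := by
  rw [pj_apply, pj_apply, pj_apply]
  have e0 : (0 : ZMod 3).val = 0 := rfl
  have e1 : (1 : ZMod 3).val = 1 := rfl
  have e2 : (2 : ZMod 3).val = 2 := rfl
  rw [e0, e1, e2]
  have h1 : v + (4 : ZMod 7) ^ 0 • f v + (2 : ZMod 7) ^ 0 • f (f v) + (v + (4 : ZMod 7) ^ 1 • f v +
      (2 : ZMod 7) ^ 1 • f (f v)) + (v + (4 : ZMod 7) ^ 2 • f v + (2 : ZMod 7) ^ 2 • f (f v)) =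
      (3 : ZMod 7) • v + ((4 : ZMod 7) ^ 0 + 4 ^ 1 + 4 ^ 2) • f v + ((2 : ZMod 7) ^ 0 + 2 ^ 1 + 2 ^ 2) • f (f v) := by
    have h3 : (3 : ZMod 7) • v = v + v + v := by
      rw [(by decide : (3 : ZMod 7) = 1 + 1 + 1), add_smul, add_smul, one_smul]
    rw [h3, add_smul, add_smul, add_smul, add_smul]
    abel
  rw [h1, (by decide : (4 : ZMod 7) ^ 0 + 4 ^ 1 + 4 ^ 2 = 0), (by decide : (2 : ZMod 7) ^ 0 + 2 ^ 1 + 2 ^ 2 = 0),
    zero_smul, zero_smul, add_zero, add_zero]

theorem pj_ne {f : Module.End (ZMod 7) V} {v : V} (hv : v ≠ 0) : ∃ j, pj f j v ≠ 0 := by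
  by_contra hno
  push Not at hno
  have h1 := pj_sum f v
  rw [hno, hno, hno, add_zero, add_zero] at h1
  exact hv (three_smul v h1.symm)

theorem pj_comm {f g : Module.End (ZMod 7) V} (hc : g * f = f * g) (j : ZMod 3) (v : V) :
    g (pj f j v) = pj f j (g v) := by
  have h1 : ∀ x, g (f x) = f (g x) := fun x => congrArg (fun a : Module.End (ZMod 7) V => a x) hc
  rw [pj_apply, pj_apply, map_add, map_add, map_smul, map_smul, h1, h1, h1]

theorem exists_ne {h c : Module.End (ZMod 7) V} (hc : h * c = c * h) (h3 : h ^ 3 = 1) (c3 : c ^ 3 = 1) (hne : h ≠ 1) :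
    ∃ s : ZMod 3 × ZMod 3, s ≠ 0 ∧ X h c s := by
  obtain ⟨v, hv⟩ : ∃ v, h v ≠ v := by
    by_contra hno
    push Not at hno
    exact hne (LinearMap.ext hno)
  obtain ⟨j, hj, hu⟩ : ∃ j : ZMod 3, j ≠ 0 ∧ pj h j v ≠ 0 := by
    by_contra hno
    push Not at hno
    apply hv
    have h1 := pj_sum h v
    rw [hno 1 (by decide), hno 2 (by decide), add_zero, add_zero] at h1
    have h2 := pj_eig h3 0 v
    rw [h1, map_smul, (by rfl : (0 : ZMod 3).val = 0), pow_zero, one_smul] at h2
    have h3 : (3 : ZMod 7) • (h v - v) = 0 := by rw [smul_sub, h2, sub_self]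
    exact sub_eq_zero.1 (three_smul _ h3)
  obtain ⟨i, hi⟩ := pj_ne (f := c) hu
  refine ⟨(j, i), fun h0 => hj (congrArg Prod.fst h0), _, hi, ?_, pj_eig c3 i _⟩
  rw [pj_comm hc, pj_eig h3, map_smul]

theorem add_val : ∀ i j : ZMod 3, (2 : ZMod 7) ^ i.val * 2 ^ j.val = 2 ^ (i + j).val := by decide

theorem X.step {h c n : Module.End (ZMod 7) V} (hn : ∀ v, n v = 0 → v = 0) {s : ZMod 3 × ZMod 3} (hs : X h c s)
    (a b a' b' : ℕ) (e1 : h * n = n * (h ^ a * c ^ b)) (e2 : c * n = n * (h ^ a' * c ^ b')) :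
    X h c (a * s.1 + b * s.2, a' * s.1 + b' * s.2) := by
  obtain ⟨v, hv, h1, h2⟩ := hs
  have hp : ∀ k : ℕ, (h ^ k) v = (2 : ZMod 7) ^ ((k : ZMod 3) * s.1).val • v := by
    intro k
    induction k with
    | zero => simp
    | succ k ih =>
      rw [pow_succ', Module.End.mul_apply, ih, map_smul, h1, smul_smul, add_val]
      congr 3
      push_cast
      ring
  have hq : ∀ k : ℕ, (c ^ k) v = (2 : ZMod 7) ^ ((k : ZMod 3) * s.2).val • v := by
    intro k
    induction k with
    | zero => simp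
    | succ k ih =>
      rw [pow_succ', Module.End.mul_apply, ih, map_smul, h2, smul_smul, add_val]
      congr 3
      push_cast
      ring
  have hw : ∀ a b : ℕ, (h ^ a * c ^ b) v = (2 : ZMod 7) ^ ((a : ZMod 3) * s.1 + b * s.2).val • v := by
    intro a b
    rw [Module.End.mul_apply, hq, map_smul, hp, smul_smul, add_val, add_comm]
  refine ⟨n v, fun h0 => hv (hn v h0), ?_, ?_⟩
  · have := congrArg (fun g : Module.End (ZMod 7) V => g v) e1
    simp only [Module.End.mul_apply] at this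
    have h5 := hw a b
    rw [Module.End.mul_apply] at h5
    rw [this, h5, map_smul]
  · have := congrArg (fun g : Module.End (ZMod 7) V => g v) e2
    simp only [Module.End.mul_apply] at this
    have h5 := hw a' b'
    rw [Module.End.mul_apply] at h5
    rw [this, h5, map_smul]

/-- first rotation -/
def r1 (s : ZMod 3 × ZMod 3) : ZMod 3 × ZMod 3 :=
  (((0 : ℕ) : ZMod 3) * s.1 + ((1 : ℕ) : ZMod 3) * s.2, ((2 : ℕ) : ZMod 3) * s.1 + ((0 : ℕ) : ZMod 3) * s.2)

/-- second rotation -/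
def r2 (s : ZMod 3 × ZMod 3) : ZMod 3 × ZMod 3 :=
  (((1 : ℕ) : ZMod 3) * s.1 + ((1 : ℕ) : ZMod 3) * s.2, ((1 : ℕ) : ZMod 3) * s.1 + ((2 : ℕ) : ZMod 3) * s.2)

theorem transitive : ∀ s t : ZMod 3 × ZMod 3, s ≠ 0 → t ≠ 0 →
    t = s ∨ t = r1 s ∨ t = r1 (r1 s) ∨ t = r1 (r1 (r1 s)) ∨ t = r2 s ∨ t = r1 (r2 s) ∨ t = r1 (r1 (r2 s)) ∨
      t = r1 (r1 (r1 (r2 s))) := by
  decide

/-- the joint eigenvalues -/
def chi (s : ZMod 3 × ZMod 3) : Fin 2 → ZMod 7 := ![2 ^ s.1.val, 2 ^ s.2.val]

theorem chi_inj : Function.Injective chi := by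
  intro s t h
  have h0 := congrFun h 0
  have h1 := congrFun h 1
  simp only [chi, Matrix.cons_val_zero, Matrix.cons_val_one] at h0 h1
  have key : ∀ i j : ZMod 3, (2 : ZMod 7) ^ i.val = 2 ^ j.val → i = j := by decide
  exact Prod.ext (key _ _ h0) (key _ _ h1)

theorem eight_le [Module.Finite (ZMod 7) V] {h c n₁ n₂ : Module.End (ZMod 7) V} (hc : h * c = c * h) (h3 : h ^ 3 = 1)
    (c3 : c ^ 3 = 1) (hne : h ≠ 1) (hn₁ : ∀ v, n₁ v = 0 → v = 0) (hn₂ : ∀ v, n₂ v = 0 → v = 0)
    (a1 : h * n₁ = n₁ * c) (b1 : c * n₁ = n₁ * (h * h)) (a2 : h * n₂ = n₂ * (h * c)) (b2 : c * n₂ = n₂ * (h * (c * c))) :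
    8 ≤ finrank (ZMod 7) V := by
  have : Fact (Nat.Prime 7) := ⟨by norm_num⟩
  obtain ⟨s, hs, hX⟩ := exists_ne hc h3 c3 hne
  have s1 : ∀ s, X h c s → X h c (r1 s) := fun s hs =>
    hs.step hn₁ 0 1 2 0 (by simpa using a1) (by simpa [pow_two] using b1)
  have s2 : ∀ s, X h c s → X h c (r2 s) := fun s hs =>
    hs.step hn₂ 1 1 1 2 (by simpa using a2) (by simpa [pow_two] using b2)
  have hall : ∀ t : ZMod 3 × ZMod 3, t ≠ 0 → X h c t := by
    intro t ht
    rcases transitive s t hs ht with rfl | rfl | rfl | rfl | rfl | rfl | rfl | rfl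
    · exact hX
    · exact s1 _ hX
    · exact s1 _ (s1 _ hX)
    · exact s1 _ (s1 _ (s1 _ hX))
    · exact s2 _ hX
    · exact s1 _ (s2 _ hX)
    · exact s1 _ (s1 _ (s2 _ hX))
    · exact s1 _ (s1 _ (s1 _ (s2 _ hX)))
  choose v hv0 hvh hvc using fun t : {t : ZMod 3 × ZMod 3 // t ≠ 0} => hall t.1 t.2
  have hind := Module.End.independent_iInf_maxGenEigenspace_of_forall_mapsTo (![h, c] : Fin 2 → Module.End (ZMod 7) V)
    (by
      intro i j μ
      apply Module.End.mapsTo_maxGenEigenspace_of_comm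
      fin_cases i <;> fin_cases j
      · exact Commute.refl _
      · exact hc.symm
      · exact hc
      · exact Commute.refl _)
  have hind2 := hind.comp (f := fun t : {t : ZMod 3 × ZMod 3 // t ≠ 0} => chi t.1)
    (chi_inj.comp Subtype.val_injective)
  have hli : LinearIndependent (ZMod 7) v := by
    refine iSupIndep.linearIndependent _ hind2 (fun t => ?_) hv0
    simp only [Function.comp_apply, Submodule.mem_iInf]
    intro i
    rw [Module.End.mem_maxGenEigenspace]
    refine ⟨1, ?_⟩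
    fin_cases i
    · show (h - ((2 : ZMod 7) ^ t.1.1.val) • (1 : Module.End (ZMod 7) V)) ^ 1 • v t = 0
      rw [pow_one]
      show h (v t) - (2 : ZMod 7) ^ t.1.1.val • v t = 0
      rw [hvh t, sub_self]
    · show (c - ((2 : ZMod 7) ^ t.1.2.val) • (1 : Module.End (ZMod 7) V)) ^ 1 • v t = 0
      rw [pow_one]
      show c (v t) - (2 : ZMod 7) ^ t.1.2.val • v t = 0
      rw [hvc t, sub_self]
  have h1 := hli.fintype_card_le_finrank
  have h2 : Fintype.card {t : ZMod 3 × ZMod 3 // t ≠ 0} = 8 := by decide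
  omega

end Cfsg.Agent.H425.RIM.Lin
end

-- part: H425/RIM/Rep
section
/-!
# Normalised lifts of elements of order three in dimension four over `F₇` (helper425)

`H` acts irreducibly on `V = F₇⁴`, `π : H → S` with central kernel. An element `t` of `S` with `t³ = 1` has exactly one
lift `T` to the group of operators, up to scalars, with `T³ = 1`, `det T = 1`.
-/

set_option autoImplicit false

namespace Cfsg.Agent.H425.RIM.Rep

open Module Lin

theorem ar1 : ∀ b : ZMod 7, b ^ 3 = 1 → b ^ 4 = 1 → b = 1 := by decide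

theorem ar2 : ∀ d b : ZMod 7, b ^ 3 = 1 → d ^ 3 = b ^ 4 → b = 1 := by decide

theorem ar3 : ∀ d : ZMod 7, d ^ 3 = 1 → (d ^ 2) ^ 4 * d = 1 := by decide

theorem ar5 : ∀ j : ZMod 3, ((2 : ZMod 7) ^ j.val) ^ 3 = 1 := by decide

theorem ar4 : ∀ d : ZMod 7, d ^ 3 = 1 → d ≠ 0 := by decide

variable {H V S : Type*} [Group H] [AddCommGroup V] [Module (ZMod 7) V] [DistribMulAction H V] [Group S]

/-- the operators -/
def rho (g : H) : Module.End (ZMod 7) V := (DistribSMul.toAddMonoidHom V g).toZModLinearMap 7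

theorem rho_apply (g : H) (v : V) : rho g v = g • v := rfl

theorem rho_mul (g h : H) : (rho (g * h) : Module.End (ZMod 7) V) = rho g * rho h :=
  LinearMap.ext fun v => mul_smul g h v

theorem rho_one : (rho (1 : H) : Module.End (ZMod 7) V) = 1 := LinearMap.ext fun v => one_smul H v

theorem rho_pow (g : H) (n : ℕ) : (rho (g ^ n) : Module.End (ZMod 7) V) = rho g ^ n := by
  induction n with
  | zero => rw [pow_zero, pow_zero, rho_one]
  | succ n ih => rw [pow_succ, pow_succ, rho_mul, ih]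

theorem rho_inv_mul (g : H) : (rho g⁻¹ : Module.End (ZMod 7) V) * rho g = 1 := by
  rw [← rho_mul, inv_mul_cancel, rho_one]

theorem rho_mul_inv (g : H) : (rho g : Module.End (ZMod 7) V) * rho g⁻¹ = 1 := by
  rw [← rho_mul, mul_inv_cancel, rho_one]

/-- the setting -/
structure Irr4 (π : H →* S) : Prop where
  surj : Function.Surjective π
  cen : ∀ k : H, π k = 1 → ∀ h : H, k * h = h * k
  nt : Nontrivial V
  irr : ∀ W : AddSubgroup V, (∀ h : H, ∀ w ∈ W, h • w ∈ W) → W = ⊥ ∨ W = ⊤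
  dim : finrank (ZMod 7) V = 4

variable {π : H →* S} (A : Irr4 (V := V) π)

include A

theorem Irr4.finite : Module.Finite (ZMod 7) V := by
  have : Fact (Nat.Prime 7) := ⟨by norm_num⟩
  exact Module.finite_of_finrank_pos (by rw [A.dim]; norm_num)

/-- an operator of order three which commutes with `H` is a scalar -/
theorem Irr4.scalar {f : Module.End (ZMod 7) V} (hf : ∀ h : H, f * rho h = rho h * f) (f3 : f ^ 3 = 1) :
    ∃ b : ZMod 7, b ^ 3 = 1 ∧ f = b • (1 : Module.End (ZMod 7) V) := by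
  have := A.nt
  obtain ⟨v, hv⟩ := exists_ne (0 : V)
  obtain ⟨j, hj⟩ := pj_ne (f := f) hv
  have h1 := pj_eig f3 j v
  refine ⟨2 ^ j.val, ar5 j, ?_⟩
  let W : AddSubgroup V :=
    { carrier := {v | f v = (2 : ZMod 7) ^ j.val • v}
      zero_mem' := by simp
      add_mem' := by
        intro a b ha hb
        simp only [Set.mem_ofPred_eq] at ha hb ⊢
        rw [map_add, ha, hb, smul_add]
      neg_mem' := by
        intro a ha
        simp only [Set.mem_ofPred_eq] at ha ⊢
        rw [map_neg, ha, smul_neg] }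
  have hW : W = ⊥ ∨ W = ⊤ := by
    apply A.irr
    intro h w hw
    have hw' : f w = (2 : ZMod 7) ^ j.val • w := hw
    show f (h • w) = (2 : ZMod 7) ^ j.val • (h • w)
    have h2 := congrArg (fun g : Module.End (ZMod 7) V => g w) (hf h)
    simp only [Module.End.mul_apply, rho_apply] at h2
    rw [h2, hw', ← rho_apply, map_smul, rho_apply]
  rcases hW with hW | hW
  · exfalso
    have h2 : pj f j v ∈ W := h1
    rw [hW] at h2
    exact hj (AddSubgroup.mem_bot.1 h2)
  · apply LinearMap.ext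
    intro w
    have h2 : w ∈ W := by rw [hW]; exact AddSubgroup.mem_top w
    exact h2

/-- the determinant of a scalar -/
theorem Irr4.det_scalar (b : ZMod 7) : LinearMap.det (b • (1 : Module.End (ZMod 7) V)) = b ^ 4 := by
  have : Fact (Nat.Prime 7) := ⟨by norm_num⟩
  rw [LinearMap.det_smul, A.dim, map_one, mul_one]

theorem Irr4.eq_one {f : Module.End (ZMod 7) V} (hf : ∀ h : H, f * rho h = rho h * f) (f3 : f ^ 3 = 1)
    (hd : LinearMap.det f = 1) : f = 1 := by
  obtain ⟨b, hb, rfl⟩ := A.scalar hf f3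
  rw [A.det_scalar] at hd
  have hb1 : b = 1 := ar1 b hb hd
  rw [hb1, one_smul]

/-- a cube of an operator which is a scalar of order three is trivial -/
theorem Irr4.eq_one_of_cube {f g : Module.End (ZMod 7) V} (hf : ∀ h : H, f * rho h = rho h * f) (f3 : f ^ 3 = 1)
    (hg : g ^ 3 = f) : f = 1 := by
  obtain ⟨b, hb, hfb⟩ := A.scalar hf f3
  have h1 : LinearMap.det g ^ 3 = b ^ 4 := by
    rw [← map_pow, hg, hfb, A.det_scalar]
  rw [hfb, ar2 _ _ hb h1, one_smul]

omit A in
/-- `T` is a normalised lift of `t` -/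
def NL (π : H →* S) (t : S) (T : Module.End (ZMod 7) V) : Prop :=
  T ^ 3 = 1 ∧ LinearMap.det T = 1 ∧ ∃ (g : H) (a : ZMod 7), a ≠ 0 ∧ π g = t ∧ T = a • rho g

theorem Irr4.comm_of_ker {k : H} (hk : π k = 1) (h : H) : (rho k : Module.End (ZMod 7) V) * rho h = rho h * rho k := by
  rw [← rho_mul, A.cen k hk h, rho_mul]

theorem Irr4.unique {t : S} {T T' : Module.End (ZMod 7) V} (h : NL π t T) (h' : NL π t T') : T = T' := by
  have : Fact (Nat.Prime 7) := ⟨by norm_num⟩
  obtain ⟨c3, d1, g, a, ha, hg, hT⟩ := h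
  obtain ⟨c3', d1', g', a', ha', hg', hT'⟩ := h'
  have hk : π (g⁻¹ * g') = 1 := by rw [map_mul, map_inv, hg, hg', inv_mul_cancel]
  set z : Module.End (ZMod 7) V := (a⁻¹ * a') • rho (g⁻¹ * g') with hz
  have hTz : T' = T * z := by
    rw [hT', hT, hz, smul_mul_smul_comm, ← rho_mul, mul_inv_cancel_left, ← mul_assoc, mul_inv_cancel₀ ha, one_mul]
  have hzc : ∀ h : H, z * rho h = rho h * z := by
    intro h
    rw [hz, smul_mul_assoc, mul_smul_comm, A.comm_of_ker hk]
  have hTc : Commute T z := by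
    show T * z = z * T
    rw [hT]
    exact (smul_mul_assoc a (rho g) z).trans ((congrArg (a • ·) (hzc g).symm).trans (mul_smul_comm a z (rho g)).symm)
  have hz3 : z ^ 3 = 1 := by
    have h1 := c3'
    rw [hTz, hTc.mul_pow, c3, one_mul] at h1
    exact h1
  have hzd : LinearMap.det z = 1 := by
    have h1 := d1'
    rw [hTz, map_mul, d1, one_mul] at h1
    exact h1
  rw [hTz, A.eq_one hzc hz3 hzd, mul_one]

omit A in
theorem NL.conj {t : S} {T : Module.End (ZMod 7) V} (h : NL π t T) (n : H) :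
    NL π ((π n)⁻¹ * t * π n) (rho n⁻¹ * T * rho n) := by
  obtain ⟨c3, d1, g, a, ha, hg, hT⟩ := h
  refine ⟨?_, ?_, n⁻¹ * g * n, a, ha, by rw [map_mul, map_mul, map_inv, hg], ?_⟩
  · have h1 : rho n⁻¹ * T * rho n * (rho n⁻¹ * T * rho n) * (rho n⁻¹ * T * rho n) = rho n⁻¹ * (T ^ 3) * rho n := by
      have h2 : (rho n : Module.End (ZMod 7) V) * rho n⁻¹ = 1 := rho_mul_inv n
      calc rho n⁻¹ * T * rho n * (rho n⁻¹ * T * rho n) * (rho n⁻¹ * T * rho n) =
          rho n⁻¹ * T * (rho n * rho n⁻¹) * T * (rho n * rho n⁻¹) * T * rho n := by noncomm_ring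
        _ = rho n⁻¹ * T ^ 3 * rho n := by rw [h2]; noncomm_ring
    rw [pow_succ, pow_two, h1, c3, mul_one, rho_inv_mul]
  · rw [map_mul, map_mul, d1, mul_one, ← map_mul, rho_inv_mul, map_one]
  · rw [hT, rho_mul, rho_mul, mul_smul_comm, smul_mul_assoc]

/-- the conjugation relation -/
theorem Irr4.rel {t s : S} {T U : Module.End (ZMod 7) V} (hT : NL π t T) (hU : NL π s U) {n : H}
    (h : t * π n = π n * s) : T * rho n = rho n * U := by
  have h1 := hT.conj n
  have h2 : (π n)⁻¹ * t * π n = s := by rw [mul_assoc, h, inv_mul_cancel_left]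
  rw [h2] at h1
  have h3 := A.unique h1 hU
  rw [← h3, ← mul_assoc, ← mul_assoc, rho_mul_inv, one_mul]

theorem Irr4.comm {t s : S} {T U : Module.End (ZMod 7) V} (hT : NL π t T) (hU : NL π s U) (h : t * s = s * t) :
    T * U = U * T := by
  obtain ⟨-, -, g, a, ha, hg, hU'⟩ := hU
  have h1 := A.rel (n := g) hT hT (by rw [hg, h])
  rw [hU', mul_smul_comm, smul_mul_assoc, h1]

theorem Irr4.mul {t s : S} {T U : Module.End (ZMod 7) V} (hT : NL π t T) (hU : NL π s U) (h : t * s = s * t) :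
    NL π (t * s) (T * U) := by
  have : Fact (Nat.Prime 7) := ⟨by norm_num⟩
  have hc := A.comm hT hU h
  obtain ⟨c3, d1, g, a, ha, hg, hT'⟩ := hT
  obtain ⟨c3', d1', g', a', ha', hg', hU'⟩ := hU
  refine ⟨?_, by rw [map_mul, d1, d1', one_mul], g * g', a * a', mul_ne_zero ha ha', by rw [map_mul, hg, hg'], ?_⟩
  · have h1 : Commute T U := hc
    rw [h1.mul_pow, c3, c3', one_mul]
  · rw [hT', hU', smul_mul_smul_comm, rho_mul]

/-- **Existence of the normalised lift.** -/
theorem Irr4.exists_nl [Finite H] {t : S} (ht : t ^ 3 = 1) : ∃ T : Module.End (ZMod 7) V, NL π t T := by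
  classical
  have : Fact (Nat.Prime 7) := ⟨by norm_num⟩
  obtain ⟨g₀, hg₀⟩ := A.surj t
  -- a lift of 3-power order
  obtain ⟨g, hg, j, hj⟩ : ∃ g : H, π g = t ∧ ∃ j : ℕ, g ^ 3 ^ j = 1 := by
    obtain ⟨j, m, hm, hjm⟩ := Nat.exists_eq_pow_mul_and_not_dvd (orderOf_pos g₀).ne' 3 (by norm_num)
    have hco : Nat.Coprime m 3 := ((Nat.Prime.coprime_iff_not_dvd Nat.prime_three).2 hm).symm
    obtain ⟨a, -, ha⟩ := Nat.exists_mul_mod_eq_one_of_coprime hco (by norm_num)
    refine ⟨g₀ ^ (m * a), ?_, j, ?_⟩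
    · rw [map_pow, hg₀]
      have h1 : m * a = 3 * (m * a / 3) + 1 := by omega
      rw [h1, pow_succ, pow_mul, ht, one_pow, one_mul]
    · rw [← pow_mul, show m * a * 3 ^ j = (3 ^ j * m) * a by ring, ← hjm, pow_mul, pow_orderOf_eq_one, one_pow]
  -- `ρ(g)³ = 1`
  have key : ∀ j : ℕ, (rho g : Module.End (ZMod 7) V) ^ 3 ^ (j + 1) = 1 → (rho g : Module.End (ZMod 7) V) ^ 3 = 1 := by
    intro j
    induction j with
    | zero => intro h; simpa using h
    | succ j ih =>
      intro h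
      apply ih
      have e1 : ((rho g : Module.End (ZMod 7) V) ^ 3 ^ j) ^ 3 = rho g ^ 3 ^ (j + 1) := by
        rw [← pow_mul, ← pow_succ]
      have e2 : ((rho g : Module.End (ZMod 7) V) ^ 3 ^ (j + 1)) ^ 3 = 1 := by
        rw [← pow_mul, ← pow_succ, h]
      refine A.eq_one_of_cube (fun h => ?_) e2 e1
      rw [← rho_pow]
      apply A.comm_of_ker
      rw [map_pow, hg, pow_succ, mul_comm, pow_mul, ht, one_pow]
  have h3 : (rho g : Module.End (ZMod 7) V) ^ 3 = 1 := by
    apply key j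
    rw [← rho_pow, pow_succ, pow_mul, hj, one_pow, rho_one]
  have hd : LinearMap.det (rho g : Module.End (ZMod 7) V) ^ 3 = 1 := by rw [← map_pow, h3, map_one]
  set d := LinearMap.det (rho g : Module.End (ZMod 7) V) with hdd
  have hd0 : d ≠ 0 := ar4 d hd
  refine ⟨(d ^ 2) • rho g, ?_, ?_, g, d ^ 2, pow_ne_zero 2 hd0, hg, rfl⟩
  · rw [smul_pow, h3, ← pow_mul, mul_comm, pow_mul, hd, one_pow, one_smul]
  · rw [LinearMap.det_smul, A.dim, ← hdd]
    exact ar3 d hd

end Cfsg.Agent.H425.RIM.Rep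
end

private theorem dce_d3eed64bb664 : _root_.True := by
  try have : _root_.True := by simp only [_root_.Cfsg.Agent.H425.RIM.Lin.chi.eq_1]
  try have : _root_.True := by simp only [_root_.Cfsg.Agent.H425.RIM.Lin.pj.eq_1]
  exact _root_.True.intro
end

-- part: H588/RIM/KZero
section
prune_inst 0x2c5707c4408c0120000000502b0006224140005920000800159600244030292200900a9400000191a18082a002001002006101cf4600000000a84000000240709182ac406d3c9011da2009800328b680002200800000000000000800000041004018400002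
set_option linter.all false
open scoped Cfsg.Agent.FastGrp

-- part: H588/RIM/Br
section
/-!
# S4816: characters of degree divisible by `p` from a block with defect group of order `p` (helper588)

* `exists_dvd` : `x` of order `p`, `n` a central involution, `ξ` an irreducible character of `C(x)` with
  `ξ n = -ξ 1` whose induced central character at `y` is an integer prime to `p`, while the number of conjugates of
  `y` is divisible by `p`: then some irreducible `χ` with `χ n = -χ 1` has degree divisible by `p`.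
* `exists_dvd'` : the same for `C(x) = ⟨x⟩ × ⟨n⟩ × L`, `θ` an irreducible character of `L`.
-/

set_option autoImplicit false

namespace Cfsg.Agent.H588.RIM

open Cfsg Subgroup Cfsg.Agent.Blocks.Local

universe u

variable {G : Type u} [Group G] [Finite G]

/-- a central involution acts as `1` or `-1` -/
theorem central_sign {χ : G → ℂ} (hχ : IsIrrCharacter G χ) {n : G} (hn : n ∈ center G) (h2 : n * n = 1) :
    χ n = χ 1 ∨ χ n = -χ 1 := by
  obtain ⟨c, -, hc⟩ := Blocks.CentralizerSum.exists_central_scalar hχ (z := n) hn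
  have h1 := hc 1
  have h3 := hc n
  rw [h2] at h3
  rw [mul_one] at h1
  have h0 : χ 1 ≠ 0 := Blocks.Basic.irr_one_ne_zero hχ
  rw [h1] at h3
  have h4 : c * c = 1 := by
    apply mul_right_cancel₀ h0
    rw [one_mul, mul_assoc, ← h3]
  rcases mul_self_eq_one_iff.1 h4 with h | h
  · left; rw [h1, h, one_mul]
  · right; rw [h1, h, neg_one_mul]

theorem exists_dvd {p : ℕ} [Fact p.Prime] (hp2 : p ≠ 2) {n x y : G} (hn : n ∈ center G) (hn2 : n * n = 1)
    (hx : x ^ p = 1) {ξ : centralizer ({x} : Set G) → ℂ} (hξ : IsIrrCharacter _ ξ)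
    (hξn : ∀ h : n ∈ centralizer ({x} : Set G), ξ ⟨n, h⟩ = -ξ 1)
    (hdiv : p ∣ (centralizer ({y} : Set G)).index) {w : ℤ} (hw : ¬ (p : ℤ) ∣ w)
    (hsum : inducedCentralChar (centralizer ({x} : Set G)) ξ y = w) :
    ∃ χ : G → ℂ, IsIrrCharacter G χ ∧ χ n = -χ 1 ∧ p ∣ charDegree χ := by
  have hp : p.Prime := Fact.out
  obtain ⟨M, hM⟩ := Blocks.ExistsModular.exists_isPModular hp
  have := isPrime_of_isPModular hM
  have hP : IsPGroup p (zpowers x) := by
    intro ⟨g, hg⟩
    refine ⟨1, ?_⟩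
    obtain ⟨k, rfl⟩ := mem_zpowers_iff.1 hg
    apply Subtype.ext
    show (x ^ k) ^ p ^ 1 = 1
    rw [pow_one, ← zpow_natCast, zpow_comm, zpow_natCast, hx, one_zpow]
  obtain ⟨χ, hχ⟩ := Blocks.BrauerHom.exists_irr_induced (H := centralizer ({x} : Set G)) hM hP
    (by
      rw [zpowers_le, mem_centralizer_singleton_iff])
    (centralizer_le (by rw [Set.singleton_subset_iff]; exact mem_zpowers x))
    (by
      intro g hg
      rw [mem_centralizer_singleton_iff] at hg
      rw [mem_normalizer_iff]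
      have hc : ∀ k : ℤ, g * x ^ k = x ^ k * g := fun k => ((show Commute g x from hg).zpow_right k)
      intro h
      constructor
      · intro hh
        obtain ⟨k, rfl⟩ := mem_zpowers_iff.1 hh
        rw [hc, mul_inv_cancel_right]
        exact hh
      · intro hh
        obtain ⟨k, hk⟩ := mem_zpowers_iff.1 hh
        have : h = x ^ k := by
          have h1 : g * h = x ^ k * g := by rw [hk, inv_mul_cancel_right]
          rw [← hc] at h1
          exact mul_left_cancel h1
        rw [this]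
        exact zpow_mem (mem_zpowers x) k) hξ
  have hχ0 : (χ : G → ℂ) 1 ≠ 0 := Blocks.Basic.irr_one_ne_zero χ.2
  have hξ0 : ξ 1 ≠ 0 := Blocks.Basic.irr_one_ne_zero hξ
  refine ⟨χ, χ.2, ?_, ?_⟩
  · rcases central_sign χ.2 hn hn2 with h | h
    · exfalso
      have hnc : n ∈ centralizer ({x} : Set G) := center_le_centralizer _ hn
      have h1 : inducedCentralChar (centralizer ({x} : Set G)) ξ n = -1 := by
        unfold inducedCentralChar
        have h2 : {h : centralizer ({x} : Set G) | IsConj n (h : G)} = {⟨n, hnc⟩} := by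
          ext h
          rw [Set.mem_ofPred_eq, Set.mem_singleton_iff]
          constructor
          · intro hh
            obtain ⟨c, hc⟩ := isConj_iff.1 hh
            apply Subtype.ext
            rw [← hc, (mem_center_iff.1 hn c), mul_inv_cancel_right]
          · rintro rfl
            exact IsConj.refl n
        rw [h2, finsum_mem_singleton, hξn hnc, neg_div, div_self hξ0]
      have h2 : centralChar (χ : G → ℂ) n = 1 := by
        unfold centralChar
        have h3 : centralizer ({n} : Set G) = ⊤ := by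
          rw [eq_top_iff]
          intro g _
          rw [mem_centralizer_singleton_iff]
          exact (mem_center_iff.1 hn g)
        rw [h3, index_top, h, Nat.cast_one, one_mul, div_self hχ0]
      have h3 := hχ n
      rw [h1, h2] at h3
      have h4 : (-1 - 1 : ℂ) = ((-2 : ℤ) : ℂ) := by norm_num
      rw [h4, memLocalIdeal_intCast_iff hM, Int.dvd_neg] at h3
      have h5 : p ∣ 2 := by exact_mod_cast h3
      exact hp2 ((Nat.prime_dvd_prime_iff_eq hp Nat.prime_two).1 h5)
    · exact h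
  · by_contra hnd
    have h1 := hχ y
    rw [hsum] at h1
    apply hw
    rw [← memLocalIdeal_intCast_iff hM]
    have h2 : MemLocalIdeal M (centralChar (χ : G → ℂ) y) := by
      unfold centralChar
      rw [mul_div_assoc]
      apply memLocalIdeal_mul_right
      · exact (memLocalIdeal_natCast_iff hM _).2 hdiv
      · rw [div_eq_mul_inv]
        apply memLocalRing_mul
        · exact memLocalRing_of_isIntegral (Blocks.Central.isIntegral_irr χ.2 y)
        · rw [Blocks.Basic.irr_one_eq_charDegree χ.2]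
          exact memLocalRing_inv_natCast hM hnd
    have h3 := memLocalIdeal_add h1 h2
    rwa [sub_add_cancel] at h3

omit [Finite G] in
theorem exists_lin {A : Type*} [Group A] [Finite A] (hA : ∀ a b : A, a * b = b * a) {a : A} (ha : a ≠ 1) :
    ∃ φ : A →* ℂˣ, φ a ≠ 1 := by
  let _ : CommGroup A := { ‹Group A› with mul_comm := hA }
  exact CommGroup.exists_apply_ne_one_of_hasEnoughRootsOfUnity A ℂ ha

/-- `C(x) = ⟨x⟩ × ⟨n⟩ × L` -/
structure Dec (x n : G) (L : Subgroup G) : Prop where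
  comm : ∀ s ∈ L, s * x = x * s
  dec : ∀ c : G, c * x = x * c → ∃ a ∈ zpowers x, ∃ b ∈ zpowers n, ∃ s ∈ L, c = a * b * s
  uniq : ∀ a ∈ zpowers x, ∀ b ∈ zpowers n, a * b ∈ L → a = 1 ∧ b = 1

theorem exists_ext {x n : G} {L : Subgroup G} (hd : Dec x n L) (hn : n ∈ center G) (hn2 : n * n = 1) (hn1 : n ≠ 1)
    {θ : L → ℂ} (hθ : IsIrrCharacter L θ) :
    ∃ ξ : centralizer ({x} : Set G) → ℂ, IsIrrCharacter _ ξ ∧
      (∀ h : n ∈ centralizer ({x} : Set G), ξ ⟨n, h⟩ = -ξ 1) ∧
      ∀ (s : G) (hs : s ∈ L) (h : s ∈ centralizer ({x} : Set G)), ξ ⟨s, h⟩ = θ ⟨s, hs⟩ := by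
  have hxc : ∀ a ∈ zpowers x, ∀ s ∈ L, a * s = s * a := by
    intro a ha s hs
    obtain ⟨k, rfl⟩ := mem_zpowers_iff.1 ha
    exact ((show Commute s x from hd.comm s hs).zpow_right k).eq.symm
  have hbc : ∀ b ∈ zpowers n, ∀ g : G, b * g = g * b := by
    intro b hb g
    exact ((mem_center_iff.1 ((zpowers_le.2 hn) hb)) g).symm
  have hmem : ∀ (t : (zpowers x × zpowers n) × L), (t.1.1 : G) * t.1.2 * t.2 ∈ centralizer ({x} : Set G) := by
    intro t
    rw [mem_centralizer_singleton_iff]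
    have h1 : (t.1.1 : G) * x = x * t.1.1 := by
      obtain ⟨k, hk⟩ := mem_zpowers_iff.1 t.1.1.2
      rw [← hk]
      exact ((Commute.refl x).zpow_left k).eq
    have h2 := hbc _ t.1.2.2 x
    have h3 := hd.comm _ t.2.2
    rw [mul_assoc, h3, ← mul_assoc, mul_assoc _ _ x, h2, ← mul_assoc, h1]
    simp only [mul_assoc]
  let Φ : (zpowers x × zpowers n) × L →* centralizer ({x} : Set G) :=
    { toFun := fun t => ⟨(t.1.1 : G) * t.1.2 * t.2, hmem t⟩
      map_one' := by
        apply Subtype.ext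
        show ((1 : zpowers x) : G) * ((1 : zpowers n) : G) * ((1 : L) : G) = 1
        simp only [_root_.OneMemClass.coe_one, _root_.mul_one]
      map_mul' := by
        intro t t'
        apply Subtype.ext
        show ((t.1.1 * t'.1.1 : zpowers x) : G) * ((t.1.2 * t'.1.2 : zpowers n) : G) * ((t.2 * t'.2 : L) : G) =
          ((t.1.1 : G) * t.1.2 * t.2) * ((t'.1.1 : G) * t'.1.2 * t'.2)
        rw [coe_mul, coe_mul, coe_mul]
        have e1 := hxc _ t'.1.1.2 _ t.2.2
        have e2 := hbc _ t'.1.2.2 (t.2 : G)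
        have e3 := hbc _ t.1.2.2 (t'.1.1 : G)
        generalize (t.1.1 : G) = a1 at *
        generalize (t'.1.1 : G) = a2 at *
        generalize (t.1.2 : G) = b1 at *
        generalize (t'.1.2 : G) = b2 at *
        generalize (t.2 : G) = s1 at *
        generalize (t'.2 : G) = s2 at *
        calc a1 * a2 * (b1 * b2) * (s1 * s2) = a1 * (a2 * b1) * (b2 * s1) * s2 := by simp only [mul_assoc]
          _ = a1 * (b1 * a2) * (s1 * b2) * s2 := by rw [e3, e2]
          _ = a1 * b1 * (a2 * s1) * b2 * s2 := by simp only [mul_assoc]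
          _ = a1 * b1 * (s1 * a2) * b2 * s2 := by rw [e1]
          _ = a1 * b1 * s1 * (a2 * b2 * s2) := by simp only [mul_assoc] }
  have hΦ : Function.Bijective Φ := by
    constructor
    · rw [injective_iff_map_eq_one]
      rintro ⟨⟨a, b⟩, s⟩ h
      have h1 : (a : G) * b * s = 1 := congrArg Subtype.val h
      have h2 : (a : G) * b ∈ L := by
        rw [mul_eq_one_iff_eq_inv.1 h1]
        exact L.inv_mem s.2
      obtain ⟨h3, h4⟩ := hd.uniq a a.2 b b.2 h2
      rw [h3, h4, one_mul, one_mul] at h1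
      have h5 : a = 1 := Subtype.ext h3
      have h6 : b = 1 := Subtype.ext h4
      have h7 : s = 1 := Subtype.ext h1
      rw [h5, h6, h7]
      rfl
    · rintro ⟨c, hc⟩
      rw [mem_centralizer_singleton_iff] at hc
      obtain ⟨a, ha, b, hb, s, hs, rfl⟩ := hd.dec c hc
      exact ⟨((⟨a, ha⟩, ⟨b, hb⟩), ⟨s, hs⟩), rfl⟩
  let e : centralizer ({x} : Set G) ≃* (zpowers x × zpowers n) × L := (MulEquiv.ofBijective Φ hΦ).symm
  obtain ⟨φ, hφ⟩ : ∃ φ : zpowers n →* ℂˣ, φ ⟨n, mem_zpowers n⟩ ≠ 1 :=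
    exists_lin (fun a b => Subtype.ext (hbc a a.2 b)) (fun h => hn1 (congrArg Subtype.val h))
  have hφn : ((φ ⟨n, mem_zpowers n⟩ : ℂˣ) : ℂ) = -1 := by
    have h1 : φ ⟨n, mem_zpowers n⟩ * φ ⟨n, mem_zpowers n⟩ = 1 := by
      rw [← map_mul]
      have : (⟨n, mem_zpowers n⟩ : zpowers n) * ⟨n, mem_zpowers n⟩ = 1 := Subtype.ext hn2
      rw [this, map_one]
    have h2 : ((φ ⟨n, mem_zpowers n⟩ : ℂˣ) : ℂ) * ((φ ⟨n, mem_zpowers n⟩ : ℂˣ) : ℂ) = 1 := by
      rw [← Units.val_mul, h1, Units.val_one]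
    rcases mul_self_eq_one_iff.1 h2 with h | h
    · exact absurd (Units.ext h) hφ
    · exact h
  let F : (zpowers x × zpowers n) × L → ℂ := fun t => 1 * ((φ t.1.2 : ℂˣ) : ℂ) * θ t.2
  have h1 : IsIrrCharacter ((zpowers x × zpowers n) × L) F := S0188.isIrr_outer (S0188.isIrr_outer (Blocks.Basic.isIrrCharacter_one (G := zpowers x))
    (CharDeep.LinearChar.isIrrCharacter_of_hom φ)) hθ
  have h2 := Characters.Core.isIrr_comp e.toMonoidHom e.surjective h1
  have he : ∀ (t : (zpowers x × zpowers n) × L) (c : centralizer ({x} : Set G)), Φ t = c → e c = t := by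
    intro t c h
    rw [MulEquiv.symm_apply_eq]
    exact h.symm
  refine ⟨_, h2, ?_, ?_⟩
  · intro h
    have h3 : e ⟨n, h⟩ = ((1, ⟨n, mem_zpowers n⟩), 1) := he _ _ (by
      apply Subtype.ext
      show ((1 : zpowers x) : G) * n * ((1 : L) : G) = n
      simp only [_root_.OneMemClass.coe_one, _root_.one_mul, _root_.mul_one])
    have h4 : e 1 = 1 := map_one e
    show F (e ⟨n, h⟩) = -F (e 1)
    rw [h3, h4]
    show (1 : ℂ) * ((φ ⟨n, mem_zpowers n⟩ : ℂˣ) : ℂ) * θ 1 = -(1 * ((φ 1 : ℂˣ) : ℂ) * θ 1)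
    rw [hφn, map_one, Units.val_one]
    ring
  · intro s hs h
    have h3 : e ⟨s, h⟩ = ((1, 1), ⟨s, hs⟩) := he _ _ (by
      apply Subtype.ext
      show ((1 : zpowers x) : G) * ((1 : zpowers n) : G) * s = s
      simp only [_root_.OneMemClass.coe_one, _root_.mul_one, _root_.one_mul])
    show F (e ⟨s, h⟩) = _
    rw [h3]
    show (1 : ℂ) * ((φ 1 : ℂˣ) : ℂ) * θ ⟨s, hs⟩ = _
    rw [map_one, Units.val_one, one_mul, one_mul]

/-- the version with `C(x) = ⟨x⟩ × ⟨n⟩ × L`; `w θ(1)` is the sum of `θ` over the conjugates of `y` in `L` -/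
theorem exists_dvd' {p : ℕ} [Fact p.Prime] (hp2 : p ≠ 2) {n x y : G} (hn : n ∈ center G) (hn2 : n * n = 1)
    (hn1 : n ≠ 1) (hx : x ^ p = 1) {L : Subgroup G} (hd : Dec x n L)
    (hy : ∀ c : G, c * x = x * c → IsConj y c → c ∈ L)
    (hdiv : p ∣ (centralizer ({y} : Set G)).index) {θ : L → ℂ} (hθ : IsIrrCharacter L θ) {w : ℤ} (hw : ¬ (p : ℤ) ∣ w)
    (hsum : ∑ᶠ s ∈ {s : L | IsConj y (s : G)}, θ s / θ 1 = w) :
    ∃ χ : G → ℂ, IsIrrCharacter G χ ∧ χ n = -χ 1 ∧ p ∣ charDegree χ := by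
  obtain ⟨ξ, h1, h2, h3⟩ := exists_ext hd hn hn2 hn1 hθ
  refine exists_dvd hp2 hn hn2 hx h1 h2 hdiv hw ?_
  rw [← hsum]
  unfold inducedCentralChar
  have hLc : ∀ s : L, (s : G) ∈ centralizer ({x} : Set G) := fun s => by
    rw [mem_centralizer_singleton_iff]; exact hd.comm s s.2
  have h4 : {h : centralizer ({x} : Set G) | IsConj y (h : G)} =
      (fun s : L => (⟨s, hLc s⟩ : centralizer ({x} : Set G))) '' {s : L | IsConj y (s : G)} := by
    ext c
    constructor
    · intro hc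
      have h5 : (c : G) ∈ L := hy c (by have := c.2; rwa [mem_centralizer_singleton_iff] at this) hc
      exact ⟨⟨c, h5⟩, hc, rfl⟩
    · rintro ⟨s, hs, rfl⟩
      exact hs
  rw [h4, finsum_mem_image]
  · apply finsum_mem_congr rfl
    intro s _
    have h5 : ξ ⟨s, hLc s⟩ = θ s := h3 s s.2 (hLc s)
    have h6 : ξ 1 = θ 1 := h3 1 L.one_mem (one_mem _)
    rw [h5, h6]
  · intro s _ t _ h
    exact Subtype.ext (congrArg (fun c : centralizer ({x} : Set G) => (c : G)) h)

end Cfsg.Agent.H588.RIM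
end

-- part: H588/RIM/KZero
section
/-!
# S4816: the centralizers of `a = s₀ s₂` (type `A₂`) and `b = s₄ s₅ s₆ s₇` (type `A₄`) in `K₀ = W(E₈)'` (helper588)

`dec_a : Dec a n (LX {0, 2})`, `dec_b : Dec b n (LX {4, 5, 6, 7})`.
-/

set_option autoImplicit false

namespace Cfsg.Agent.H588.RIM.KZ

open Cfsg Subgroup
open Cfsg.Agent.OddHalf.D9.EEight Cfsg.Agent.OddHalf.D9.EEight.Id.Gen

/-- the lattice -/
abbrev Lt : Type := Cfsg.Agent.OddHalf.D9.EEight.Lat

/-- the simple reflections, computable -/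
def R (i : Fin 8) (v : Lt) : Lt := v - form v (e i) • e i

/-- words -/
def run (w : List (Fin 8)) (v : Lt) : Lt := w.foldr R v

/-- words in `W` -/
noncomputable def wd (w : List (Fin 8)) : W := (w.map s).prod

theorem ap_wd (w : List (Fin 8)) (v : Lt) : ap (wd w) v = run w v := by
  induction w with
  | nil => exact ap_one v
  | cons i w ih =>
    unfold wd run at *
    rw [List.map_cons, List.prod_cons, ap_mul, ih, ap_s, List.foldr_cons]
    rfl

theorem wd_append (w w' : List (Fin 8)) : wd (w ++ w') = wd w * wd w' := by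
  unfold wd
  rw [List.map_append, List.prod_append]

theorem det_wd {w : List (Fin 8)} (h : w.length % 2 = 0) : det (wd w) = 1 := by
  have h1 : det (wd w) = (-1) ^ w.length := by
    unfold wd
    rw [map_list_prod, List.map_map]
    have : (w.map (det ∘ s)) = List.replicate w.length (-1) := by
      rw [List.eq_replicate_iff]
      refine ⟨List.length_map _, ?_⟩
      intro x hx
      obtain ⟨i, -, rfl⟩ := List.mem_map.1 hx
      exact det_s i
    rw [this, List.prod_replicate]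
  rw [h1, ← Nat.div_add_mod w.length 2, h, add_zero, pow_mul]
  simp only [_root_.even_two, _root_.Even.neg_pow, _root_.one_pow]

theorem lat_eq (x : Lt) : x = x 0 • e 0 + x 1 • e 1 + x 2 • e 2 + x 3 • e 3 + x 4 • e 4 + x 5 • e 5 + x 6 • e 6 +
    x 7 • e 7 := by
  funext i
  (revert i; simp only [e, _root_.Fin.forall_fin_succ, Fin.isValue, _root_.zsmul_eq_mul, _root_.Pi.add_apply, _root_.Pi.mul_apply, _root_.Pi.intCast_apply, _root_.Int.cast_eq, _root_.Pi.single_eq_same, _root_.mul_one, _root_.ne_eq, _root_.zero_ne_one, _root_.not_false_eq_true, _root_.Pi.single_eq_of_ne, _root_.MulZeroClass.mul_zero, _root_.add_zero, Fin.reduceEq, _root_.Fin.succ_ne_zero, _root_.zero_add, _root_.Fin.succ_zero_eq_one, _root_.Fin.succ_one_eq_two, Fin.reduceSucc, _root_.IsEmpty.forall_iff, _root_.and_self])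

theorem ext_e {v w : W} (h : ∀ i, ap v (e i) = ap w (e i)) : v = w := by
  apply ext_ap
  intro x
  rw [lat_eq x]
  simp only [ap_add, ap_smul, h]

theorem wd_eq {w w' : List (Fin 8)} (h : ∀ i, run w (e i) = run w' (e i)) : wd w = wd w' := by
  apply ext_e
  intro i
  rw [ap_wd, ap_wd, h]

/-- words of even length in `K₀` -/
noncomputable def kw (w : List (Fin 8)) (h : w.length % 2 = 0) : ↥K₀ := ⟨wd w, det_wd h⟩

noncomputable def a : ↥K₀ := kw [0, 2] rfl
noncomputable def b : ↥K₀ := kw [4, 5, 6, 7] rfl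
noncomputable def ga : ↥K₀ := kw [0, 1] rfl
noncomputable def gb : ↥K₀ := kw [4, 6, 5, 1] rfl

/-- `-1` -/
def n : ↥K₀ := ⟨neg, Cfsg.Agent.OddHalf.D9.EEight.Id.Onto.det_neg'⟩

/-- the pointwise stabiliser of simple roots -/
def LX (I : Finset (Fin 8)) : Subgroup ↥K₀ where
  carrier := {w | ∀ i ∈ I, ap (w : W) (e i) = e i}
  mul_mem' := by
    intro v w hv hw i hi
    rw [coe_mul, ap_mul, hw i hi, hv i hi]
  one_mem' := fun i _ => ap_one (e i)
  inv_mem' := by
    intro v hv i hi
    have h1 : ap ((v⁻¹ : ↥K₀) : W) (ap (v : W) (e i)) = e i := by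
      rw [← ap_mul, ← coe_mul, inv_mul_cancel]
      exact ap_one (e i)
    rwa [hv i hi] at h1

theorem mem_LX {I : Finset (Fin 8)} {w : ↥K₀} : w ∈ LX I ↔ ∀ i ∈ I, ap (w : W) (e i) = e i := Iff.rfl

theorem a_cube : a ^ 3 = 1 := by
  apply Subtype.ext
  have h : wd ([0, 2] ++ ([0, 2] ++ [0, 2])) = wd [] := wd_eq (by decide +kernel)
  rw [wd_append, wd_append] at h
  rw [pow_succ, pow_succ, pow_one]
  rw [coe_mul, coe_mul, mul_assoc]
  exact h

theorem b_five : b ^ 5 = 1 := by
  apply Subtype.ext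
  have h : wd ([4, 5, 6, 7] ++ ([4, 5, 6, 7] ++ ([4, 5, 6, 7] ++ ([4, 5, 6, 7] ++ [4, 5, 6, 7])))) = wd [] :=
    wd_eq (by decide +kernel)
  rw [wd_append, wd_append, wd_append, wd_append] at h
  rw [pow_succ', pow_succ', pow_succ', pow_succ', pow_one]
  rw [coe_mul, coe_mul, coe_mul, coe_mul]
  exact h

theorem ga_conj : ga * a * ga⁻¹ = a ^ 2 := by
  rw [mul_inv_eq_iff_eq_mul]
  apply Subtype.ext
  have h : wd ([0, 1] ++ [0, 2]) = wd ([0, 2] ++ ([0, 2] ++ [0, 1])) := wd_eq (by decide +kernel)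
  rw [wd_append, wd_append, wd_append] at h
  rw [pow_two, mul_assoc]
  exact h

theorem gb_conj : gb * b * gb⁻¹ = b ^ 2 := by
  rw [mul_inv_eq_iff_eq_mul]
  apply Subtype.ext
  have h : wd ([4, 6, 5, 1] ++ [4, 5, 6, 7]) = wd ([4, 5, 6, 7] ++ ([4, 5, 6, 7] ++ [4, 6, 5, 1])) :=
    wd_eq (by decide +kernel)
  rw [wd_append, wd_append, wd_append] at h
  rw [pow_two, mul_assoc]
  exact h

theorem a_mem : a ∈ LX {4, 5, 6, 7} := by
  intro i hi
  show ap (wd [0, 2]) (e i) = e i
  rw [ap_wd]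
  revert i
  decide +kernel

theorem b_mem : b ∈ LX {0, 2} := by
  intro i hi
  show ap (wd [4, 5, 6, 7]) (e i) = e i
  rw [ap_wd]
  revert i
  decide +kernel

theorem ga_mem : ga ∈ LX {4, 5, 6, 7} := by
  intro i hi
  show ap (wd [0, 1]) (e i) = e i
  rw [ap_wd]
  revert i
  decide +kernel

theorem gb_mem : gb ∈ LX {0, 2} := by
  intro i hi
  show ap (wd [4, 6, 5, 1]) (e i) = e i
  rw [ap_wd]
  revert i
  decide +kernel

theorem n_sq : n * n = 1 := by
  apply Subtype.ext
  apply ext_ap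
  intro x
  rw [coe_mul, ap_mul]
  show ap neg (ap neg x) = ap 1 x
  rw [ap_neg_one, ap_neg_one, neg_neg, ap_one]

theorem ap_n (x : Lt) : ap ((n : ↥K₀) : W) x = -x := ap_neg_one x

theorem n_central : n ∈ center ↥K₀ := by
  rw [mem_center_iff]
  intro g
  apply Subtype.ext
  apply ext_ap
  intro x
  rw [coe_mul, coe_mul, ap_mul, ap_mul, ap_n, ap_n, ap_neg]

theorem n_ne : n ≠ 1 := by
  intro h
  have h1 := ap_n (e 0)
  rw [h] at h1
  have h2 : ap ((1 : ↥K₀) : W) (e 0) = e 0 := ap_one _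
  rw [h2] at h1
  revert h1
  decide +kernel

/-- an element fixing the letters of a word commutes with it -/
theorem comm_wd {g : W} {w : List (Fin 8)} (h : ∀ i ∈ w, ap g (e i) = e i) (x : Lt) :
    ap g (run w x) = run w (ap g x) := by
  induction w with
  | nil => rfl
  | cons i w ih =>
    show ap g (R i (run w x)) = R i (run w (ap g x))
    rw [← ih fun j hj => h j (List.mem_cons_of_mem _ hj)]
    have h1 : ap g (e i) = e i := h i List.mem_cons_self
    unfold R
    rw [ap_sub, ap_smul, h1]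
    congr 2
    conv_rhs => rw [← h1, form_ap]

theorem comm_kw {g : ↥K₀} {w : List (Fin 8)} {hw : w.length % 2 = 0} (h : ∀ i ∈ w, ap (g : W) (e i) = e i) :
    g * kw w hw = kw w hw * g := by
  apply Subtype.ext
  apply ext_ap
  intro x
  rw [coe_mul, coe_mul, ap_mul, ap_mul]
  show ap (g : W) (ap (wd w) x) = ap (wd w) (ap (g : W) x)
  rw [ap_wd, ap_wd, comm_wd h]

/-! ### the two decompositions -/

theorem run_coord {w : List (Fin 8)} {i : Fin 8} (h : i ∉ w) (r : Lt) : run w r i = r i := by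
  induction w with
  | nil => rfl
  | cons j w ih =>
    rw [List.mem_cons, not_or] at h
    show (R j (run w r)) i = r i
    unfold R
    rw [Pi.sub_apply, Pi.smul_apply, ih h.2]
    have h1 : e j i = 0 := by
      unfold e
      exact Pi.single_eq_of_ne h.1 1
    rw [h1, smul_zero, sub_zero]

theorem dec_core {x : ↥K₀} {I : Finset (Fin 8)} {v : Lt}
    (hcase : ∀ c : ↥K₀, c * x = x * c → ∃ k : ℕ, ap (c : W) v = ap ((x ^ k : ↥K₀) : W) v ∨
      ap (c : W) v = -ap ((x ^ k : ↥K₀) : W) v)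
    (hfix : ∀ s : ↥K₀, s * x = x * s → ap (s : W) v = v → s ∈ LX I) (c : ↥K₀) (hc : c * x = x * c) :
    ∃ g ∈ zpowers x, ∃ m ∈ zpowers n, ∃ s ∈ LX I, c = g * m * s := by
  obtain ⟨k, hk⟩ := hcase c hc
  have hxk : x ^ k * x = x * x ^ k := (Commute.refl x).pow_left k
  have hnx : n * x = x * n := ((mem_center_iff.1 n_central x)).symm
  rcases hk with hk | hk
  · refine ⟨x ^ k, pow_mem (mem_zpowers x) k, 1, one_mem _, (x ^ k)⁻¹ * c, hfix _ ?_ ?_, by
      rw [mul_one, mul_inv_cancel_left]⟩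
    · have h1 : Commute (x ^ k)⁻¹ x := (show Commute (x ^ k) x from hxk).inv_left
      exact h1.mul_left hc
    · rw [coe_mul, ap_mul, hk, ← ap_mul, ← coe_mul, inv_mul_cancel]
      exact ap_one v
  · refine ⟨x ^ k, pow_mem (mem_zpowers x) k, n, mem_zpowers n, (x ^ k * n)⁻¹ * c, hfix _ ?_ ?_, by
      rw [mul_inv_cancel_left]⟩
    · have h1 : Commute (x ^ k * n)⁻¹ x :=
        ((show Commute (x ^ k) x from hxk).mul_left (show Commute n x from hnx)).inv_left
      exact h1.mul_left hc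
    · have h2 : -ap ((x ^ k : ↥K₀) : W) v = ap ((x ^ k * n : ↥K₀) : W) v := by
        rw [coe_mul, ap_mul, ap_n, ap_neg]
      rw [coe_mul, ap_mul, hk, h2, ← ap_mul, ← coe_mul, inv_mul_cancel]
      exact ap_one v

theorem ap_pow_kw {w : List (Fin 8)} {hw : w.length % 2 = 0} (k : ℕ) (v : Lt) :
    ap ((kw w hw ^ k : ↥K₀) : W) v = (run w)^[k] v := by
  induction k with
  | zero =>
    rw [pow_zero]
    exact ap_one v
  | succ k ih =>
    rw [pow_succ', coe_mul, ap_mul, ih, Function.iterate_succ_apply']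
    exact ap_wd w _

theorem a_fin : ∀ x ∈ Finset.Icc (-1 : ℤ) 1, ∀ y ∈ Finset.Icc (-1 : ℤ) 1, x * x - x * y + y * y = 1 →
    ∃ k < 3, x • e 0 + y • e 2 = (run [0, 2])^[k] (e 0) ∨ x • e 0 + y • e 2 = -((run [0, 2])^[k] (e 0)) := by
  decide +kernel

theorem a_case (r : Lt) (hr : form r r = 2) (h0 : r + run [0, 2] r + run [0, 2] (run [0, 2] r) = 0) :
    ∃ k < 3, r = (run [0, 2])^[k] (e 0) ∨ r = -((run [0, 2])^[k] (e 0)) := by
  have hz : ∀ i : Fin 8, i ∉ ([0, 2] : List (Fin 8)) → r i = 0 := by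
    intro i hi
    have h1 := congrFun h0 i
    rw [Pi.add_apply, Pi.add_apply, run_coord hi, run_coord hi, run_coord hi, Pi.zero_apply] at h1
    omega
  have h1 := hz 1 (by decide)
  have h3 := hz 3 (by decide)
  have h4 := hz 4 (by decide)
  have h5 := hz 5 (by decide)
  have h6 := hz 6 (by decide)
  have h7 := hz 7 (by decide)
  have hr2 : r 0 * r 0 - r 0 * r 2 + r 2 * r 2 = 1 := by
    rw [form_expl, h1, h3, h4, h5, h6, h7] at hr
    linarith
  have hre : r = r 0 • e 0 + r 2 • e 2 := by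
    conv_lhs => rw [lat_eq r, h1, h3, h4, h5, h6, h7]
    simp only [_root_.Fin.isValue, _root_.zsmul_eq_mul, _root_.zero_smul, _root_.add_zero]
  rw [hre]
  refine a_fin _ ?_ _ ?_ hr2
  · rw [Finset.mem_Icc]
    constructor <;> nlinarith only [hr2, sq_nonneg (r 0 - 2 * r 2)]
  · rw [Finset.mem_Icc]
    constructor <;> nlinarith only [hr2, sq_nonneg (2 * r 0 - r 2)]

theorem b_fin : ∀ x ∈ Finset.Icc (-1 : ℤ) 1, ∀ y ∈ Finset.Icc (-2 : ℤ) 2, ∀ z ∈ Finset.Icc (-2 : ℤ) 2,
    ∀ t ∈ Finset.Icc (-1 : ℤ) 1, x * x + (x - y) * (x - y) + (y - z) * (y - z) + (z - t) * (z - t) + t * t = 2 →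
    form (x • e 4 + y • e 5 + z • e 6 + t • e 7) (run [4, 5, 6, 7] (x • e 4 + y • e 5 + z • e 6 + t • e 7)) = -1 →
    ∃ k < 5, x • e 4 + y • e 5 + z • e 6 + t • e 7 = (run [4, 5, 6, 7])^[k] (e 4) ∨
      x • e 4 + y • e 5 + z • e 6 + t • e 7 = -((run [4, 5, 6, 7])^[k] (e 4)) := by
  decide +kernel

theorem b_case (r : Lt) (hr : form r r = 2) (hf : form r (run [4, 5, 6, 7] r) = -1)
    (h0 : r + run [4, 5, 6, 7] r + run [4, 5, 6, 7] (run [4, 5, 6, 7] r) +
      run [4, 5, 6, 7] (run [4, 5, 6, 7] (run [4, 5, 6, 7] r)) +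
      run [4, 5, 6, 7] (run [4, 5, 6, 7] (run [4, 5, 6, 7] (run [4, 5, 6, 7] r))) = 0) :
    ∃ k < 5, r = (run [4, 5, 6, 7])^[k] (e 4) ∨ r = -((run [4, 5, 6, 7])^[k] (e 4)) := by
  have hz : ∀ i : Fin 8, i ∉ ([4, 5, 6, 7] : List (Fin 8)) → r i = 0 := by
    intro i hi
    have h1 := congrFun h0 i
    simp only [Pi.add_apply, run_coord hi, Pi.zero_apply] at h1
    omega
  have h0' := hz 0 (by decide)
  have h1 := hz 1 (by decide)
  have h2 := hz 2 (by decide)
  have h3 := hz 3 (by decide)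
  have hr2 : r 4 * r 4 + (r 4 - r 5) * (r 4 - r 5) + (r 5 - r 6) * (r 5 - r 6) + (r 6 - r 7) * (r 6 - r 7) +
      r 7 * r 7 = 2 := by
    rw [form_expl, h0', h1, h2, h3] at hr
    linarith
  have hre : r = r 4 • e 4 + r 5 • e 5 + r 6 • e 6 + r 7 • e 7 := by
    conv_lhs => rw [lat_eq r, h0', h1, h2, h3]
    simp only [_root_.Fin.isValue, _root_.zero_smul, _root_.add_zero, _root_.zsmul_eq_mul, _root_.zero_add]
  rw [hre]
  rw [hre] at hf
  have b4 : -1 ≤ r 4 ∧ r 4 ≤ 1 := by
    constructor <;> nlinarith only [hr2]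
  have b7 : -1 ≤ r 7 ∧ r 7 ≤ 1 := by
    constructor <;> nlinarith only [hr2]
  have b45 : -1 ≤ r 4 - r 5 ∧ r 4 - r 5 ≤ 1 := by
    constructor <;> nlinarith only [hr2]
  have b67 : -1 ≤ r 6 - r 7 ∧ r 6 - r 7 ≤ 1 := by
    constructor <;> nlinarith only [hr2]
  refine b_fin _ (Finset.mem_Icc.2 b4) _ (Finset.mem_Icc.2 ?_) _ (Finset.mem_Icc.2 ?_) _ (Finset.mem_Icc.2 b7) hr2 hf
  · constructor <;> linarith only [b4.1, b4.2, b45.1, b45.2]
  · constructor <;> linarith only [b7.1, b7.2, b67.1, b67.2]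

/-- commuting with a word -/
theorem ap_comm {c : ↥K₀} {w : List (Fin 8)} {hw : w.length % 2 = 0} (hc : c * kw w hw = kw w hw * c) (v : Lt) :
    ap (c : W) (run w v) = run w (ap (c : W) v) := by
  have h1 := congrArg (fun g : ↥K₀ => ap (g : W) v) hc
  simp only [coe_mul, ap_mul] at h1
  have h2 : ∀ u : Lt, ap ((kw w hw : ↥K₀) : W) u = run w u := fun u => ap_wd w u
  rw [h2, h2] at h1
  exact h1

theorem form_ap' (c : W) (x : Lt) : form (ap c x) (ap c x) = form x x := form_ap c x x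

theorem zp {x : ↥K₀} {p : ℕ} (hx : x ^ p = 1) (hp : 0 < p) {g : ↥K₀} (hg : g ∈ zpowers x) :
    ∃ k < p, g = x ^ k := by
  have hf : IsOfFinOrder x := isOfFinOrder_iff_pow_eq_one.2 ⟨p, hp, hx⟩
  obtain ⟨k, hk⟩ := (hf.mem_powers_iff_mem_zpowers).2 hg
  refine ⟨k % p, Nat.mod_lt _ hp, ?_⟩
  have hk' : x ^ k = g := hk
  rw [← hk', ← Nat.mod_add_div k p, pow_add, pow_mul, hx, one_pow, mul_one, Nat.mod_add_div]

theorem zn {g : ↥K₀} (hg : g ∈ zpowers n) : g = 1 ∨ g = n := by
  obtain ⟨k, hk, rfl⟩ := zp (p := 2) (by rw [pow_two]; exact n_sq) (by norm_num) hg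
  interval_cases k
  · left; exact pow_zero _
  · right; exact pow_one _

theorem uniq_core {x : ↥K₀} {p : ℕ} (hx : x ^ p = 1) (hp : 0 < p) {I : Finset (Fin 8)} {i : Fin 8} (hi : i ∈ I)
    (h1 : ∀ k < p, ap ((x ^ k : ↥K₀) : W) (e i) = e i → k = 0)
    (h2 : ∀ k < p, -ap ((x ^ k : ↥K₀) : W) (e i) ≠ e i) (g : ↥K₀) (hg : g ∈ zpowers x) (m : ↥K₀)
    (hm : m ∈ zpowers n) (hL : g * m ∈ LX I) : g = 1 ∧ m = 1 := by
  obtain ⟨k, hk, rfl⟩ := zp hx hp hg
  rcases zn hm with rfl | rfl
  · rw [mul_one] at hL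
    have h3 := h1 k hk (hL i hi)
    rw [h3, pow_zero]
    exact ⟨rfl, rfl⟩
  · exfalso
    have h3 := hL i hi
    rw [coe_mul, ap_mul, ap_n, ap_neg] at h3
    exact h2 k hk h3

/-- **the centralizer of `a`** -/
theorem dec_a : Dec a n (LX {0, 2}) where
  comm := fun s hs => comm_kw (fun i hi => hs i (by
    simp only [List.mem_cons, List.not_mem_nil, or_false] at hi
    simpa using hi))
  dec := by
    apply dec_core (v := e 0)
    · intro c hc
      obtain ⟨k, -, hk⟩ := a_case (ap (c : W) (e 0)) (by rw [form_ap']; decide +kernel) (by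
        rw [← ap_comm hc, ← ap_comm hc, ← ap_add, ← ap_add]
        have h : e 0 + run [0, 2] (e 0) + run [0, 2] (run [0, 2] (e 0)) = 0 := by decide +kernel
        rw [h, ap_zero])
      refine ⟨k, ?_⟩
      unfold a
      rw [ap_pow_kw]
      exact hk
    · intro s hs h0
      have h2 : ap (s : W) (e 2) = e 2 := by
        have h : run [0, 2] (e 0) = e 2 := by decide +kernel
        rw [← h]
        rw [ap_comm hs, h0]
      intro i hi
      rcases Finset.mem_insert.1 hi with rfl | hi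
      · exact h0
      · rw [Finset.mem_singleton.1 hi]
        exact h2
  uniq := by
    apply uniq_core a_cube (by norm_num) (i := 0) (by decide)
    · intro k hk
      unfold a
      rw [ap_pow_kw]
      revert k
      decide +kernel
    · intro k hk
      unfold a
      rw [ap_pow_kw]
      revert k
      decide +kernel

/-- **the centralizer of `b`** -/
theorem dec_b : Dec b n (LX {4, 5, 6, 7}) where
  comm := fun s hs => comm_kw (fun i hi => hs i (by
    simp only [List.mem_cons, List.not_mem_nil, or_false] at hi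
    simpa using hi))
  dec := by
    apply dec_core (v := e 4)
    · intro c hc
      obtain ⟨k, -, hk⟩ := b_case (ap (c : W) (e 4)) (by rw [form_ap']; decide +kernel)
        (by rw [← ap_comm hc, form_ap]; decide +kernel) (by
        rw [← ap_comm hc, ← ap_comm hc, ← ap_comm hc, ← ap_comm hc, ← ap_add, ← ap_add, ← ap_add, ← ap_add]
        have h : e 4 + run [4, 5, 6, 7] (e 4) + run [4, 5, 6, 7] (run [4, 5, 6, 7] (e 4)) +
            run [4, 5, 6, 7] (run [4, 5, 6, 7] (run [4, 5, 6, 7] (e 4))) +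
            run [4, 5, 6, 7] (run [4, 5, 6, 7] (run [4, 5, 6, 7] (run [4, 5, 6, 7] (e 4)))) = 0 := by decide +kernel
        rw [h, ap_zero])
      refine ⟨k, ?_⟩
      unfold b
      rw [ap_pow_kw]
      exact hk
    · intro s hs h4
      have h5 : ap (s : W) (e 5) = e 5 := by
        have h : run [4, 5, 6, 7] (e 4) = e 5 := by decide +kernel
        rw [← h]
        rw [ap_comm hs, h4]
      have h6 : ap (s : W) (e 6) = e 6 := by
        have h : run [4, 5, 6, 7] (e 5) = e 6 := by decide +kernel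
        rw [← h]
        rw [ap_comm hs, h5]
      have h7 : ap (s : W) (e 7) = e 7 := by
        have h : run [4, 5, 6, 7] (e 6) = e 7 := by decide +kernel
        rw [← h]
        rw [ap_comm hs, h6]
      intro i hi
      simp only [Finset.mem_insert, Finset.mem_singleton] at hi
      rcases hi with rfl | rfl | rfl | rfl
      · exact h4
      · exact h5
      · exact h6
      · exact h7
  uniq := by
    apply uniq_core b_five (by norm_num) (i := 4) (by decide)
    · intro k hk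
      unfold b
      rw [ap_pow_kw]
      revert k
      decide +kernel
    · intro k hk
      unfold b
      rw [ap_pow_kw]
      revert k
      decide +kernel

end Cfsg.Agent.H588.RIM.KZ
end

private theorem dce_25ac4e01d432 : _root_.True := by
  try have : _root_.True := by simp only [_root_.Cfsg.Agent.H588.RIM.KZ.kw.congr_simp]
  exact _root_.True.intro
end

-- part: H242/RIM/Mat
section
prune_inst 0x220080000000000000080000000000001c410002
set_option linter.all false
open scoped Cfsg.Agent.FastGrp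

/-!
# S4816, `U₆(2)`, `p = 3`: the centralizer of `diag(w, w², 1, 1, 1, 1)` in `SU₆(2)` (helper242)
-/

set_option autoImplicit false
set_option linter.unusedSectionVars false

namespace Cfsg.Agent.H242.RIM

open Cfsg Matrix Cfsg.Agent.LieClassical.SUBasic Cfsg.Agent.H494.PSURow Cfsg.Agent.H494.SLHom

variable {F : Type*} [Field F] [Fintype F]

/-- the entries of an element of `SU` -/
abbrev mt {n q : ℕ} (A : SU n F q) : Matrix (Fin n) (Fin n) F := A.1.1

theorem mt_mul {n q : ℕ} (A B : SU n F q) : mt (A * B) = mt A * mt B := rfl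

theorem ext_mt {n q : ℕ} {A B : SU n F q} (h : ∀ i j, mt A i j = mt B i j) : A = B :=
  Subtype.ext (Subtype.ext (Matrix.ext h))

theorem mulVec_single' {n : ℕ} (M : Matrix (Fin n) (Fin n) F) (j : Fin n) :
    M *ᵥ (Pi.single j 1) = fun i => M i j := by
  funext i
  simp

/-- the columns are orthonormal -/
theorem cols {n q : ℕ} (hq : 0 < q) (A : SU n F q) (j k : Fin n) :
    ∑ i, mt A i j * (mt A i k) ^ q = if j = k then 1 else 0 := by
  have h := (LieClassical.SUBasic.mem_SU_iff A.1).1 A.2 (Pi.single j 1) (Pi.single k 1)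
  rw [mulVec_single', mulVec_single', hermForm_apply, hermForm_apply] at h
  rw [show (∑ i, mt A i j * (mt A i k) ^ q) = ∑ i, A.1.1 i j * (A.1.1 i k) ^ q from rfl, h]
  rw [Finset.sum_eq_single j]
  · by_cases hjk : j = k
    · subst hjk; simp
    · rw [if_neg hjk, Pi.single_eq_of_ne hjk, zero_pow hq.ne', mul_zero]
  · intro i _ hi
    rw [Pi.single_eq_of_ne hi, zero_mul]
  · intro h1; exact absurd (Finset.mem_univ j) h1

/-- the converse -/
theorem mem_of_cols {n q : ℕ} (hF : Fintype.card F = q ^ 2) (A : _root_.Matrix.SpecialLinearGroup (Fin n) F)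
    (h : ∀ j k, ∑ i, A.1 i j * (A.1 i k) ^ q = if j = k then 1 else 0) : A ∈ SU n F q := by
  rw [LieClassical.SUBasic.mem_SU_iff]
  intro u v
  rw [hermForm_apply, hermForm_apply]
  have h1 : ∀ i, ((A : Matrix (Fin n) (Fin n) F) *ᵥ u) i * (((A : Matrix (Fin n) (Fin n) F) *ᵥ v) i) ^ q =
      ∑ j, ∑ k, (u j * v k ^ q) * (A.1 i j * (A.1 i k) ^ q) := by
    intro i
    simp only [Matrix.mulVec, dotProduct]
    rw [LieClassical.HermBasic.sum_pow_q hF, Finset.sum_mul_sum]
    refine Finset.sum_congr rfl fun j _ => Finset.sum_congr rfl fun k _ => ?_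
    rw [mul_pow]; ring
  simp_rw [h1]
  rw [Finset.sum_comm]
  refine Finset.sum_congr rfl fun j _ => ?_
  rw [Finset.sum_comm]
  simp_rw [← Finset.mul_sum, h]
  simp only [_root_.mul_ite, _root_.mul_one, _root_.MulZeroClass.mul_zero, _root_.Finset.sum_ite_eq, _root_.Finset.mem_univ, ↓ _root_.reduceIte]

section six

variable (hF : Fintype.card F = 2 ^ 2)

include hF in
theorem pow_three {c : F} (hc : c ≠ 0) : c ^ 3 = 1 := by
  have h1 := FiniteField.pow_card_sub_one_eq_one c hc
  rw [hF] at h1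
  simpa only [_root_.Nat.reducePow, _root_.Nat.add_one_sub_one] using h1

/-- `diag(w, w², 1, 1, 1, 1)` -/
def xv (w : F) : Fin 6 → F := ![w, w ^ 2, 1, 1, 1, 1]

/-- the element `x` -/
def xs (w : F) (hw : w ^ 3 = 1) : SU 6 F 2 :=
  suDiag 2 (xv w) (by simp only [xv, Fin.prod_univ_six, _root_.Fin.isValue, _root_.Matrix.cons_val_zero, _root_.Matrix.cons_val_one, _root_.Matrix.cons_val, _root_.mul_one]; rw [← pow_succ']; exact hw)
    (by
      intro i
      (revert i; simp only [xv, _root_.Fin.forall_fin_succ, Nat.reduceAdd, Fin.isValue, _root_.Matrix.cons_val_zero, _root_.Matrix.cons_val_succ, _root_.one_pow, _root_.Matrix.cons_val_fin_one, _root_.implies_true, _root_.and_true, _root_.true_and]) <;> (repeat' with_reducible apply And.intro)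
      · exact hw
      · rw [← pow_mul, pow_mul', hw, one_pow])

theorem mt_xs (w : F) (hw : w ^ 3 = 1) : mt (xs w hw) = diagonal (xv w) := rfl

/-- `SU₄ → SU₆` -/
def io : SU 4 F 2 →* SU 6 F 2 := (blk 2 4 F 2).comp (MonoidHom.inr (SU 2 F 2) (SU 4 F 2))

theorem mt_io (g : SU 4 F 2) : mt (io g) = !![1, 0, 0, 0, 0, 0; 0, 1, 0, 0, 0, 0;
    0, 0, mt g 0 0, mt g 0 1, mt g 0 2, mt g 0 3; 0, 0, mt g 1 0, mt g 1 1, mt g 1 2, mt g 1 3;
    0, 0, mt g 2 0, mt g 2 1, mt g 2 2, mt g 2 3; 0, 0, mt g 3 0, mt g 3 1, mt g 3 2, mt g 3 3] := by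
  ext i j
  fin_cases i <;> fin_cases j <;> rfl

/-- a block matrix with unit upper block -/
theorem exists_io {B : SU 6 F 2} (hF : Fintype.card F = 2 ^ 2) (h0 : mt B 0 0 = 1) (h1 : mt B 1 1 = 1)
    (hz : ∀ i j : Fin 6, i ≠ j → (i < 2 ∨ j < 2) → mt B i j = 0) : ∃ g : SU 4 F 2, B = io g := by
  set M : Matrix (Fin 4) (Fin 4) F := fun i j => mt B (Fin.natAdd 2 i) (Fin.natAdd 2 j) with hM
  have hB : mt B = reindex finSumFinEquiv finSumFinEquiv (fromBlocks (1 : Matrix (Fin 2) (Fin 2) F) 0 0 M) := by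
    ext i j
    fin_cases i <;> fin_cases j <;> first | exact h0 | exact h1 | exact hz _ _ (by decide) (by decide) | rfl
  have hdet : M.det = 1 := by
    have h2 : (mt B).det = 1 := B.1.2
    rw [hB, det_reindex_self, det_fromBlocks_zero₂₁, det_one, one_mul] at h2
    exact h2
  have hmem : (⟨M, hdet⟩ : _root_.Matrix.SpecialLinearGroup (Fin 4) F) ∈ SU 4 F 2 := by
    refine mem_of_cols hF _ fun j k => ?_
    have h2 := cols (by norm_num) B (Fin.natAdd 2 j) (Fin.natAdd 2 k)
    rw [Fin.sum_univ_six, hz 0 (Fin.natAdd 2 j) (by fin_cases j <;> decide) (Or.inl (by decide)),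
      hz 1 (Fin.natAdd 2 j) (by fin_cases j <;> decide) (Or.inl (by decide))] at h2
    rw [zero_mul, zero_mul, zero_add, zero_add] at h2
    rw [Fin.sum_univ_four]
    have h3 : (Fin.natAdd 2 j = Fin.natAdd 2 k) ↔ j = k := by
      refine ⟨fun h => ?_, fun h => by rw [h]⟩
      have h4 := congrArg Fin.val h
      rw [Fin.val_natAdd, Fin.val_natAdd] at h4
      exact Fin.ext (by omega)
    simp only [h3] at h2
    exact h2
  refine ⟨⟨⟨M, hdet⟩, hmem⟩, ?_⟩
  refine Subtype.ext (Subtype.ext ?_)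
  exact hB

theorem xs_mul {t u : F} (ht : t ^ 3 = 1) (hu : u ^ 3 = 1) :
    xs t ht * xs u hu = xs (t * u) (by rw [mul_pow, ht, hu, one_mul]) := by
  refine Subtype.ext (Subtype.ext ?_)
  show diagonal (xv t) * diagonal (xv u) = diagonal (xv (t * u))
  rw [diagonal_mul_diagonal]
  congr 1
  funext i
  fin_cases i <;> simp [xv, mul_pow]

theorem xs_pow {t : F} (ht : t ^ 3 = 1) (k : ℕ) : (xs t ht) ^ k = xs (t ^ k) (by rw [← pow_mul, pow_mul', ht, one_pow]) := by
  induction k with
  | zero =>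
    rw [pow_zero]
    refine Subtype.ext (Subtype.ext ?_)
    show (1 : Matrix (Fin 6) (Fin 6) F) = diagonal (xv (t ^ 0))
    rw [← diagonal_one]
    congr 1
    funext i
    (revert i; simp only [xv, _root_.Fin.forall_fin_succ, _root_.pow_zero, _root_.one_pow, Fin.isValue, _root_.Matrix.cons_val_zero, _root_.Matrix.cons_val_succ, _root_.Matrix.cons_val_fin_one, _root_.implies_true, _root_.and_self])
  | succ k ih =>
    rw [pow_succ, ih, xs_mul]
    congr 1
    exact (pow_succ t k).symm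

theorem one_add {w : F} (hw : w ^ 3 = 1) (hw1 : w ≠ 1) : 1 + w + w ^ 2 = 0 := by
  have h1 : (w - 1) * (1 + w + w ^ 2) = 0 := by linear_combination hw
  exact (mul_eq_zero.1 h1).resolve_left (sub_ne_zero.2 hw1)

theorem cube_roots {w : F} (hw : w ^ 3 = 1) (hw1 : w ≠ 1) {c : F} (hc : c ^ 3 = 1) : c = 1 ∨ c = w ∨ c = w ^ 2 := by
  have h1 := one_add hw hw1
  have h2 : (c - 1) * ((c - w) * (c - w ^ 2)) = 0 := by
    linear_combination hc - hw - (c ^ 2 - w * c) * h1
  rcases mul_eq_zero.1 h2 with h | h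
  · exact Or.inl (sub_eq_zero.1 h)
  · rcases mul_eq_zero.1 h with h | h
    · exact Or.inr (Or.inl (sub_eq_zero.1 h))
    · exact Or.inr (Or.inr (sub_eq_zero.1 h))

theorem w_ne {w : F} (hw : w ^ 3 = 1) (hw1 : w ≠ 1) : w ≠ 0 ∧ w ^ 2 ≠ 1 ∧ w ≠ w ^ 2 := by
  have h0 : w ≠ 0 := by
    rintro rfl
    simp at hw
  refine ⟨h0, fun h => hw1 ?_, fun h => hw1 ?_⟩
  · rw [pow_succ, h, one_mul] at hw
    exact hw
  · have h1 : w * (w - 1) = 0 := by linear_combination -h
    exact sub_eq_zero.1 ((mul_eq_zero.1 h1).resolve_left h0)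

/-- an element commuting with `x` modulo scalars is `z x^k ι(g)` -/
theorem cent_dec (hF : Fintype.card F = 2 ^ 2) {w : F} (hw : w ^ 3 = 1) (hw1 : w ≠ 1) {A : SU 6 F 2} {c : F}
    (hc3 : c ^ 3 = 1) (hc : ∀ i j, mt A i j * xv w j = c * (xv w i * mt A i j)) :
    ∃ z ∈ Subgroup.center (SU 6 F 2), ∃ (k : ℕ) (g : SU 4 F 2), A = z * (xs w hw) ^ k * io g := by
  obtain ⟨w0, w2, w12⟩ := w_ne hw hw1
  have hc1 : c = 1 := by
    by_contra hne
    obtain ⟨i0, hi0⟩ : ∃ i0 : Fin 6, ∀ i, i ≠ i0 → c * xv w i ≠ 1 := by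
      rcases cube_roots hw hw1 hc3 with h | h | h
      · exact absurd h hne
      · refine ⟨1, fun i hi => ?_⟩
        rw [h]
        have h7 : ∀ i : Fin 6, i ≠ 1 → xv w i = w ∨ xv w i = 1 := by
          intro i hi
          fin_cases i <;> first | exact absurd rfl hi | exact Or.inl rfl | exact Or.inr rfl
        rcases h7 i hi with h8 | h8
        · rw [h8, ← pow_two]; exact w2
        · rw [h8, mul_one]; exact hw1
      · refine ⟨0, fun i hi => ?_⟩
        rw [h]
        have h7 : ∀ i : Fin 6, i ≠ 0 → xv w i = w ^ 2 ∨ xv w i = 1 := by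
          intro i hi
          fin_cases i <;> first | exact absurd rfl hi | exact Or.inl rfl | exact Or.inr rfl
        rcases h7 i hi with h8 | h8
        · rw [h8]
          intro h4
          apply hw1
          linear_combination h4 - w * hw
        · rw [h8, mul_one]; exact w2
    have hz : ∀ i j, i ≠ i0 → 2 ≤ j → mt A i j = 0 := by
      intro i j hi hj
      have h1 := hc i j
      have h2 : xv w j = 1 := by
        fin_cases j <;> first | rfl | exact absurd hj (by decide)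
      rw [h2] at h1
      have h3 : mt A i j * (1 - c * xv w i) = 0 := by linear_combination h1
      exact (mul_eq_zero.1 h3).resolve_right (sub_ne_zero.2 (hi0 i hi).symm)
    have key : ∀ j k : Fin 6, 2 ≤ j → 2 ≤ k → mt A i0 j * (mt A i0 k) ^ 2 = if j = k then 1 else 0 := by
      intro j k hj _
      have h1 := cols (by norm_num) A j k
      rw [Finset.sum_eq_single i0] at h1
      · exact h1
      · intro i _ hi
        rw [hz i j hi hj, zero_mul]
      · intro h; exact absurd (Finset.mem_univ _) h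
    have h1 := key 2 2 (by decide) (by decide)
    have h2 := key 3 3 (by decide) (by decide)
    have h3 := key 2 3 (by decide) (by decide)
    rw [if_pos rfl] at h1 h2
    rw [if_neg (by decide)] at h3
    rcases mul_eq_zero.1 h3 with h4 | h4
    · rw [h4, zero_mul] at h1
      exact zero_ne_one h1
    · rw [h4, mul_zero] at h2
      exact zero_ne_one h2
  subst hc1
  have hd : ∀ i j : Fin 6, i ≠ j → (i < 2 ∨ j < 2) → xv w j ≠ xv w i := by
    intro i j hij hlt
    fin_cases i <;> fin_cases j <;>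
      first
      | exact absurd rfl hij
      | exact absurd hlt (by decide)
      | exact w12
      | exact Ne.symm w12
      | exact hw1
      | exact Ne.symm hw1
      | exact w2
      | exact Ne.symm w2
  have hz : ∀ i j : Fin 6, i ≠ j → (i < 2 ∨ j < 2) → mt A i j = 0 := by
    intro i j hij hlt
    have h1 := hc i j
    have h3 : mt A i j * (xv w j - xv w i) = 0 := by linear_combination h1
    exact (mul_eq_zero.1 h3).resolve_right (sub_ne_zero.2 (hd i j hij hlt))
  have hn : ∀ j : Fin 6, j < 2 → (mt A j j) ^ 3 = 1 := by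
    intro j hj
    have h1 := cols (by norm_num) A j j
    rw [if_pos rfl, Finset.sum_eq_single j] at h1
    · rw [← h1]; ring
    · intro i _ hi
      rw [hz i j hi (Or.inr hj), zero_mul]
    · intro h; exact absurd (Finset.mem_univ _) h
  set a := mt A 0 0 with ha
  set b := mt A 1 1 with hb
  have ha3 : a ^ 3 = 1 := hn 0 (by decide)
  have hb3 : b ^ 3 = 1 := hn 1 (by decide)
  set s := a * b with hs
  have hs3 : s ^ 3 = 1 := by rw [hs, mul_pow, ha3, hb3, one_mul]
  have hs6 : s ^ 6 = 1 := by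
    rw [show 6 = 3 * 2 from rfl, pow_mul, hs3, one_pow]
  set t := s * b with ht
  have ht3 : t ^ 3 = 1 := by rw [ht, mul_pow, hs3, hb3, one_mul]
  have hmt : ∀ i j, mt (xs t ht3 * suScalar 2 s hs6 hs3 * A) i j = xv t i * (s * mt A i j) := by
    intro i j
    rw [mul_assoc, mt_mul, mt_mul]
    show ((diagonal (xv t) * (diagonal (fun _ => s) * mt A) : Matrix (Fin 6) (Fin 6) F)) i j = _
    rw [diagonal_mul, diagonal_mul]
  obtain ⟨g, hg⟩ := exists_io (B := xs t ht3 * suScalar 2 s hs6 hs3 * A) hF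
    (by
      rw [hmt, ← ha]
      show t * (s * a) = 1
      rw [ht, hs]
      linear_combination ha3 + a ^ 3 * hb3)
    (by
      rw [hmt, ← hb]
      show t ^ 2 * (s * b) = 1
      rw [← ht, ← pow_succ, ht3])
    (by
      intro i j hij hlt
      rw [hmt, hz i j hij hlt, mul_zero, mul_zero])
  obtain ⟨k, hk⟩ : ∃ k : ℕ, t⁻¹ = w ^ k := by
    have h5 : (t⁻¹) ^ 3 = 1 := by rw [inv_pow, ht3, inv_one]
    rcases cube_roots hw hw1 h5 with h | h | h
    · exact ⟨0, by rw [h, pow_zero]⟩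
    · exact ⟨1, by rw [h, pow_one]⟩
    · exact ⟨2, h⟩
  refine ⟨(suScalar 2 s hs6 hs3)⁻¹, inv_mem (suScalar_mem_center 2 s hs6 hs3), k, g, ?_⟩
  have hx : xs t ht3 * (xs w hw) ^ k = 1 := by
    rw [xs_pow, xs_mul]
    refine Subtype.ext (Subtype.ext ?_)
    show diagonal (xv (t * w ^ k)) = (1 : Matrix (Fin 6) (Fin 6) F)
    have ht0 : t ≠ 0 := by
      intro h; rw [h] at ht3; simp at ht3
    rw [← hk, mul_inv_cancel₀ ht0, ← diagonal_one]
    congr 1
    funext i
    (revert i; simp only [xv, _root_.Fin.forall_fin_succ, _root_.one_pow, Fin.isValue, _root_.Matrix.cons_val_zero, _root_.Matrix.cons_val_succ, _root_.Matrix.cons_val_fin_one, _root_.implies_true, _root_.and_self])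
  have hx' : (xs t ht3)⁻¹ = (xs w hw) ^ k := inv_eq_of_mul_eq_one_right hx
  have hzc : (suScalar 2 s hs6 hs3 : SU 6 F 2) ∈ Subgroup.center (SU 6 F 2) := suScalar_mem_center 2 s hs6 hs3
  have h6 : A = (suScalar 2 s hs6 hs3)⁻¹ * (xs t ht3)⁻¹ * io g := by
    rw [← hg]; group
  rw [h6, hx']

end six

end Cfsg.Agent.H242.RIM

private theorem dce_4e73e72a9262 : _root_.True := by
  try have : _root_.True := by simp only [_root_.Cfsg.Agent.H242.RIM.xs.congr_simp]
  try have : _root_.True := by simp only [_root_.Cfsg.Agent.H242.RIM.xv.eq_1]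
  exact _root_.True.intro
end

-- part: H263/RIM/BDef
section
set_option linter.all false

/-!
# S4816, layer (BP): the interface between the structural half and the numerical half (helper263)

`SP0 p s n f X B` : `H20.NX.SB` with `q = p`, without the irreducibility of `U`; `SP` : with it.
`LP p s n f L Z π a B` : the module `W` (`H586.NX.LB` with `q = p`) of order `(p ^ f) ^ (s ^ n)`, with the rule for `s`-th powers.
-/

set_option autoImplicit false

open Cfsg
open scoped commutatorElement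

namespace Cfsg.Agent.H263.RIM

open Cfsg.Agent.H662.GW

/-- The numerical situation of layer (B) in characteristic `p`, without irreducibility. -/
structure SP0 (p s n f : ℕ) {Y U : Type*} [Group Y] [Finite Y] [AddCommGroup U] [Finite U]
    [DistribMulAction Y U] (X : Subgroup Y) (B : U → U → ZMod s) : Prop where
  hp : p.Prime
  hs : s.Prime
  odd : p ≠ 2
  hps : p ≠ s
  hn : 1 ≤ n
  perf : commutator Y = ⊤
  nX : X.Normal
  Xt : X ≠ ⊤
  maxX : ∀ M : Subgroup Y, M.Normal → M ≠ ⊤ → M ≤ X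
  simp : IsSimpleGroup (Y ⧸ X)
  na : ¬ IsMulCommutative (Y ⧸ X)
  cop : ¬ p ∣ Nat.card X
  pY : p ∣ Nat.card (Y ⧸ X)
  faith : ∀ y : Y, (∀ u : U, y • u = u) → y = 1
  exp : ∀ u : U, s • u = 0
  card : Nat.card U = s ^ (2 * n)
  addl : ∀ u v w : U, B (u + v) w = B u w + B v w
  addr : ∀ u v w : U, B u (v + w) = B u v + B u w
  alt : ∀ u : U, B u u = 0
  nd : ∀ u : U, (∀ v : U, B u v = 0) → u = 0
  inv : ∀ (y : Y) (u v : U), B (y • u) (y • v) = B u v
  hf : 1 ≤ f
  hsf : s ∣ p ^ f - 1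
  ineq : ∀ y : Y, orderOf y = p → ∀ j ≤ n, Nat.card {u : U // y • u = u} = s ^ (2 * (n - j)) →
    Ineq p s n j (p ^ f) (Subgroup.centralizer ({y} : Set Y)).index

/-- The numerical situation of layer (B) in characteristic `p`. -/
structure SP (p s n f : ℕ) {Y U : Type*} [Group Y] [Finite Y] [AddCommGroup U] [Finite U]
    [DistribMulAction Y U] (X : Subgroup Y) (B : U → U → ZMod s) : Prop extends SP0 p s n f X B where
  irr : ∀ W : AddSubgroup U, (∀ y : Y, ∀ w ∈ W, y • w ∈ W) → W = ⊥ ∨ W = ⊤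

/-- The module `W`. -/
structure LP (p s n f : ℕ) {G W Y U : Type*} [Group G] [Finite G] [AddCommGroup W] [Finite W]
    [DistribMulAction G W] [Group Y] [Finite Y] [AddCommGroup U] [Finite U] [DistribMulAction Y U]
    (L Z : Subgroup G) (π : G →* Y) (a : L →* Multiplicative U) (B : U → U → ZMod s) : Prop where
  lb : Cfsg.Agent.H586.NX.LB (W := W) p p s n L Z π a B
  card : Nat.card W = (p ^ f) ^ (s ^ n)
  sq : ∀ (y : Y) (l l' : L), Multiplicative.toAdd (a l') = y • Multiplicative.toAdd (a l) →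
    ∃ z ∈ Z, ∀ w : W, ((l' : G) ^ s) • w = (z ^ s) • ((l : G) ^ s) • w

end Cfsg.Agent.H263.RIM
end

-- part: H35/RIM/BRElt
section
prune_inst 0x220080000000000000080000000000001c410002
set_option linter.all false
open scoped Cfsg.Agent.FastGrp

-- part: H35/RIM/BRExt
section
/-!
# S4816, TOOL-BR1 (helper35), the form for central extensions

`exists_dvd_ext` : `π : E → S` a central extension with kernel of order prime to `p`, `Q` an abelian `p`-subgroup of `S`, not
Sylow, with `C_S(Q) = Q × L`, `p ∤ |N_S(Q) : C_S(Q)|`, `θ` an irreducible character of the preimage of `L` over `l` of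
`p`-defect zero (`θ(1)_p = |L|_p`). Then some irreducible character of `E` over `l` has degree divisible by `p`.

* `exists_dvd_of_card` : `|Q| = p` (no hypothesis on `N_S(Q)`).
-/

set_option autoImplicit false

namespace Cfsg.Agent.H35.RIM

open Cfsg Subgroup

universe u

section ext

variable {E S : Type*} [Group E] [Finite E] [Group S] {π : E →* S} (hsurj : Function.Surjective π)
  (hcen : π.ker ≤ center E) {p : ℕ} [hp : Fact p.Prime] (hpm : ¬ p ∣ Nat.card π.ker)

include hsurj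

theorem card_comap' (Q : Subgroup S) : Nat.card ↥(Q.comap π) = Nat.card Q * Nat.card π.ker := by
  haveI : Finite S := Finite.of_surjective _ hsurj
  have h1 := (Q.comap π).card_mul_index
  rw [Subgroup.index_comap_of_surjective _ hsurj] at h1
  have h2 := π.ker.card_mul_index
  rw [Subgroup.index_ker, MonoidHom.range_eq_top.2 hsurj, Subgroup.card_top, ← Q.card_mul_index] at h2
  have h3 : Q.index ≠ 0 := Subgroup.index_ne_zero_of_finite
  have h4 : Nat.card ↥(Q.comap π) * Q.index = (Nat.card Q * Nat.card π.ker) * Q.index := by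
    rw [h1, ← h2]
    ring
  exact Nat.eq_of_mul_eq_mul_right (Nat.pos_of_ne_zero h3) h4

include hpm

/-- a `p`-subgroup lifts -/
theorem exists_lift {Q : Subgroup S} (hQ : IsPGroup p Q) : ∃ R : Subgroup E, IsPGroup p R ∧ R.map π = Q ∧
    Nat.card R = Nat.card Q ∧ R ⊓ π.ker = ⊥ := by
  haveI : Finite S := Finite.of_surjective _ hsurj
  obtain ⟨P⟩ : Nonempty (Sylow p ↥(Q.comap π)) := inferInstance
  set R : Subgroup E := (P : Subgroup ↥(Q.comap π)).map (Q.comap π).subtype with hR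
  have hRp : IsPGroup p R := P.isPGroup'.map _
  have hker : R ⊓ π.ker = ⊥ := by
    have h1 : IsPGroup p ↥(R ⊓ π.ker) := hRp.to_le inf_le_left
    obtain ⟨k, hk⟩ := IsPGroup.iff_card.1 h1
    have h2 : Nat.card ↥(R ⊓ π.ker) ∣ Nat.card π.ker := card_dvd_of_le inf_le_right
    rw [hk] at h2
    rcases Nat.eq_zero_or_pos k with h | h
    · rw [h, pow_zero] at hk
      exact Subgroup.card_eq_one.1 hk
    · exact absurd ((dvd_pow_self p h.ne').trans h2) hpm
  have hcardR : Nat.card R = p ^ (Nat.card ↥(Q.comap π)).factorization p := by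
    rw [hR, Subgroup.card_map_of_injective (subtype_injective _)]
    exact P.card_eq_multiplicity
  have hcardQ : Nat.card ↥(Q.comap π) = Nat.card Q * Nat.card π.ker := card_comap' hsurj Q
  obtain ⟨a, ha⟩ := IsPGroup.iff_card.1 hQ
  have hcard : Nat.card R = Nat.card Q := by
    rw [hcardR, hcardQ, Nat.factorization_mul Nat.card_pos.ne' Nat.card_pos.ne', Finsupp.add_apply,
      Nat.factorization_eq_zero_of_not_dvd hpm, add_zero, ha, hp.out.factorization_pow, Finsupp.single_eq_same]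
  have hle : R.map π ≤ Q := by
    rintro _ ⟨r, hr, rfl⟩
    obtain ⟨x, -, rfl⟩ := hr
    exact x.2
  have hinj : Set.InjOn π R := by
    intro x hx y hy e
    have h0 : x⁻¹ * y ∈ π.ker := by
      rw [MonoidHom.mem_ker, map_mul, map_inv, e, inv_mul_cancel]
    have h1 : x⁻¹ * y ∈ R ⊓ π.ker := ⟨R.mul_mem (R.inv_mem hx) hy, h0⟩
    rw [hker, mem_bot, inv_mul_eq_one] at h1
    exact h1
  refine ⟨R, hRp, ?_, hcard, hker⟩
  apply Subgroup.eq_of_le_of_card_ge hle
  rw [← hcard]
  have h1 : Nat.card ↥(R.map π) = Nat.card R := by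
    symm
    apply Nat.card_congr
    refine Equiv.ofBijective (fun r => ⟨π r, ⟨r, r.2, rfl⟩⟩) ⟨?_, ?_⟩
    · intro r s h
      exact Subtype.ext (hinj r.2 s.2 (congrArg Subtype.val h))
    · rintro ⟨_, r, hr, rfl⟩
      exact ⟨⟨r, hr⟩, rfl⟩
  rw [h1]

include hcen

/-- the centralizer of the lift -/
theorem centralizer_lift {Q : Subgroup S} {R : Subgroup E} (hR : IsPGroup p R) (hRQ : R.map π = Q) :
    centralizer (R : Set E) = (centralizer (Q : Set S)).comap π := by
  ext c
  rw [mem_comap, mem_centralizer_iff, mem_centralizer_iff]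
  constructor
  · intro h q hq
    rw [← hRQ] at hq
    obtain ⟨r, hr, rfl⟩ := hq
    rw [← map_mul, ← map_mul, h r hr]
  · intro h r hr
    have h1 := h (π r) (by
      rw [← hRQ]
      exact ⟨r, hr, rfl⟩)
    set z := c * r * c⁻¹ * r⁻¹ with hz
    have hzk : z ∈ π.ker := by
      rw [MonoidHom.mem_ker, hz, map_mul, map_mul, map_mul, map_inv, map_inv, ← h1, mul_inv_cancel_right, mul_inv_cancel]
    have hzc := hcen hzk
    have e1 : c * r * c⁻¹ = z * r := by rw [hz]; group
    obtain ⟨k, hk⟩ := hR ⟨r, hr⟩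
    have hk' : r ^ p ^ k = 1 := congrArg Subtype.val hk
    have e2 : z ^ p ^ k = 1 := by
      have e3 : (z * r) ^ p ^ k = 1 := by
        rw [← e1, conj_pow, hk', mul_one, mul_inv_cancel]
      have hcomm : Commute z r := (mem_center_iff.1 hzc r).symm
      rw [hcomm.mul_pow, hk', mul_one] at e3
      exact e3
    have e4 : z = 1 := by
      have h2 : orderOf z ∣ p ^ k := orderOf_dvd_of_pow_eq_one e2
      have h3 : orderOf z ∣ Nat.card π.ker := by
        have := orderOf_dvd_natCard (⟨z, hzk⟩ : π.ker)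
        rwa [← Subgroup.orderOf_coe] at this
      have h4 : Nat.Coprime (p ^ k) (Nat.card π.ker) := Nat.Coprime.pow_left _ ((Nat.Prime.coprime_iff_not_dvd hp.out).2 hpm)
      rw [← orderOf_eq_one_iff]
      exact Nat.eq_one_of_dvd_coprimes h4 h2 h3
    rw [e4, one_mul, mul_inv_eq_iff_eq_mul] at e1
    exact e1.symm

/-- **TOOL-BR1 for central extensions.** -/
theorem exists_dvd_ext (l : π.ker →* ℂˣ) {Q L : Subgroup S} (hQ : IsPGroup p Q) (hQa : Q ≤ centralizer (Q : Set S))
    (hC : centralizer (Q : Set S) = Q ⊔ L) (hd : Q ⊓ L = ⊥)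
    (hN : ¬ p ∣ (centralizer (Q : Set S)).relIndex (normalizer (Q : Set S))) (hns : Nat.card Q * p ∣ Nat.card S)
    (θ : ↥(L.comap π) → ℂ) (hθ : IsIrrCharacter ↥(L.comap π) θ)
    (hθl : ∀ (z : E) (hz : z ∈ π.ker) (hz' : z ∈ L.comap π), θ ⟨z, hz'⟩ = θ 1 * l ⟨z, hz⟩)
    (hdeg : (charDegree θ).factorization p = (Nat.card L).factorization p) :
    ∃ χ : E → ℂ, IsIrrCharacter E χ ∧ (∀ z : π.ker, χ z = χ 1 * l z) ∧ p ∣ charDegree χ := by
  classical
  haveI : Finite S := Finite.of_surjective _ hsurj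
  obtain ⟨M, hM⟩ := Cfsg.Agent.Blocks.ExistsModular.exists_isPModular hp.out
  obtain ⟨R, hR, hRQ, hRcard, hRk⟩ := exists_lift hsurj hpm hQ
  have hCR := centralizer_lift hsurj hcen hpm hR hRQ
  have hLC : L ≤ centralizer (Q : Set S) := hC ▸ le_sup_right
  have hRC : R ≤ centralizer (R : Set E) := by
    rw [hCR]
    intro r hr
    rw [mem_comap]
    apply hQa
    rw [← hRQ]
    exact ⟨r, hr, rfl⟩
  have hLR : L.comap π ≤ centralizer (R : Set E) := by
    rw [hCR]
    exact comap_mono hLC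
  -- the decomposition
  let f : ↥R × ↥(L.comap π) →* ↥(centralizer (R : Set E)) :=
    { toFun := fun x => ⟨x.1 * x.2, mul_mem (hRC x.1.2) (hLR x.2.2)⟩
      map_one' := Subtype.ext (one_mul _)
      map_mul' := by
        rintro ⟨a, b⟩ ⟨c, d⟩
        apply Subtype.ext
        show (a * c : E) * (b * d : E) = a * b * (c * d)
        have h1 : (c : E) * b = b * c := mem_centralizer_iff.1 (hLR b.2) c c.2
        calc (a * c : E) * (b * d : E) = a * (c * b) * d := by group
          _ = a * b * (c * d) := by rw [h1]; group }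
  have hfi : Function.Injective f := by
    rw [injective_iff_map_eq_one]
    rintro ⟨a, b⟩ h
    have h1 : (a : E) * b = 1 := congrArg Subtype.val h
    have h2 : (a : E) = (b : E)⁻¹ := mul_eq_one_iff_eq_inv.1 h1
    have h3 : π a ∈ Q ⊓ L := by
      refine ⟨?_, ?_⟩
      · rw [← hRQ]
        exact ⟨a, a.2, rfl⟩
      · rw [h2, map_inv]
        exact L.inv_mem b.2
    rw [hd, mem_bot] at h3
    have h4 : (a : E) ∈ R ⊓ π.ker := ⟨a.2, h3⟩
    rw [hRk, mem_bot] at h4
    have h5 : (b : E) = 1 := by rw [h4, one_mul] at h1; exact h1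
    exact Prod.ext (Subtype.ext h4) (Subtype.ext h5)
  have hfs : Function.Surjective f := by
    rintro ⟨c, hc⟩
    have hc' : π c ∈ Q ⊔ L := by
      rw [← hC, ← mem_comap, ← hCR]
      exact hc
    obtain ⟨q, hq, y, hy, e⟩ : ∃ q ∈ Q, ∃ y ∈ L, q * y = π c := by
      let K : Subgroup S :=
        { carrier := {x | ∃ q ∈ Q, ∃ y ∈ L, q * y = x}
          one_mem' := ⟨1, Q.one_mem, 1, L.one_mem, one_mul 1⟩
          mul_mem' := by
            rintro _ _ ⟨q, hq, y, hy, rfl⟩ ⟨q', hq', y', hy', rfl⟩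
            refine ⟨q * q', Q.mul_mem hq hq', y * y', L.mul_mem hy hy', ?_⟩
            have h1 : q' * y = y * q' := mem_centralizer_iff.1 (hLC hy) q' hq'
            calc q * q' * (y * y') = q * (q' * y) * y' := by group
              _ = q * y * (q' * y') := by rw [h1]; group
          inv_mem' := by
            rintro _ ⟨q, hq, y, hy, rfl⟩
            refine ⟨q⁻¹, Q.inv_mem hq, y⁻¹, L.inv_mem hy, ?_⟩
            have h1 : q * y = y * q := mem_centralizer_iff.1 (hLC hy) q hq
            rw [h1, mul_inv_rev] }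
      have hK : Q ⊔ L ≤ K := sup_le (fun q hq => ⟨q, hq, 1, L.one_mem, mul_one q⟩)
        (fun y hy => ⟨1, Q.one_mem, y, hy, one_mul y⟩)
      exact hK hc'
    rw [← hRQ] at hq
    obtain ⟨r, hr, rfl⟩ := hq
    refine ⟨(⟨r, hr⟩, ⟨r⁻¹ * c, ?_⟩), ?_⟩
    · rw [mem_comap, map_mul, map_inv, ← e, inv_mul_cancel_left]
      exact hy
    · apply Subtype.ext
      show r * (r⁻¹ * c) = c
      rw [mul_inv_cancel_left]
  let e : ↥R × ↥(L.comap π) ≃* ↥(centralizer (R : Set E)) := MulEquiv.ofBijective f ⟨hfi, hfs⟩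
  let pr : ↥(centralizer (R : Set E)) →* ↥(L.comap π) := (MonoidHom.snd _ _).comp e.symm.toMonoidHom
  have hprs : Function.Surjective pr := by
    intro b
    exact ⟨e (1, b), by
      show (e.symm (e (1, b))).2 = b
      rw [MulEquiv.symm_apply_apply]⟩
  let θ' : IrrCharacter ↥(centralizer (R : Set E)) := ⟨θ ∘ pr, Cfsg.Agent.Characters.Core.isIrr_comp pr hprs hθ⟩
  have hθ1 : (θ' : ↥(centralizer (R : Set E)) → ℂ) 1 = θ 1 := by
    show θ (pr 1) = θ 1
    rw [map_one]
  have hns' : Nat.card R * p ∣ Nat.card E := by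
    rw [hRcard]
    exact hns.trans (Subgroup.card_dvd_of_surjective π hsurj)
  have hN' : ¬ p ∣ (centralizer (R : Set E)).relIndex (normalizer (R : Set E)) := by
    intro h
    apply hN
    have h1 : normalizer (R : Set E) ≤ (normalizer (Q : Set S)).comap π := by
      intro g hg
      rw [mem_comap, mem_normalizer_iff]
      have key : ∀ g ∈ normalizer (R : Set E), ∀ q ∈ Q, π g * q * (π g)⁻¹ ∈ Q := by
        intro g hg q hq
        rw [← hRQ] at hq ⊢
        obtain ⟨r, hr, rfl⟩ := hq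
        exact ⟨g * r * g⁻¹, (mem_normalizer_iff.1 hg r).1 hr, by rw [map_mul, map_mul, map_inv]⟩
      intro q
      refine ⟨key g hg q, fun h => ?_⟩
      have h2 := key g⁻¹ (inv_mem hg) _ h
      rw [map_inv, inv_inv] at h2
      have h3 : (π g)⁻¹ * (π g * q * (π g)⁻¹) * π g = q := by group
      rwa [h3] at h2
    have h2 : (centralizer (R : Set E)).relIndex ((normalizer (Q : Set S)).comap π) =
        (centralizer (Q : Set S)).relIndex (normalizer (Q : Set S)) := by
      rw [hCR, Subgroup.relIndex_comap, Subgroup.map_comap_eq_self_of_surjective hsurj]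
    rw [← h2, ← Subgroup.relIndex_mul_relIndex _ _ _ (centralizer_le_normalizer _) h1]
    exact h.mul_right _
  have hdeg' : (charDegree (θ' : ↥(centralizer (R : Set E)) → ℂ)).factorization p =
      (R.subgroupOf (centralizer (R : Set E))).index.factorization p := by
    have h1 : charDegree (θ' : ↥(centralizer (R : Set E)) → ℂ) = charDegree θ := by
      rw [charDegree, charDegree, hθ1]
    have h2 : (R.subgroupOf (centralizer (R : Set E))).index = Nat.card ↥(L.comap π) := by
      have h3 := (R.subgroupOf (centralizer (R : Set E))).card_mul_index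
      rw [Nat.card_congr (subgroupOfEquivOfLe hRC).toEquiv, ← Nat.card_congr e.toEquiv, Nat.card_prod] at h3
      exact Nat.eq_of_mul_eq_mul_left Nat.card_pos h3
    rw [h1, h2, hdeg, card_comap' hsurj, Nat.factorization_mul Nat.card_pos.ne' Nat.card_pos.ne', Finsupp.add_apply,
      Nat.factorization_eq_zero_of_not_dvd hpm, add_zero]
  obtain ⟨χ, hχ1, hχ2⟩ := exists_dvd hM hR hRC hN' hns' θ' hdeg'
  refine ⟨χ, χ.2, ?_, hχ1⟩
  rintro ⟨z, hz⟩
  have hzL : z ∈ L.comap π := by
    rw [mem_comap, MonoidHom.mem_ker.1 hz]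
    exact L.one_mem
  have hzo : ¬ p ∣ orderOf z := by
    intro h
    apply hpm
    have h3 : orderOf z ∣ Nat.card π.ker := by
      have := orderOf_dvd_natCard (⟨z, hz⟩ : π.ker)
      rwa [← Subgroup.orderOf_coe] at this
    exact h.trans h3
  have h1 := hχ2 z (hcen hz) hzo
  have h2 : pr ⟨z, center_le_centralizer _ (hcen hz)⟩ = ⟨z, hzL⟩ := by
    have h3 : (⟨z, center_le_centralizer _ (hcen hz)⟩ : ↥(centralizer (R : Set E))) = e (1, ⟨z, hzL⟩) := by
      apply Subtype.ext
      show z = 1 * z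
      rw [one_mul]
    show (e.symm _).2 = _
    rw [h3, MulEquiv.symm_apply_apply]
  have h4 : (θ' : ↥(centralizer (R : Set E)) → ℂ) ⟨z, center_le_centralizer _ (hcen hz)⟩ = θ 1 * l ⟨z, hz⟩ := by
    show θ (pr _) = _
    rw [h2]
    exact hθl z hz hzL
  have h5 : θ 1 ≠ 0 := Cfsg.Agent.Characters.Core.isIrr_apply_one_ne_zero hθ
  have h6 : (χ : E → ℂ) 1 ≠ 0 := Cfsg.Agent.Characters.Core.isIrr_apply_one_ne_zero χ.2
  rw [h4, hθ1, mul_comm (θ 1), mul_div_assoc, div_self h5, mul_one, div_eq_iff h6] at h1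
  rw [mul_comm]
  exact h1

end ext

end Cfsg.Agent.H35.RIM
end

-- part: H35/RIM/BRElt
section
/-!
# S4816, TOOL-BR1 (helper35): the forms for the users

* `not_dvd_of_card` : `|Q| = p` implies `p ∤ |N(Q) : C(Q)|`;
* `exists_dvd_sub` : `E`, `Z` central, `Q ≤ E` abelian, `θ ∈ Irr(C_E(Q))` over `l`;
* `exists_dvd_elt` : `x ∈ E` of order `p`, `θ ∈ Irr(C_E(x))` over `l`;
* `nb_of_sub`, `nb_of_elt` : the rows `NB p m S` from data in `S` (`C_S(Q) = Q × L`).
-/

set_option autoImplicit false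

namespace Cfsg.Agent.H35.RIM

open Cfsg Subgroup

universe u

/-- `|Q| = p`: `p ∤ |N(Q) : C(Q)|` -/
theorem not_dvd_of_card {G : Type*} [Group G] [Finite G] {p : ℕ} [hp : Fact p.Prime] {Q : Subgroup G}
    (hQ : Nat.card Q = p) : ¬ p ∣ (centralizer (Q : Set G)).relIndex (normalizer (Q : Set G)) := by
  intro h
  haveI : IsCyclic Q := isCyclic_of_prime_card hQ
  have h1 : (centralizer (Q : Set G)).subgroupOf (normalizer (Q : Set G)) = (normalizerMonoidHom Q).ker :=
    (normalizerMonoidHom_ker Q).symm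
  have h2 : (centralizer (Q : Set G)).relIndex (normalizer (Q : Set G)) ∣ Nat.card (MulAut Q) := by
    rw [Subgroup.relIndex, h1, Subgroup.index_ker]
    exact Subgroup.card_subgroup_dvd_card _
  rw [IsCyclic.card_mulAut, hQ, Nat.totient_prime hp.out] at h2
  have h3 := Nat.le_of_dvd (Nat.sub_pos_of_lt hp.out.one_lt) (h.trans h2)
  have h4 := hp.out.pos
  omega

section elt

variable {E : Type*} [Group E] [Finite E] {p : ℕ} [hp : Fact p.Prime] {Z : Subgroup E} (hZ : Z ≤ center E)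
  (hpm : ¬ p ∣ Nat.card Z)

include hZ hpm

/-- **TOOL-BR1 in `E`**, `H = C_E(Q)` -/
theorem exists_dvd_sub (l : Z →* ℂˣ) {Q H : Subgroup E} (hH : H = centralizer (Q : Set E)) (hQ : IsPGroup p Q)
    (hQH : Q ≤ H) (hN : ¬ p ∣ H.relIndex (normalizer (Q : Set E))) (hns : Nat.card Q * p ∣ Nat.card E)
    (θ : ↥H → ℂ) (hθ : IsIrrCharacter ↥H θ) (hθl : ∀ (z : E) (hz : z ∈ Z) (hz' : z ∈ H), θ ⟨z, hz'⟩ = θ 1 * l ⟨z, hz⟩)
    (hdeg : Nat.card Q * p ^ (charDegree θ).factorization p = p ^ (Nat.card H).factorization p) :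
    ∃ χ : E → ℂ, IsIrrCharacter E χ ∧ (∀ z : Z, χ z = χ 1 * l z) ∧ p ∣ charDegree χ := by
  subst hH
  obtain ⟨M, hM⟩ := Cfsg.Agent.Blocks.ExistsModular.exists_isPModular hp.out
  obtain ⟨χ, hχ1, hχ2⟩ := exists_dvd hM hQ hQH hN hns ⟨θ, hθ⟩ (by
    have h1 := (Q.subgroupOf (centralizer (Q : Set E))).card_mul_index
    rw [Nat.card_congr (subgroupOfEquivOfLe hQH).toEquiv] at h1
    obtain ⟨a, ha⟩ := IsPGroup.iff_card.1 hQ
    rw [← h1, ha, ← pow_add, Nat.factorization_mul (pow_ne_zero _ hp.out.ne_zero) Subgroup.index_ne_zero_of_finite,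
      Finsupp.add_apply, hp.out.factorization_pow, Finsupp.single_eq_same] at hdeg
    have h2 := Nat.pow_right_injective hp.out.two_le hdeg
    show (charDegree θ).factorization p = _
    omega)
  refine ⟨χ, χ.2, ?_, hχ1⟩
  rintro ⟨z, hz⟩
  have hzo : ¬ p ∣ orderOf z := by
    intro h
    apply hpm
    have h3 : orderOf z ∣ Nat.card Z := by
      have := orderOf_dvd_natCard (⟨z, hz⟩ : Z)
      rwa [← Subgroup.orderOf_coe] at this
    exact h.trans h3
  have h1 := hχ2 z (hZ hz) hzo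
  have h4 : θ ⟨z, center_le_centralizer _ (hZ hz)⟩ = θ 1 * l ⟨z, hz⟩ := hθl z hz _
  have h5 : θ 1 ≠ 0 := Cfsg.Agent.Characters.Core.isIrr_apply_one_ne_zero hθ
  have h6 : (χ : E → ℂ) 1 ≠ 0 := Cfsg.Agent.Characters.Core.isIrr_apply_one_ne_zero χ.2
  have h7 : (χ : E → ℂ) z / (χ : E → ℂ) 1 = l ⟨z, hz⟩ := by
    refine h1.trans ?_
    show θ ⟨z, _⟩ / θ 1 = _
    rw [h4, mul_comm (θ 1), mul_div_assoc, div_self h5, mul_one]
  rw [div_eq_iff h6] at h7
  rw [mul_comm]
  exact h7

/-- **TOOL-BR1 in `E`, an element of order `p`** -/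
theorem exists_dvd_elt (l : Z →* ℂˣ) {x : E} (hx : orderOf x = p) (hns : p ^ 2 ∣ Nat.card E)
    (θ : ↥(centralizer ({x} : Set E)) → ℂ) (hθ : IsIrrCharacter ↥(centralizer ({x} : Set E)) θ)
    (hθl : ∀ (z : E) (hz : z ∈ Z) (hz' : z ∈ centralizer ({x} : Set E)), θ ⟨z, hz'⟩ = θ 1 * l ⟨z, hz⟩)
    (hdeg : (charDegree θ).factorization p + 1 = (Nat.card ↥(centralizer ({x} : Set E))).factorization p) :
    ∃ χ : E → ℂ, IsIrrCharacter E χ ∧ (∀ z : Z, χ z = χ 1 * l z) ∧ p ∣ charDegree χ := by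
  have hQ : Nat.card (zpowers x) = p := by rw [Nat.card_zpowers, hx]
  have hH : centralizer ({x} : Set E) = centralizer ((zpowers x : Subgroup E) : Set E) := by
    rw [zpowers_eq_closure, centralizer_closure]
  refine exists_dvd_sub hZ hpm l hH (IsPGroup.of_card (n := 1) (by rw [pow_one, hQ])) ?_ ?_ ?_ θ hθ hθl ?_
  · rw [zpowers_le, mem_centralizer_singleton_iff]
  · rw [hH]
    exact not_dvd_of_card hQ
  · rwa [hQ, ← pow_two]
  · rw [hQ, ← hdeg, pow_succ, mul_comm]

end elt

/-- **TOOL-BR1, the row from data in `S`** -/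
theorem nb_of_sub {S : Type u} [Group S] [Finite S] {p m : ℕ} [hp : Fact p.Prime] (hpm : ¬ p ∣ m) {Q L : Subgroup S}
    (hQ : IsPGroup p Q) (hQa : Q ≤ centralizer (Q : Set S))
    (hC : centralizer (Q : Set S) = Q ⊔ L) (hd : Q ⊓ L = ⊥)
    (hN : ¬ p ∣ (centralizer (Q : Set S)).relIndex (normalizer (Q : Set S))) (hns : Nat.card Q * p ∣ Nat.card S)
    (h : ∀ (E : Type u) [Group E] [Finite E] (π : E →* S), Function.Surjective π → π.ker ≤ center E →
      commutator E = ⊤ → Nat.card π.ker = m → ∀ l : π.ker →* ℂˣ, Function.Injective l →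
        ∃ θ : ↥(L.comap π) → ℂ, IsIrrCharacter ↥(L.comap π) θ ∧
          (∀ (z : E) (hz : z ∈ π.ker) (hz' : z ∈ L.comap π), θ ⟨z, hz'⟩ = θ 1 * l ⟨z, hz⟩) ∧
          (charDegree θ).factorization p = (Nat.card L).factorization p) : Cfsg.Agent.H665.RIM.NB p m S := by
  intro E _ _ π hsurj hcen hperf hcard l hl
  obtain ⟨θ, h1, h2, h3⟩ := h E π hsurj hcen hperf hcard l hl
  exact exists_dvd_ext hsurj hcen (by rwa [hcard]) l hQ hQa hC hd hN hns θ h1 h2 h3

/-- **TOOL-BR1, the row from an element `x ∈ S` of order `p` with `C_S(x) = ⟨x⟩ × L`** -/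
theorem nb_of_elt {S : Type u} [Group S] [Finite S] {p m : ℕ} [hp : Fact p.Prime] (hpm : ¬ p ∣ m) {x : S} {L : Subgroup S}
    (hx : orderOf x = p) (hC : centralizer ({x} : Set S) = zpowers x ⊔ L) (hd : zpowers x ⊓ L = ⊥)
    (hns : p ^ 2 ∣ Nat.card S)
    (h : ∀ (E : Type u) [Group E] [Finite E] (π : E →* S), Function.Surjective π → π.ker ≤ center E →
      commutator E = ⊤ → Nat.card π.ker = m → ∀ l : π.ker →* ℂˣ, Function.Injective l →
        ∃ θ : ↥(L.comap π) → ℂ, IsIrrCharacter ↥(L.comap π) θ ∧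
          (∀ (z : E) (hz : z ∈ π.ker) (hz' : z ∈ L.comap π), θ ⟨z, hz'⟩ = θ 1 * l ⟨z, hz⟩) ∧
          (charDegree θ).factorization p = (Nat.card L).factorization p) : Cfsg.Agent.H665.RIM.NB p m S := by
  have hQ : Nat.card (zpowers x) = p := by rw [Nat.card_zpowers, hx]
  have hH : centralizer ({x} : Set S) = centralizer ((zpowers x : Subgroup S) : Set S) := by
    rw [zpowers_eq_closure, centralizer_closure]
  refine nb_of_sub hpm (IsPGroup.of_card (n := 1) (by rw [pow_one, hQ])) ?_ (hH ▸ hC) hd (not_dvd_of_card hQ) ?_ h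
  · rw [← hH, zpowers_le, mem_centralizer_singleton_iff]
  · rwa [hQ, ← pow_two]

end Cfsg.Agent.H35.RIM
end

private theorem dce_5b3041043bea : _root_.True := by
  try have : _root_.True := by simp only [_root_.Cfsg.charDegree.eq_1]
  exact _root_.True.intro
end

-- part: H388/RI/Use
section
set_option linter.all false
open scoped Cfsg.Agent.FastGrp

/-!
# S4816, module side: user forms of the chain bound (helper388)

* `noPEx` : `L` perfect, central `p'`-cover of the simple `S`, `|S| = N p ^ a`, every faithful irreducible module has at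
  least `p ^ D` elements, `N < p ^ (c + 1)`, `N < (p + 1) ^ k`, `c k < D` : `NoPEx p L`;
* `noPEx_simple` : the case `L = S`.
-/

set_option autoImplicit false

namespace Cfsg.Agent.H388.RI

open Subgroup MulAction

universe u

/-- no fixed vectors -/
theorem fixed_eq_zero {L V : Type*} [Group L] [AddCommGroup V] [DistribMulAction L V] [Nontrivial L]
    (hf : ∀ h : L, (∀ v : V, h • v = v) → h = 1)
    (hirr : ∀ W : AddSubgroup V, (∀ h : L, ∀ w ∈ W, h • w ∈ W) → W = ⊥ ∨ W = ⊤) (v : V) (hv : ∀ g : L, g • v = v) :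
    v = 0 := by
  rcases hirr (F V (⊤ : Subgroup L)) (fun h w hw g hg => by rw [hw h (mem_top h), hw g hg]) with h1 | h1
  · have h2 : v ∈ F V (⊤ : Subgroup L) := fun g _ => hv g
    rw [h1] at h2
    exact h2
  · exfalso
    obtain ⟨g, hg⟩ := exists_ne (1 : L)
    apply hg
    apply hf
    intro w
    have h2 : w ∈ F V (⊤ : Subgroup L) := h1 ▸ AddSubgroup.mem_top w
    exact h2 g (mem_top g)

/-- **The chain bound for covers.** -/
theorem noPEx {L : Type u} [Group L] [Finite L] {S : Type*} [Group S] [IsSimpleGroup S] {π : L →* S} {p N a c k D : ℕ}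
    (hp : p.Prime) (hperf : commutator L = ⊤) (hπ : Function.Surjective π) (hcen : π.ker ≤ center L)
    (hk : ¬ p ∣ Nat.card π.ker) (hN : ¬ p ∣ N) (ha : a ≠ 0) (hcard : Nat.card S = N * p ^ a)
    (hc : N < p ^ (c + 1)) (hkk : N < (p + 1) ^ k) (hnum : c * k < D)
    (hD : ∀ (V : Type u) [AddCommGroup V] [Finite V] [DistribMulAction L V], (∀ v : V, p • v = 0) →
      (∀ h : L, (∀ v : V, h • v = v) → h = 1) → p ^ D ≤ Nat.card V) : H665.RIM.NoPEx.{u} p L := by
  intro V _ _ _ hV _ hf hirr hfix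
  have : Nontrivial L := by
    have h1 : Nontrivial S := IsSimpleGroup.toNontrivial
    exact hπ.nontrivial
  exact chain hp hperf hπ hcen hk hN ha hcard hV (fun v hv => fixed_eq_zero hf hirr v hv) hfix hc hkk (hD V hV hf) hnum

/-- **The chain bound for simple groups.** -/
theorem noPEx_simple {S : Type u} [Group S] [Finite S] [IsSimpleGroup S] {p N a c k D : ℕ}
    (hp : p.Prime) (hperf : commutator S = ⊤) (hN : ¬ p ∣ N) (ha : a ≠ 0) (hcard : Nat.card S = N * p ^ a)
    (hc : N < p ^ (c + 1)) (hkk : N < (p + 1) ^ k) (hnum : c * k < D)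
    (hD : ∀ (V : Type u) [AddCommGroup V] [Finite V] [DistribMulAction S V], (∀ v : V, p • v = 0) →
      (∀ h : S, (∀ v : V, h • v = v) → h = 1) → p ^ D ≤ Nat.card V) : H665.RIM.NoPEx.{u} p S := by
  have hker : (MonoidHom.id S).ker = ⊥ := by
    ext x
    rw [MonoidHom.mem_ker, mem_bot, MonoidHom.id_apply]
  refine noPEx (π := MonoidHom.id S) hp hperf Function.surjective_id (by rw [hker]; exact bot_le) ?_ hN ha hcard hc hkk
    hnum hD
  rw [hker, Subgroup.card_bot, Nat.dvd_one]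
  exact hp.ne_one

end Cfsg.Agent.H388.RI
end

-- part: H425/RIM/Tool
section
prune_inst 0x220080000000000000080000000000001c410002
set_option linter.all false
open scoped Cfsg.Agent.FastGrp

/-!
# Tools for the rows `EK p S` of S4816 (helper425)

`Sit p K N φ π` : the affine situation of `EK p S` (`π : H → S` surjective with kernel `K`, `K / N` central).
* `K_cen` : `K` is central in `H`;
* `eq_top` : a subgroup of `H` which maps onto `S` is `H`;
* `stab_ne_top`, `dvd_stab` : the image in `S` of the stabilizer of `v ≠ 0` is a proper subgroup of order divisible by `p`;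
* `card_modEq` : an element of prime order `q` without fixed vectors: `|V| ≡ 1` modulo `q`;
* `union` : `p² ∤ |S|`: `|V| ≤ |S : N_S(⟨x⟩)| |C_V(x)|` for `x` of order `p`;
* `two_gen` : `⟨x, x^g⟩ = S`: `|C_V(x)|² ≤ |V|`.
-/

set_option autoImplicit false
set_option linter.unusedSectionVars false

namespace Cfsg.Agent.H425.RIM.Tool

open Subgroup Cfsg.Agent.H229.RIM
open scoped commutatorElement

variable {p : ℕ} {H V S : Type*} [Group H] [Finite H] [AddCommGroup V] [Finite V] [DistribMulAction H V]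
  [Group S]

/-- The situation of `EK p S`. -/
structure Sit (p : ℕ) {H V S : Type*} [Group H] [Finite H] [AddCommGroup V] [Finite V] [DistribMulAction H V]
    [Group S] (K N : Subgroup H) (φ : N →* ℂˣ) (π : H →* S) : Prop where
  core : CoreP (V := V) p K N φ
  surj : Function.Surjective π
  ker : π.ker = K
  cen : ∀ k ∈ K, ∀ h : H, ⁅k, h⁆ ∈ N

variable {K N : Subgroup H} {φ : N →* ℂˣ} {π : H →* S} (A : Sit (V := V) p K N φ π)

include A

theorem Sit.K_le : K ≤ center H := by
  have h1 : ⁅(K : Subgroup H), (⊤ : Subgroup H)⁆ ≤ N := by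
    rw [commutator_le]
    intro k hk h _
    exact A.cen k hk h
  have h2 : ⁅⁅(K : Subgroup H), (⊤ : Subgroup H)⁆, (⊤ : Subgroup H)⁆ = ⊥ := by
    rw [commutator_eq_bot_iff_le_centralizer, coe_top, centralizer_univ]
    exact h1.trans A.core.cen
  have h3 := commutator_commutator_eq_bot_of_rotate (H₁ := (⊤ : Subgroup H)) (H₂ := ⊤) (H₃ := K)
    (by rw [commutator_comm (⊤ : Subgroup H) K]; exact h2) h2
  have h4 : ⁅(⊤ : Subgroup H), (⊤ : Subgroup H)⁆ = ⊤ := A.core.perf
  rw [h4, commutator_comm, commutator_eq_bot_iff_le_centralizer, coe_top, centralizer_univ] at h3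
  exact h3

theorem Sit.K_cen {k : H} (hk : π k = 1) (h : H) : k * h = h * k := by
  have h1 : k ∈ K := by rw [← A.ker]; exact hk
  exact (mem_center_iff.1 (A.K_le h1) h).symm

theorem Sit.eq_top {L : Subgroup H} (hL : L.map π = ⊤) : L = ⊤ := by
  have h4 : ⁅(⊤ : Subgroup H), (⊤ : Subgroup H)⁆ = ⊤ := A.core.perf
  rw [eq_top_iff, ← h4, commutator_le]
  have key : ∀ g : H, ∃ l ∈ L, ∃ k, π k = 1 ∧ g = l * k := by
    intro g
    have h1 : π g ∈ L.map π := by rw [hL]; exact mem_top _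
    obtain ⟨l, hl, h2⟩ := h1
    exact ⟨l, hl, l⁻¹ * g, by rw [map_mul, map_inv, h2, inv_mul_cancel], by group⟩
  rintro a - b -
  obtain ⟨l, hl, k, hk, rfl⟩ := key a
  obtain ⟨l', hl', k', hk', rfl⟩ := key b
  have c1 := A.K_cen hk
  have c2 := A.K_cen hk'
  have h5 : ⁅l * k, l' * k'⁆ = ⁅l, l'⁆ := by
    rw [commutatorElement_def, commutatorElement_def]
    have e1 : l * k * (l' * k') = l * l' * (k * k') := by
      calc l * k * (l' * k') = l * (k * l') * k' := by group
        _ = l * l' * (k * k') := by rw [c1]; group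
    have e2 : (l * k)⁻¹ * (l' * k')⁻¹ = (k * k')⁻¹ * (l⁻¹ * l'⁻¹) := by
      have e3 : (l' * k') * (l * k) = l' * l * (k * k') := by
        calc (l' * k') * (l * k) = l' * (k' * l) * k := by group
          _ = l' * l * (k' * k) := by rw [c2]; group
          _ = l' * l * (k * k') := by rw [c2 k]
      calc (l * k)⁻¹ * (l' * k')⁻¹ = ((l' * k') * (l * k))⁻¹ := by group
        _ = (k * k')⁻¹ * (l⁻¹ * l'⁻¹) := by rw [e3]; group
    calc l * k * (l' * k') * (l * k)⁻¹ * (l' * k')⁻¹ = (l * k * (l' * k')) * ((l * k)⁻¹ * (l' * k')⁻¹) := by group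
      _ = l * l' * l⁻¹ * l'⁻¹ := by rw [e1, e2]; group
  rw [h5]
  exact L.mul_mem (L.mul_mem (L.mul_mem hl hl') (L.inv_mem hl)) (L.inv_mem hl')

theorem Sit.K_ne_top : K ≠ ⊤ := by
  intro h
  obtain ⟨a, b, hab⟩ := A.core.simp.toNontrivial.exists_pair_ne
  obtain ⟨a, rfl⟩ := QuotientGroup.mk_surjective a
  obtain ⟨b, rfl⟩ := QuotientGroup.mk_surjective b
  exact hab (QuotientGroup.eq.2 (by rw [h]; exact mem_top _))

theorem Sit.eq_zero {v : V} (hv : ∀ h : H, h • v = v) : v = 0 := by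
  let W : AddSubgroup V :=
    { carrier := {v | ∀ h : H, h • v = v}
      zero_mem' := fun h => smul_zero h
      add_mem' := fun {a b} ha hb h => by rw [smul_add, ha, hb]
      neg_mem' := fun {a} ha h => by rw [smul_neg, ha] }
  rcases A.core.irr W (fun h w hw => by rw [hw h]; exact hw) with h | h
  · have : v ∈ W := hv
    rw [h] at this
    exact AddSubgroup.mem_bot.1 this
  · exfalso
    apply A.K_ne_top
    rw [eq_top_iff]
    intro g _
    apply A.core.NK
    rw [← A.core.ker]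
    intro v
    have : v ∈ W := by rw [h]; exact AddSubgroup.mem_top v
    exact this g

theorem Sit.stab_ne_top {v : V} (hv : v ≠ 0) : (MulAction.stabilizer H v).map π ≠ ⊤ := by
  intro h
  have h1 := A.eq_top h
  apply hv
  apply A.eq_zero
  intro g
  have : g ∈ MulAction.stabilizer H v := by rw [h1]; exact mem_top g
  exact this

theorem Sit.dvd_stab (hp : p.Prime) (v : V) : p ∣ Nat.card ↥((MulAction.stabilizer H v).map π) := by
  have h1 := (MulAction.stabilizer H v).card_mul_index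
  have h2 : p ∣ Nat.card H := by
    have h3 := card_eq_card_quotient_mul_card_subgroup K
    rw [h3]
    exact dvd_mul_of_dvd_left A.core.pS _
  rw [← h1] at h2
  have h3 : p ∣ Nat.card ↥(MulAction.stabilizer H v) :=
    ((hp.dvd_mul).1 h2).resolve_right (A.core.P1 v)
  -- an element of order `p`
  have : Fact p.Prime := ⟨hp⟩
  obtain ⟨u, hu⟩ := exists_prime_orderOf_dvd_card' p h3
  have hu' : orderOf (u : H) = p := by rw [Subgroup.orderOf_coe, hu]
  have h4 : π u ≠ 1 := by
    intro h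
    apply A.core.pK
    have h5 : (u : H) ∈ K := by rw [← A.ker]; exact h
    rw [← hu', ← Subgroup.orderOf_mk _ h5]
    exact orderOf_dvd_natCard _
  have h5 : orderOf (π (u : H)) = p := orderOf_eq_prime (by rw [← map_pow, ← hu', pow_orderOf_eq_one, map_one]) h4
  have h6 : π (u : H) ∈ (MulAction.stabilizer H v).map π := mem_map_of_mem _ u.2
  rw [← h5, ← Subgroup.orderOf_mk _ h6]
  exact orderOf_dvd_natCard _

theorem Sit.card_V (hp : p.Prime) : ∃ d, 0 < d ∧ Nat.card V = p ^ d := by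
  have : Fact p.Prime := ⟨hp⟩
  have := Fintype.ofFinite V
  have h1 : IsPGroup p (Multiplicative V) := by
    intro g
    refine ⟨1, ?_⟩
    have h2 := A.core.exp (Multiplicative.toAdd g)
    rw [pow_one]
    exact congrArg Multiplicative.ofAdd h2
  obtain ⟨d, hd⟩ := (IsPGroup.iff_card).1 h1
  have hd' : Nat.card V = p ^ d := hd
  refine ⟨d, ?_, hd'⟩
  rcases Nat.eq_zero_or_pos d with h | h
  · exfalso
    rw [h, pow_zero] at hd'
    have := A.core.nt
    have h3 := Finite.one_lt_card (α := V)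
    omega
  · exact h

omit A in
/-- the fixed vectors -/
def fx (V : Type*) [AddCommGroup V] [DistribMulAction H V] (x : H) : AddSubgroup V where
  carrier := {v | x • v = v}
  zero_mem' := smul_zero x
  add_mem' := fun {a b} (ha : x • a = a) (hb : x • b = b) => by
    show x • (a + b) = a + b
    rw [smul_add, ha, hb]
  neg_mem' := fun {a} (ha : x • a = a) => by
    show x • (-a) = -a
    rw [smul_neg, ha]

omit A in
theorem card_modEq {q : ℕ} (hq : q.Prime) {y : H} {j : ℕ} (hy : y ^ q ^ j = 1) (h0 : ∀ v : V, y • v = v → v = 0) :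
    Nat.card V ≡ 1 [MOD q] := by
  have : Fact q.Prime := ⟨hq⟩
  have h1 : IsPGroup q (zpowers y) := by
    have h2 : orderOf y ∣ q ^ j := orderOf_dvd_of_pow_eq_one hy
    obtain ⟨i, -, hi⟩ := (Nat.dvd_prime_pow hq).1 h2
    exact IsPGroup.of_card (n := i) (by rw [Nat.card_zpowers, hi])
  have h2 := h1.card_modEq_card_fixedPoints V
  have h3 : Nat.card ↑(MulAction.fixedPoints (zpowers y) V) = 1 := by
    rw [Nat.card_eq_one_iff_unique]
    refine ⟨⟨fun a b => ?_⟩, ⟨⟨0, fun g => smul_zero _⟩⟩⟩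
    have ha := h0 _ (a.2 ⟨y, mem_zpowers y⟩)
    have hb := h0 _ (b.2 ⟨y, mem_zpowers y⟩)
    exact Subtype.ext (ha.trans hb.symm)
  rw [h3] at h2
  exact h2

omit A [Finite V] [DistribMulAction H V] [AddCommGroup V] in
/-- a lift of `q`-power order of an element of order `q` -/
theorem exists_lift (hs : Function.Surjective π) {q : ℕ} (hq : q.Prime) {t : S} (ht : t ^ q = 1) :
    ∃ g : H, π g = t ∧ ∃ j : ℕ, g ^ q ^ j = 1 := by
  obtain ⟨g₀, hg₀⟩ := hs t
  obtain ⟨j, m, hm, hjm⟩ := Nat.exists_eq_pow_mul_and_not_dvd (orderOf_pos g₀).ne' q hq.one_lt.ne'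
  have hco : Nat.Coprime m q := ((Nat.Prime.coprime_iff_not_dvd hq).2 hm).symm
  obtain ⟨a, -, ha⟩ := Nat.exists_mul_mod_eq_one_of_coprime hco hq.one_lt
  refine ⟨g₀ ^ (m * a), ?_, j, ?_⟩
  · rw [map_pow, hg₀]
    have h1 : m * a = q * (m * a / q) + 1 := by
      have := Nat.div_add_mod (m * a) q
      rw [ha] at this
      exact this.symm
    rw [h1, pow_succ, pow_mul, ht, one_pow, one_mul]
  · rw [← pow_mul, show m * a * q ^ j = (q ^ j * m) * a by ring, ← hjm, pow_mul, pow_orderOf_eq_one, one_pow]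

/-- a lift of order `p` of an element of order `p` -/
theorem Sit.exists_lift_p (hp : p.Prime) {t : S} (ht : orderOf t = p) : ∃ x : H, π x = t ∧ orderOf x = p := by
  have : Fact p.Prime := ⟨hp⟩
  obtain ⟨g, hg, j, hj⟩ := exists_lift A.surj hp (t := t) (by rw [← ht]; exact pow_orderOf_eq_one t)
  refine ⟨g, hg, ?_⟩
  have h1 : g ^ p ∈ K := by
    rw [← A.ker]
    show π (g ^ p) = 1
    rw [map_pow, hg, ← ht]
    exact pow_orderOf_eq_one t
  have h2 : orderOf (g ^ p) ∣ p ^ j := orderOf_dvd_of_pow_eq_one (by rw [← pow_mul, mul_comm, pow_mul, hj, one_pow])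
  obtain ⟨i, -, hi⟩ := (Nat.dvd_prime_pow hp).1 h2
  have h3 : g ^ p = 1 := by
    rcases Nat.eq_zero_or_pos i with h | h
    · rw [h, pow_zero] at hi
      exact orderOf_eq_one_iff.1 hi
    · exfalso
      apply A.core.pK
      have h4 : p ∣ orderOf (g ^ p) := by rw [hi]; exact dvd_pow_self p h.ne'
      refine h4.trans ?_
      rw [← Subgroup.orderOf_mk _ h1]
      exact orderOf_dvd_natCard _
  refine orderOf_eq_prime h3 ?_
  rintro rfl
  rw [map_one] at hg
  rw [← hg, orderOf_one] at ht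
  exact hp.one_lt.ne ht

/-- **Two generation.** -/
theorem Sit.two_gen {x g : H} (hgen : ∀ L : Subgroup S, π x ∈ L → π (g * x * g⁻¹) ∈ L → L = ⊤) :
    Nat.card ↥(fx V x) * Nat.card ↥(fx V x) ≤ Nat.card V := by
  rw [← Nat.card_prod]
  refine Nat.card_le_card_of_injective (fun a : ↥(fx V x) × ↥(fx V x) => (a.1 : V) + g • (a.2 : V)) ?_
  rintro ⟨a, b⟩ ⟨a', b'⟩ h
  simp only at h
  have h1 : ((a : V) - a') = g • ((b' : V) - b) := by
    rw [smul_sub]
    have := h
    rw [← sub_eq_zero] at this ⊢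
    rw [← this]
    abel
  have h2 : ((a : V) - a') = 0 := by
    apply A.eq_zero
    have h3 : x • ((a : V) - a') = (a : V) - a' := (fx V x).sub_mem a.2 a'.2
    have h4 : (g * x * g⁻¹) • ((a : V) - a') = (a : V) - a' := by
      rw [h1, mul_smul, mul_smul, inv_smul_smul]
      have h5 : x • ((b' : V) - b) = (b' : V) - b := (fx V x).sub_mem b'.2 b.2
      rw [h5]
    have h5 : (MulAction.stabilizer H ((a : V) - a')).map π = ⊤ :=
      hgen _ (mem_map_of_mem _ h3) (mem_map_of_mem _ h4)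
    have h6 := A.eq_top h5
    intro k
    have : k ∈ MulAction.stabilizer H ((a : V) - a') := by rw [h6]; exact mem_top k
    exact this
  have h3 : (b' : V) - b = 0 := by
    rw [h2] at h1
    have := congrArg (g⁻¹ • ·) h1
    simpa using this.symm
  exact Prod.ext (Subtype.ext (sub_eq_zero.1 h2)) (Subtype.ext (sub_eq_zero.1 h3).symm)

/-- **The union bound.** -/
theorem Sit.union (hp : p.Prime) (hsq : ¬ p ^ 2 ∣ Nat.card S) {x : H} (hx : orderOf x = p) :
    Nat.card V ≤ (normalizer ((zpowers (π x) : Subgroup S) : Set S)).index * Nat.card ↥(fx V x) := by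
  classical
  have : Fact p.Prime := ⟨hp⟩
  have hfS : Finite S := Finite.of_surjective _ A.surj
  set M := (normalizer ((zpowers (π x) : Subgroup S) : Set S)).comap π with hM
  have hidx : M.index = (normalizer ((zpowers (π x) : Subgroup S) : Set S)).index :=
    index_comap_of_surjective _ A.surj
  rw [← hidx]
  -- `M` normalizes `⟨x⟩`
  have hMx : ∀ m ∈ M, ∀ v ∈ fx V x, m • v ∈ fx V x := by
    intro m hm v hv
    have h1 : (π m)⁻¹ * π x * (π m)⁻¹⁻¹ ∈ zpowers (π x) :=
      (mem_normalizer_iff.1 (inv_mem hm : (π m)⁻¹ ∈ normalizer ((zpowers (π x) : Subgroup S) : Set S)) (π x)).1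
        (mem_zpowers _)
    obtain ⟨j, hj⟩ := mem_powers_iff_mem_zpowers.2 h1
    have hj' : (π x) ^ j = (π m)⁻¹ * π x * (π m)⁻¹⁻¹ := hj
    have h2 : π ((x ^ j)⁻¹ * (m⁻¹ * x * m)) = 1 := by
      rw [map_mul, map_mul, map_mul, map_inv, map_pow, map_inv, hj', inv_inv]
      group
    set k := (x ^ j)⁻¹ * (m⁻¹ * x * m) with hk
    have h3 : m⁻¹ * x * m = x ^ j * k := by rw [hk]; group
    have hc : Commute (x ^ j) k := (A.K_cen h2 _).symm
    have h4 : k ^ p = 1 := by
      have h5 : (m⁻¹ * x * m) ^ p = 1 := by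
        have h6 := conj_pow (i := p) (a := m⁻¹) (b := x)
        rw [inv_inv] at h6
        rw [h6, ← hx, pow_orderOf_eq_one, mul_one, inv_mul_cancel]
      rw [h3, hc.mul_pow, ← pow_mul, mul_comm j p, pow_mul, ← hx, pow_orderOf_eq_one, one_pow, one_mul] at h5
      rw [← hx]; exact h5
    have hkK : k ∈ K := by rw [← A.ker]; exact h2
    have h5 : k = 1 := by
      by_contra hne
      apply A.core.pK
      rw [← orderOf_eq_prime h4 hne, ← Subgroup.orderOf_mk _ hkK]
      exact orderOf_dvd_natCard _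
    rw [h5, mul_one] at h3
    show x • (m • v) = m • v
    have h6 : x * m = m * x ^ j := by rw [← h3]; group
    have hv' : x • v = v := hv
    have h7 : (x ^ j) • v = v := by
      have : ∀ n : ℕ, (x ^ n) • v = v := by
        intro n
        induction n with
        | zero => rw [pow_zero, one_smul]
        | succ n ih => rw [pow_succ, mul_smul, hv', ih]
      exact this j
    rw [← mul_smul, h6, mul_smul, h7]
  -- the Sylow subgroups
  have hH2 : ¬ p ^ 2 ∣ Nat.card H := by
    intro h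
    have h1 : Nat.card H = Nat.card S * Nat.card K := by
      rw [card_eq_card_quotient_mul_card_subgroup K, ← A.ker,
        Nat.card_congr (QuotientGroup.quotientKerEquivOfSurjective π A.surj).toEquiv]
    rw [h1] at h
    have hco : (p ^ 2).Coprime (Nat.card K) := Nat.Coprime.pow_left 2 ((hp.coprime_iff_not_dvd).2 A.core.pK)
    exact hsq (hco.dvd_of_dvd_mul_right h)
  have hsyl : ∀ u : H, orderOf u = p → ∃ g : H, ∃ j : ℕ, g * x * g⁻¹ = u ^ j := by
    intro u hu
    have hc : ∀ w : H, orderOf w = p → ∃ P : Sylow p H, (P : Subgroup H) = zpowers w := by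
      intro w hw
      have h1 : IsPGroup p (zpowers w) := IsPGroup.of_card (n := 1) (by rw [Nat.card_zpowers, hw, pow_one])
      obtain ⟨P, hP⟩ := h1.exists_le_sylow
      refine ⟨P, ?_⟩
      symm
      refine eq_of_le_of_card_ge hP ?_
      obtain ⟨n, hn⟩ := (IsPGroup.iff_card).1 P.2
      rw [Nat.card_zpowers, hw, hn]
      have h2 : n < 2 := by
        by_contra h3
        push Not at h3
        exact hH2 ((pow_dvd_pow p h3).trans (hn ▸ card_subgroup_dvd_card _))
      calc p ^ n ≤ p ^ 1 := Nat.pow_le_pow_right hp.pos (by omega)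
        _ = p := pow_one p
    obtain ⟨P, hP⟩ := hc x hx
    obtain ⟨Q, hQ⟩ := hc u hu
    obtain ⟨g, hg⟩ := MulAction.exists_smul_eq H P Q
    have h1 : g * x * g⁻¹ ∈ zpowers u := by
      rw [← hQ, ← hg]
      show g * x * g⁻¹ ∈ ((g • P : Sylow p H) : Subgroup H)
      rw [Sylow.coe_subgroup_smul]
      exact Subgroup.smul_mem_pointwise_smul x (MulAut.conj g) _ (by rw [hP]; exact mem_zpowers x)
    obtain ⟨j, hj⟩ := mem_powers_iff_mem_zpowers.2 h1
    exact ⟨g, j, hj.symm⟩
  -- the covering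
  have hcov : ∀ v : V, ∃ (q : H ⧸ M) (w : ↥(fx V x)), q.out • (w : V) = v := by
    intro v
    have h1 : p ∣ Nat.card ↥(MulAction.stabilizer H v) := by
      have h2 : p ∣ Nat.card H := by
        have h3 := card_eq_card_quotient_mul_card_subgroup K
        rw [h3]
        exact dvd_mul_of_dvd_left A.core.pS _
      rw [← (MulAction.stabilizer H v).card_mul_index] at h2
      exact ((hp.dvd_mul).1 h2).resolve_right (A.core.P1 v)
    obtain ⟨u, hu⟩ := exists_prime_orderOf_dvd_card' p h1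
    have hu' : orderOf (u : H) = p := by rw [Subgroup.orderOf_coe, hu]
    obtain ⟨g, j, hg⟩ := hsyl u hu'
    have h2 : (g * x * g⁻¹) • v = v := by
      rw [hg]
      exact (MulAction.stabilizer H v).pow_mem u.2 j
    have h3 : g⁻¹ • v ∈ fx V x := by
      show x • (g⁻¹ • v) = g⁻¹ • v
      rw [← mul_smul]
      have h4 := congrArg (g⁻¹ • ·) h2
      simp only [← mul_smul] at h4
      rw [← h4]
      congr 1
      group
    set q : H ⧸ M := (g : H ⧸ M) with hq
    have h4 : q.out⁻¹ * g ∈ M := by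
      have h5 : (q.out : H ⧸ M) = (g : H ⧸ M) := by rw [hq]; exact Quotient.out_eq' _
      exact QuotientGroup.eq.1 h5
    refine ⟨q, ⟨(q.out⁻¹ * g) • (g⁻¹ • v), hMx _ h4 _ h3⟩, ?_⟩
    show q.out • ((q.out⁻¹ * g) • (g⁻¹ • v)) = v
    rw [← mul_smul, ← mul_smul]
    have : q.out * (q.out⁻¹ * g) * g⁻¹ = 1 := by group
    rw [this, one_smul]
  have hsurj : Function.Surjective (fun a : (H ⧸ M) × ↥(fx V x) => a.1.out • (a.2 : V)) := by
    intro v
    obtain ⟨q, w, h⟩ := hcov v
    exact ⟨(q, w), h⟩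
  have := Nat.card_le_card_of_surjective _ hsurj
  rwa [Nat.card_prod, ← index_eq_card] at this

end Cfsg.Agent.H425.RIM.Tool
end

-- part: H257/RIM/EKOf
section
set_option linter.all false
open scoped Cfsg.Agent.FastGrp

/-!
# S4816 (RIM): `EK p S` from `NoPEx p S` for a multiplier of prime order (helper257)
-/

set_option autoImplicit false
set_option linter.unusedSectionVars false

namespace Cfsg.Agent.H257.RIM

open Cfsg Cfsg.Agent.H665.RIM Cfsg.Agent.H229.RIM
open scoped commutatorElement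

universe u

/-- in a perfect group an element all of whose commutators are central is central -/
theorem central_of_comm {H : Type*} [Group H] (hp : commutator H = ⊤) (k : H)
    (hk : ∀ h : H, ⁅k, h⁆ ∈ Subgroup.center H) : k ∈ Subgroup.center H := by
  have hmul : ∀ a b : H, ⁅k, a * b⁆ = ⁅k, a⁆ * ⁅k, b⁆ := by
    intro a b
    have h1 : a * ⁅k, b⁆ = ⁅k, b⁆ * a := Subgroup.mem_center_iff.1 (hk b) a
    have h2 : ⁅k, a * b⁆ = ⁅k, a⁆ * (a * ⁅k, b⁆ * a⁻¹) := by
      simp only [commutatorElement_def]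
      group
    rw [h2, h1, mul_inv_cancel_right]
  let f : H →* H := ⟨⟨fun h => ⁅k, h⁆, commutatorElement_one_right k⟩, hmul⟩
  have h1 : commutator H ≤ f.ker := by
    rw [commutator_def, Subgroup.commutator_le]
    intro a _ b _
    rw [MonoidHom.mem_ker, map_commutatorElement, commutatorElement_eq_one_iff_mul_comm]
    exact (Subgroup.mem_center_iff.1 (hk b) (f a))
  rw [Subgroup.mem_center_iff]
  intro g
  have h2 : g ∈ f.ker := h1 (by rw [hp]; exact Subgroup.mem_top g)
  have h3 : ⁅k, g⁆ = 1 := MonoidHom.mem_ker.1 h2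
  exact (commutatorElement_eq_one_iff_mul_comm.1 h3).symm

/-- `EK p S` from `NoPEx p S` when the order of the multiplier divides a prime -/
theorem ek_of_noPEx {p : ℕ} {S : Type u} [Group S] [Finite S] (hno : NoPEx p S) {q : ℕ} (hq : q.Prime)
    (hM : ∀ (E : Type u) [Group E] [Finite E] (π : E →* S), Function.Surjective π → π.ker ≤ Subgroup.center E →
      commutator E = ⊤ → Nat.card π.ker ∣ q) : EK p S := by
  intro H V _ _ _ _ _ K N φ π h hπ hker hKN
  have hKc : K ≤ Subgroup.center H := fun k hk => central_of_comm h.perf k fun g => h.cen (hKN k hk g)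
  have h1 : Nat.card K ∣ q := by
    rw [← hker]
    exact hM H π hπ (by rw [hker]; exact hKc) h.perf
  have hNK : N = K := by
    have h2 : Nat.card N ∣ Nat.card K := Subgroup.card_dvd_of_le h.NK
    have h3 : Nat.card N ≠ 1 := fun h0 => h.Nne (Subgroup.card_eq_one.1 h0)
    have h4 : Nat.card N = q := (hq.eq_one_or_self_of_dvd _ (h2.trans h1)).resolve_left h3
    refine Subgroup.eq_of_le_of_card_ge h.NK ?_
    rw [h4]
    exact Nat.le_of_dvd hq.pos h1
  let ρ : H →* (AddMonoid.End V)ˣ := (DistribMulAction.toAddMonoidEnd H V).toHomUnits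
  have hle : π.ker ≤ ρ.ker := by
    intro g hg
    rw [hker, ← hNK] at hg
    rw [MonoidHom.mem_ker]
    refine Units.ext (AddMonoidHom.ext fun v => ?_)
    exact (h.ker g).2 hg v
  let ρ' : S →* (AddMonoid.End V)ˣ := π.liftOfSurjective hπ ⟨ρ, hle⟩
  have hρ : ∀ g, ρ' (π g) = ρ g := fun g => MonoidHom.liftOfRightInverse_comp_apply _ _ _ ⟨ρ, hle⟩ g
  letI : DistribMulAction S V := DistribMulAction.compHom V ((Units.coeHom (AddMonoid.End V)).comp ρ')
  have hact : ∀ (g : H) (v : V), π g • v = g • v := by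
    intro g v
    change ((ρ' (π g) : (AddMonoid.End V)ˣ) : AddMonoid.End V) v = g • v
    rw [hρ]
    rfl
  refine hno V h.exp h.nt ?_ ?_ ?_
  · intro s hs
    obtain ⟨g, rfl⟩ := hπ s
    have h5 : g ∈ N := (h.ker g).1 fun v => by rw [← hact]; exact hs v
    rw [hNK, ← hker] at h5
    exact h5
  · intro W hW
    exact h.irr W fun g w hw => by rw [← hact]; exact hW _ w hw
  · intro v hv
    apply h.P1 v
    have h5 : (MulAction.stabilizer S v).comap π = MulAction.stabilizer H v := by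
      ext g
      rw [Subgroup.mem_comap, MulAction.mem_stabilizer_iff, MulAction.mem_stabilizer_iff, hact]
    rw [← h5, Subgroup.index_comap_of_surjective _ hπ]
    exact hv

end Cfsg.Agent.H257.RIM
end

-- part: H337/RIM/A6Char
section
prune_inst 0x6f5307d240ba2120000000502b00062b44000049200608800d9a20e040b03b1220900a8400c800d0a180888082001002006001cb4600000000a840400002507299882160461d1011da6009f80128861000220080000000000000080000004100401c410002
set_option linter.all false
open scoped Cfsg.Agent.FastGrp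

-- part: H337/RIM/A6G
section
/-!
# Perfect central extensions of `A₆` (S4816, box EXC, helper337)

`no_three`: if an automorphism trivial on the center induces the conjugation by a transposition, then `3 ∤ |Z(E)|`.
`not_conj_sq`: the element `(0 1 2 3 4)` is not conjugate to its square.
-/

set_option autoImplicit false

namespace Cfsg.Agent.H337.RIM

open Equiv Equiv.Perm Subgroup Cfsg.Agent.LFourA.AltPsiAut

/-- `(0 1 2)` -/
def ea : alternatingGroup (Fin 6) := ⟨swap (0 : Fin 6) 1 * swap (1 : Fin 6) 2, by rw [Perm.mem_alternatingGroup]; decide⟩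

/-- `(3 4 5)` -/
def eb : alternatingGroup (Fin 6) := ⟨swap (3 : Fin 6) 4 * swap (4 : Fin 6) 5, by rw [Perm.mem_alternatingGroup]; decide⟩

/-- `(0 1 2 3 4)` -/
def e5 : alternatingGroup (Fin 6) :=
  ⟨swap (0 : Fin 6) 1 * swap (1 : Fin 6) 2 * (swap (2 : Fin 6) 3 * swap (3 : Fin 6) 4), by rw [Perm.mem_alternatingGroup]; decide⟩

theorem ea3 : ea ^ 3 = 1 := by decide +kernel

theorem eab : ea * eb = eb * ea := by decide +kernel

theorem sa_inv : (swap (0 : Fin 6) 1 : Perm (Fin 6)) * (ea : Perm (Fin 6)) * (swap (0 : Fin 6) 1)⁻¹ = ((ea⁻¹ : alternatingGroup (Fin 6)) : Perm (Fin 6)) := by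
  decide +kernel

theorem sb_fix : (swap (0 : Fin 6) 1 : Perm (Fin 6)) * (eb : Perm (Fin 6)) * (swap (0 : Fin 6) 1)⁻¹ = (eb : Perm (Fin 6)) := by
  decide +kernel

theorem e5_order : e5 ^ 5 = 1 := by decide +kernel

theorem e5_ne : e5 ≠ 1 := by decide +kernel

theorem conj5 : ∀ σ : Perm (Fin 6), σ * e5 = (e5 ^ 2 : alternatingGroup (Fin 6)) * σ → sign σ = -1 := by
  (set_option synthInstance.maxSize 9000 in open scoped Cfsg.Agent.Lib.FastPerm in decide +kernel)

theorem not_conj_sq : ¬ IsConj e5 (e5 ^ 2) := by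
  intro h
  obtain ⟨g, hg⟩ := isConj_iff.1 h
  have h1 : (g : Perm (Fin 6)) * e5 = ((e5 ^ 2 : alternatingGroup (Fin 6)) : Perm (Fin 6)) * g := by
    rw [← hg]
    simp only [_root_.Subgroup.coe_mul, _root_.InvMemClass.coe_inv, _root_.inv_mul_cancel_right]
  have h2 := conj5 _ h1
  rw [Perm.mem_alternatingGroup.1 g.2] at h2
  exact absurd h2 (by decide)

/-- the elements `a ^ i b ^ j` -/
def fab (x : Fin 3 × Fin 3) : alternatingGroup (Fin 6) := ea ^ (x.1 : ℕ) * eb ^ (x.2 : ℕ)

theorem fab_inj : Function.Injective fab := by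
  have : ∀ x y, fab x = fab y → x = y := by decide +kernel
  exact fun x y => this x y

/-- the subgroup `⟨a, b⟩` of order `9` -/
def P9 : Subgroup (alternatingGroup (Fin 6)) where
  carrier := Set.range fab
  one_mem' := ⟨(0, 0), by decide +kernel⟩
  mul_mem' := by
    have : ∀ x y, fab x * fab y = fab (x.1 + y.1, x.2 + y.2) := by decide +kernel
    rintro _ _ ⟨x, rfl⟩ ⟨y, rfl⟩
    exact ⟨_, (this x y).symm⟩
  inv_mem' := by
    have : ∀ x, (fab x)⁻¹ = fab (-x.1, -x.2) := by decide +kernel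
    rintro _ ⟨x, rfl⟩
    exact ⟨_, (this x).symm⟩

theorem card_P9 : Nat.card P9 = 9 := by
  have h : Nat.card (Set.range fab) = 9 := by
    rw [Nat.card_range_of_injective fab_inj, Nat.card_prod, Nat.card_fin]
  exact h

theorem index_P9 : P9.index = 40 := by
  have h := P9.card_mul_index
  have h6 : Nat.card (alternatingGroup (Fin 6)) = 360 := by
    rw [nat_card_alternatingGroup, Nat.card_fin]
    decide
  rw [card_P9, h6] at h
  omega

theorem no_three {E : Type*} [Group E] [Finite E] (hE : commutator E = ⊤) (π : E →* alternatingGroup (Fin 6))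
    (hπ : Function.Surjective π) (hk : π.ker = center E) (α : MulAut E) (hα : ∀ z ∈ center E, α z = z)
    (hs : ∀ x, (π (α x) : Perm (Fin 6)) = swap (0 : Fin 6) 1 * (π x : Perm (Fin 6)) * (swap (0 : Fin 6) 1)⁻¹) : ¬ 3 ∣ Nat.card (center E) := by
  obtain ⟨A, hA⟩ := hπ ea
  obtain ⟨B, hB⟩ := hπ eb
  have hcen : ∀ z : E, π z = 1 → z ∈ center E := fun z hz => by rw [← hk]; exact hz
  -- the commutator
  have hw : A * B * A⁻¹ * B⁻¹ ∈ center E := by
    apply hcen
    rw [map_mul, map_mul, map_mul, map_inv, map_inv, hA, hB, eab]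
    group
  have hwc := mem_center_iff.1 hw
  obtain ⟨w, hwd⟩ : ∃ w, w = A * B * A⁻¹ * B⁻¹ := ⟨_, rfl⟩
  rw [← hwd] at hw hwc
  have hAB : A * B = w * (B * A) := by rw [hwd]; group
  -- `α A = A⁻¹ z₁`
  have h1 : A * α A ∈ center E := by
    apply hcen
    have h2 : π (α A) = ea⁻¹ := Subtype.ext (by rw [hs, hA, sa_inv])
    rw [map_mul, h2, hA, mul_inv_cancel]
  have h2 : B⁻¹ * α B ∈ center E := by
    apply hcen
    have h3 : π (α B) = eb := Subtype.ext (by rw [hs, hB, sb_fix])
    rw [map_mul, map_inv, h3, hB, inv_mul_cancel]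
  obtain ⟨z1, hz1⟩ : ∃ z, z = A * α A := ⟨_, rfl⟩
  obtain ⟨z2, hz2⟩ : ∃ z, z = B⁻¹ * α B := ⟨_, rfl⟩
  rw [← hz1] at h1
  rw [← hz2] at h2
  have e1 : α A = A⁻¹ * z1 := by rw [hz1]; group
  have e2 : α B = B * z2 := by rw [hz2]; group
  have c1 := mem_center_iff.1 h1
  have c2 := mem_center_iff.1 h2
  have h3 : A⁻¹ * B = w * (B * A⁻¹) := by
    have h4 : α (A * B) = α (w * (B * A)) := by rw [hAB]
    rw [map_mul, map_mul, map_mul, hα w hw, e1, e2] at h4
    have h5 : A⁻¹ * z1 * (B * z2) = A⁻¹ * B * (z1 * z2) := by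
      rw [mul_assoc, ← mul_assoc z1, ← c1 B]; group
    have h6 : w * (B * z2 * (A⁻¹ * z1)) = w * (B * A⁻¹) * (z1 * z2) := by
      have : B * z2 * (A⁻¹ * z1) = B * A⁻¹ * (z1 * z2) := by
        rw [mul_assoc, ← mul_assoc z2, ← c2 A⁻¹, mul_assoc, c1 z2, ← mul_assoc, ← mul_assoc]
      rw [this, mul_assoc w]
    rw [h5, h6] at h4
    exact mul_right_cancel h4
  -- `w ^ 2 = 1`
  have h4 : w * w = 1 := by
    have h5 : B = A * (w * (B * A⁻¹)) := by rw [← h3]; group
    have h6 : A * (w * (B * A⁻¹)) = w * w * B := by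
      calc A * (w * (B * A⁻¹)) = w * (A * B) * A⁻¹ := by
            rw [← mul_assoc, hwc A]; group
        _ = w * w * B := by rw [hAB]; group
    rw [h6] at h5
    exact mul_right_cancel (b := B) (by rw [one_mul]; exact h5.symm)
  -- `w ^ 3 = 1`
  have h5 : w ^ 3 = 1 := by
    have h6 : A ^ 3 ∈ center E := hcen _ (by rw [map_pow, hA, ea3])
    have h7 : A ^ 3 * B = w ^ 3 * (B * A ^ 3) := by
      have s1 : A ^ 2 * B = w ^ 2 * (B * A ^ 2) := by
        calc A ^ 2 * B = A * (A * B) := by rw [pow_two, mul_assoc]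
          _ = A * w * (B * A) := by rw [hAB]; group
          _ = w * (A * B) * A := by rw [hwc A]; group
          _ = w ^ 2 * (B * A ^ 2) := by rw [hAB, pow_two, pow_two]; simp only [mul_assoc]
      have hw2 : A * w ^ 2 = w ^ 2 * A := by
        have := mem_center_iff.1 (pow_mem hw 2) A
        exact this
      calc A ^ 3 * B = A * (A ^ 2 * B) := by rw [pow_succ', mul_assoc]
        _ = A * w ^ 2 * (B * A ^ 2) := by rw [s1, mul_assoc]
        _ = w ^ 2 * (A * B) * A ^ 2 := by rw [hw2]; simp only [mul_assoc]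
        _ = w ^ 3 * (B * A ^ 3) := by rw [hAB, pow_succ w 2, pow_succ' A 2]; simp only [mul_assoc]
    have h8 := mem_center_iff.1 h6 B
    rw [h8] at h7
    exact mul_right_cancel (b := A ^ 3 * B) (by rw [one_mul]; exact h7.symm)
  have hw1 : w = 1 := by
    have : w ^ 3 = w * w * w := by rw [pow_succ, pow_two]
    rw [this, h4, one_mul] at h5
    exact h5
  rw [hw1, one_mul] at hAB
  -- the preimage of `P9` is abelian
  have hform : ∀ x : P9.comap π, ∃ (i j : ℕ) (z : E), z ∈ center E ∧ (x : E) = A ^ i * B ^ j * z := by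
    rintro ⟨x, ⟨y, hy⟩⟩
    refine ⟨y.1, y.2, (A ^ (y.1 : ℕ) * B ^ (y.2 : ℕ))⁻¹ * x, ?_, by group⟩
    apply hcen
    rw [map_mul, map_inv, map_mul, map_pow, map_pow, hA, hB, ← hy]
    exact inv_mul_cancel _
  have hcomm : ∀ x y : P9.comap π, x * y = y * x := by
    intro x y
    obtain ⟨i, j, z, hz, hx⟩ := hform x
    obtain ⟨k, l, z', hz', hy⟩ := hform y
    apply Subtype.ext
    rw [Subgroup.coe_mul, Subgroup.coe_mul, hx, hy]
    have cz : ∀ g : E, Commute g z := fun g => mem_center_iff.1 hz g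
    have cz' : ∀ g : E, Commute g z' := fun g => mem_center_iff.1 hz' g
    have cAB : Commute A B := hAB
    have k1 : Commute (A ^ i * B ^ j) (A ^ k * B ^ l) := by
      refine Commute.mul_left ?_ ?_
      · exact Commute.mul_right ((Commute.refl A).pow_pow i k) (cAB.pow_pow i l)
      · exact Commute.mul_right (cAB.symm.pow_pow j k) ((Commute.refl B).pow_pow j l)
    have k2 : Commute (A ^ i * B ^ j * z) (A ^ k * B ^ l * z') := by
      refine Commute.mul_left (Commute.mul_right k1 (cz' _)) (Commute.mul_right (cz _).symm (cz' _))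
    exact k2
  intro h3d
  have hfact : Fact (Nat.Prime 3) := ⟨Nat.prime_three⟩
  obtain ⟨z, hz⟩ := exists_prime_orderOf_dvd_card' (G := center E) 3 h3d
  letI : CommGroup (P9.comap π) := { (inferInstance : Group (P9.comap π)) with mul_comm := hcomm }
  have hidx : (P9.comap π).index = 40 := by rw [index_comap_of_surjective _ hπ, index_P9]
  have key : ∀ (k : ℕ) (g₀ : E), g₀⁻¹ * (z : E) ^ k * g₀ ∈ P9.comap π → g₀⁻¹ * (z : E) ^ k * g₀ = (z : E) ^ k := by
    intro k g₀ _
    have := mem_center_iff.1 (pow_mem z.2 k) g₀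
    rw [mul_assoc, ← this, inv_mul_cancel_left]
  have ht := MonoidHom.transfer_eq_pow (MonoidHom.id (P9.comap π)) (z : E) key
  have htriv : MonoidHom.transfer (MonoidHom.id (P9.comap π)) (z : E) = 1 := by
    have h1 := Abelianization.commutator_subset_ker (MonoidHom.transfer (MonoidHom.id (P9.comap π)))
    rw [hE] at h1
    exact h1 (mem_top (z : E))
  rw [htriv] at ht
  have h40 : (z : E) ^ 40 = 1 := by
    have := congrArg Subtype.val ht
    simp only [MonoidHom.id_apply] at this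
    rw [← hidx]
    exact this.symm
  have h41 : z ^ 40 = 1 := Subtype.ext h40
  have h42 := orderOf_dvd_of_pow_eq_one h41
  rw [hz] at h42
  norm_num at h42

end Cfsg.Agent.H337.RIM
end

-- part: H337/RIM/A6Char
section
/-!
# The faithful characters of `6.A₆` (S4816, box EXC, helper337)

`card_dvd`: for a perfect group the order of the center divides the degree of a character faithful on the center.
`four_le`: `E` perfect, `E ⧸ Z(E) ≅ A₆`, `6 ∣ |Z(E)|`: there are at least four characters over a faithful `c`.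
-/

set_option autoImplicit false

namespace Cfsg.Agent.H337.RIM

open Cfsg Subgroup Cfsg.Agent.H622.Over

universe u

variable {E : Type u} [Group E]

theorem pow_charDegree (hE : commutator E = ⊤) {c : center E →* ℂˣ} {χ : E → ℂ} (hχ : IsIrrCharacter E χ)
    (hl : Lies (center E) c χ) (z : center E) : (c z : ℂ) ^ charDegree χ = 1 := by
  obtain ⟨n, ρ, hρ, rfl⟩ := hχ
  obtain ⟨c', hc'⟩ := CharactersDeep.Extraspecial.exists_central_hom_rep ρ hρ
  have h1 : ρ.character 1 = (n : ℂ) := by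
    rw [Representation.char_one, Module.finrank_fin_fun]
  have hn : charDegree ρ.character = n := Blocks.Basic.charDegree_of_eq h1
  have h0 : ρ.character 1 ≠ 0 := Characters.Core.isIrr_apply_one_ne_zero ⟨n, ρ, hρ, rfl⟩
  have h2 : (c z : ℂ) = c' z := by
    have h3 := hl 1 z
    have h4 : ρ.character (1 * (z : E)) = ρ.character 1 * c' z := by
      rw [one_mul]
      change LinearMap.trace ℂ _ (ρ z) = LinearMap.trace ℂ _ (ρ 1) * c' z
      rw [hc' z, map_smul, map_one, smul_eq_mul, mul_comm]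
      rfl
    rw [h4] at h3
    exact (mul_left_cancel₀ h0 h3).symm
  have h5 : LinearMap.det (ρ (z : E)) = 1 := by
    have h6 := Abelianization.commutator_subset_ker (MonoidHom.toHomUnits (LinearMap.det.comp ρ))
    rw [hE] at h6
    have h7 := h6 (mem_top (z : E))
    rw [MonoidHom.mem_ker] at h7
    exact congrArg Units.val h7
  rw [hc' z, LinearMap.det_smul, LinearMap.det_id, mul_one, Module.finrank_fin_fun] at h5
  rw [hn, h2]
  exact h5

theorem card_dvd [Finite E] (hE : commutator E = ⊤) {c : center E →* ℂˣ} (hc : Function.Injective c) {χ : E → ℂ}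
    (hχ : IsIrrCharacter E χ) (hl : Lies (center E) c χ) : Nat.card (center E) ∣ charDegree χ := by
  have hcyc : IsCyclic (center E) := by
    refine isCyclic_of_injective_ringHom ((Units.coeHom ℂ).comp c) ?_
    intro x y h
    exact hc (Units.ext h)
  obtain ⟨z, hz⟩ := IsCyclic.exists_ofOrder_eq_natCard (α := center E)
  rw [← hz]
  apply orderOf_dvd_of_pow_eq_one
  apply hc
  rw [map_pow, map_one]
  apply Units.ext
  rw [Units.val_pow_eq_pow_val, Units.val_one]
  exact pow_charDegree hE hχ hl z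

theorem four_le [Finite E] (hE : commutator E = ⊤) (q : (E ⧸ center E) ≃* alternatingGroup (Fin 6))
    (h6 : 6 ∣ Nat.card (center E)) {c : center E →* ℂˣ} (hc : Function.Injective c) :
    4 ≤ Nat.card {χ : IrrCharacter E // Lies (center E) c (χ : E → ℂ)} := by
  classical
  have := Characters.Core.finite_irr (G := E)
  have := Fintype.ofFinite (IrrCharacter E)
  have hq : Nat.card (E ⧸ center E) = 360 := by
    rw [Nat.card_congr q.toEquiv, nat_card_alternatingGroup, Nat.card_fin]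
    decide
  have hsum := H382.RIM.sum_deg_over (le_refl (center E)) c
  have hcard := card_eq_card_quotient_mul_card_subgroup (center E)
  rw [hq] at hcard
  have hpos : 0 < Nat.card (center E) := Nat.card_pos
  obtain ⟨k, hk⟩ : ∃ k, Nat.card (center E) = k := ⟨_, rfl⟩
  rw [hcard, hk, mul_comm 360 k] at hsum
  rw [hk] at hpos h6
  have hs : ∑ χ ∈ H382.RIM.ov (center E) c, charDegree (χ : E → ℂ) ^ 2 = 360 := Nat.eq_of_mul_eq_mul_left hpos hsum
  have hdv : ∀ χ ∈ H382.RIM.ov (center E) c, k ∣ charDegree (χ : E → ℂ) := by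
    intro χ hχ
    rw [← hk]
    exact card_dvd hE hc χ.2 (H382.RIM.mem_ov.1 hχ)
  -- `k = 6`
  have hk6 : k = 6 := by
    obtain ⟨m, rfl⟩ := h6
    have h1 : (6 * m) ^ 2 ∣ 360 := by
      rw [← hs]
      exact Finset.dvd_sum fun χ hχ => pow_dvd_pow_of_dvd (hdv χ hχ) 2
    have h2 : m ≤ 3 := by
      have := Nat.le_of_dvd (by norm_num) h1
      nlinarith only [this]
    interval_cases m
    · simp at h1
    · rfl
    · norm_num at h1
    · norm_num at h1
  -- at least three
  have h3 : 3 ≤ (H382.RIM.ov (center E) c).card := by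
    rw [← H382.RIM.card_ov]
    set x : E ⧸ center E := q.symm e5 with hx
    have hqx : q x = e5 := q.apply_symm_apply e5
    have hx5 : orderOf x = 5 := by
      have hf : Fact (Nat.Prime 5) := ⟨by norm_num⟩
      rw [hx, MulEquiv.orderOf_eq]
      exact orderOf_eq_prime e5_order e5_ne
    have hx2 : orderOf (x ^ 2) = 5 := by
      rw [orderOf_pow, hx5]
      rfl
    have hn1 : ConjClasses.mk (1 : E ⧸ center E) ≠ ConjClasses.mk x := by
      intro h
      have h := ConjClasses.mk_eq_mk_iff_isConj.1 h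
      have h2 := isConj_one_right.1 h.symm.symm
      rw [h2, orderOf_one] at hx5
      norm_num at hx5
    have hn2 : ConjClasses.mk (1 : E ⧸ center E) ≠ ConjClasses.mk (x ^ 2) := by
      intro h
      have h := ConjClasses.mk_eq_mk_iff_isConj.1 h
      have h2 := isConj_one_right.1 h.symm.symm
      rw [h2, orderOf_one] at hx2
      norm_num at hx2
    have hn3 : ConjClasses.mk x ≠ ConjClasses.mk (x ^ 2) := by
      intro h
      have h := ConjClasses.mk_eq_mk_iff_isConj.1 h
      obtain ⟨g, hg⟩ := isConj_iff.1 h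
      refine not_conj_sq (isConj_iff.2 ⟨q g, ?_⟩)
      rw [← hqx, ← map_pow, ← hg, map_mul, map_mul, map_inv]
    have hF := H849.RIM.card_good_ge (le_refl (center E)) c {ConjClasses.mk 1, ConjClasses.mk x, ConjClasses.mk (x ^ 2)}
      (by
        intro C hC
        simp only [Finset.mem_insert, Finset.mem_singleton] at hC
        rw [hk, hk6]
        rcases hC with rfl | rfl | rfl
        · exact ⟨1, rfl, by rw [orderOf_one]; exact Nat.coprime_one_left _⟩
        · exact ⟨x, rfl, by rw [hx5]; decide⟩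
        · exact ⟨x ^ 2, rfl, by rw [hx2]; decide⟩)
    rw [Finset.card_eq_three.2 ⟨_, _, _, hn1, hn2, hn3, rfl⟩] at hF
    exact hF
  rw [H382.RIM.card_ov]
  by_contra h4
  have h5 : (H382.RIM.ov (center E) c).card = 3 := by omega
  obtain ⟨χ₁, χ₂, χ₃, h12, h13, h23, he⟩ := Finset.card_eq_three.1 h5
  rw [he] at hs hdv
  have d1 := hdv χ₁ (by simp)
  have d2 := hdv χ₂ (by simp)
  have d3 := hdv χ₃ (by simp)
  rw [Finset.sum_insert (by simp [h12, h13]), Finset.sum_insert (by simp [h23]), Finset.sum_singleton] at hs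
  have p1 := Blocks.Basic.charDegree_pos χ₁.2
  have p2 := Blocks.Basic.charDegree_pos χ₂.2
  have p3 := Blocks.Basic.charDegree_pos χ₃.2
  rw [hk6] at d1 d2 d3
  obtain ⟨a, ha⟩ := d1
  obtain ⟨b, hb⟩ := d2
  obtain ⟨d, hd⟩ := d3
  rw [ha] at p1 hs
  rw [hb] at p2 hs
  rw [hd] at p3 hs
  have hs' : a ^ 2 + b ^ 2 + d ^ 2 = 10 := by linarith only [hs]
  have ha3 : a ≤ 3 := by nlinarith only [hs]
  have hb3 : b ≤ 3 := by nlinarith only [hs]
  have hd3 : d ≤ 3 := by nlinarith only [hs]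
  interval_cases a <;> interval_cases b <;> interval_cases d <;> (clear * - p1 p2 p3 hs; omega)

end Cfsg.Agent.H337.RIM
end
end

-- part: H916/RIM/Cnt
section
prune_inst 0x220080000000000000080000000000001c410002
set_option linter.all false
open scoped Cfsg.Agent.FastGrp

/-!
# S4816: counting tools with an abstract number of characters (helper916, after helper849)

* `card_ge` : lower bound for the number of characters over `c` by a list of good elements;
* `exists_dz_quot_c`, `exists_dvd_quot_c` : the tools of helper849 with the number of characters over `c` as hypothesis;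
* `nb_dz`, `nb_col` : `NB p m S` from lists of good elements in every cover.
-/

set_option autoImplicit false
set_option linter.unusedSectionVars false

namespace Cfsg.Agent.H916.RIM

open Cfsg Subgroup Finset
open Cfsg.Agent.Characters.Core
open Cfsg.Agent.SmallSimple.ThetaSetup Cfsg.Agent.SmallSimple.ThetaOrtho Cfsg.Agent.SmallSimple.ThetaCount
open Cfsg.Agent.SmallSimple.TheoremC Cfsg.Agent.SmallSimple.TheoremCCor
open Cfsg.Agent.SmallSimple.SingularCount
open Cfsg.Agent.H622.Over Cfsg.Agent.H849.RIM Cfsg.Agent.H665.RIM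
open scoped ComplexConjugate commutatorElement

universe u

section

variable {G : Type u} [Group G] [Finite G] {p : ℕ} [Fact p.Prime] {P : Sylow p G} {K : Subgroup G}

theorem exists_dz_c (hK : IsComp p (P : Subgroup G) K) (hP : Nat.card P = p) {Z : Subgroup G} [Z.Normal]
    (hZ : Z ≤ center G) (hZK : Z ≤ K) (c : Z →* ℂˣ) {w : ℕ}
    (hw : (centralizer ((P : Subgroup G) : Set G)).relIndex (normalizer ((P : Subgroup G) : Set G)) = w)
    (A : Finset (IrrCharacter K)) (hA : ∀ θ : IrrCharacter K, LiesK Z c K (θ : K → ℂ) → θ ∈ A)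
    {n : ℕ} (hn : n ≤ Nat.card {χ : IrrCharacter G // Lies Z c (χ : G → ℂ)})
    (hlt : ∑ θ ∈ A, (Nat.card (stabAct hK (θ : K → ℂ)) ^ 2 + (p - 1)) < w * n) :
    ∃ χ : IrrCharacter G, Lies Z c (χ : G → ℂ) ∧ ∀ g : G, p ∣ orderOf g → (χ : G → ℂ) g = 0 := by
  classical
  by_contra hcon
  push Not at hcon
  have := finite_irr (G := G)
  have := Fintype.ofFinite (IrrCharacter G)
  have h1 := card_mul_le hK hP hZ hZK hw A hA (Finset.univ.filter fun χ : IrrCharacter G => Lies Z c (χ : G → ℂ))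
    (fun χ hχ => ⟨(mem_filter.1 hχ).2, by
      obtain ⟨g, hg, hne⟩ := hcon χ (mem_filter.1 hχ).2
      exact ⟨g, hg, hne⟩⟩)
  rw [Nat.card_eq_fintype_card, Fintype.card_subtype] at hn
  have h3 := Nat.mul_le_mul_left w hn
  omega

end

section quot

variable {G : Type u} [Group G] [Finite G] {p : ℕ} [Fact p.Prime]

theorem exists_dz_quot_c {Z : Subgroup G} [Z.Normal] (hZ : Z ≤ center G) (hZp : ¬ p ∣ Nat.card Z)
    (hsq : ¬ p ^ 2 ∣ Nat.card (G ⧸ Z)) {y : G ⧸ Z} (hy : orderOf y = p) {k w : ℕ}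
    (hC : Nat.card (centralizer ({y} : Set (G ⧸ Z))) = p * k)
    (hN : Nat.card (normalizer ((zpowers y : Subgroup (G ⧸ Z)) : Set (G ⧸ Z))) = w * (p * k)) (c : Z →* ℂˣ)
    {n : ℕ} (hn : n ≤ Nat.card {χ : IrrCharacter G // Lies Z c (χ : G → ℂ)})
    (hlt : k * (w ^ 2 + (p - 1)) < w * n) :
    ∃ χ : IrrCharacter G, Lies Z c (χ : G → ℂ) ∧ p ∣ charDegree (χ : G → ℂ) := by
  classical
  have hp : p.Prime := Fact.out
  have hfin : Finite (IrrCharacter G) := finite_irr
  obtain ⟨u, rfl, hu⟩ := exists_lift hZp hy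
  -- the Sylow subgroup
  have hcG := card_eq_card_quotient_mul_card_subgroup Z
  have hG2 : ¬ p ^ 2 ∣ Nat.card G := by
    rw [hcG]
    intro h
    have hco : (p ^ 2).Coprime (Nat.card Z) := Nat.Coprime.pow_left 2 ((hp.coprime_iff_not_dvd).2 hZp)
    exact hsq (hco.dvd_of_dvd_mul_right h)
  have hzp : IsPGroup p (zpowers u) := IsPGroup.of_card (n := 1) (by rw [Nat.card_zpowers, hu, pow_one])
  obtain ⟨P, hPle⟩ := hzp.exists_le_sylow
  have hP : Nat.card P = p := by
    obtain ⟨n, hn⟩ := (IsPGroup.iff_card).1 P.2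
    have h1 : Nat.card P ∣ Nat.card G := card_subgroup_dvd_card _
    have h2 : n < 2 := by
      by_contra h3
      push Not at h3
      exact hG2 ((pow_dvd_pow p h3).trans (hn ▸ h1))
    have h3 : p ∣ Nat.card P := by
      have := card_dvd_of_le hPle
      rwa [Nat.card_zpowers, hu] at this
    interval_cases n
    · rw [hn, pow_zero, Nat.dvd_one] at h3
      exact absurd h3 hp.one_lt.ne'
    · rw [hn, pow_one]
  have hPz : (P : Subgroup G) = zpowers u := by
    symm
    refine eq_of_le_of_card_ge hPle ?_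
    rw [Nat.card_zpowers, hu]
    exact hP.le
  obtain ⟨K, hK⟩ := exists_isComp P hP
  have huP : u ∈ (P : Subgroup G) := hPle (mem_zpowers u)
  have hu1 : u ≠ 1 := by
    rintro rfl
    rw [orderOf_one] at hu
    exact hp.one_lt.ne hu
  have hCP : centralizer ((P : Subgroup G) : Set G) = centralizer ({u} : Set G) :=
    (Blocks.CyclicOrtho.centralizer_eq P hP huP hu1).symm
  -- the centralizer
  have hcent : centralizer ((P : Subgroup G) : Set G) =
      (centralizer ({(u : G ⧸ Z)} : Set (G ⧸ Z))).comap (QuotientGroup.mk' Z) := by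
    rw [hCP]
    ext x
    rw [mem_centralizer_singleton_iff, mem_comap, mem_centralizer_singleton_iff]
    constructor
    · intro h
      have := congrArg (QuotientGroup.mk' Z) h
      simpa using this
    · intro h
      have h1 : (x : G ⧸ Z) * u * (x : G ⧸ Z)⁻¹ = (u : G ⧸ Z) ^ 1 := by
        have h2 : (x : G ⧸ Z) * u = u * x := h
        rw [h2, mul_inv_cancel_right, pow_one]
      have h2 := comm_of_comm hZ hZp hu h1
      rw [pow_one, mul_inv_eq_iff_eq_mul] at h2
      exact h2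
  have hnorm : normalizer ((P : Subgroup G) : Set G) =
      (normalizer ((zpowers (u : G ⧸ Z) : Subgroup (G ⧸ Z)) : Set (G ⧸ Z))).comap (QuotientGroup.mk' Z) := by
    have hPm : (P : Subgroup G).map (QuotientGroup.mk' Z) = zpowers (u : G ⧸ Z) := by
      rw [hPz, MonoidHom.map_zpowers]
      rfl
    apply le_antisymm
    · intro x hx
      rw [mem_comap, ← hPm]
      exact Subgroup.le_normalizer_map _ (mem_map_of_mem _ hx)
    · intro x hx
      rw [mem_comap] at hx
      have h1 : (x : G ⧸ Z) * u * (x : G ⧸ Z)⁻¹ ∈ zpowers (u : G ⧸ Z) :=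
        (mem_normalizer_iff.1 hx (u : G ⧸ Z)).1 (mem_zpowers _)
      obtain ⟨j, hj⟩ := mem_powers_iff_mem_zpowers.2 h1
      have h2 := comm_of_comm hZ hZp hu (x := x) (j := j) hj.symm
      refine mem_normalizer_fintype fun n hn => ?_
      have hn' : n ∈ zpowers u := by rw [← hPz]; exact hn
      obtain ⟨i, rfl⟩ := mem_powers_iff_mem_zpowers.2 hn'
      show x * u ^ i * x⁻¹ ∈ (P : Subgroup G)
      rw [← conj_pow, h2, hPz]
      exact pow_mem (pow_mem (mem_zpowers u) j) i
  have hcC : Nat.card (centralizer ((P : Subgroup G) : Set G)) = p * k * Nat.card Z := by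
    rw [hcent, card_comap, hC]
  have hcN : Nat.card (normalizer ((P : Subgroup G) : Set G)) = w * (p * k) * Nat.card Z := by
    rw [hnorm, card_comap, hN]
  have hcK : Nat.card K = k * Nat.card Z := by
    have h1 : Nat.card P * Nat.card K = Nat.card (centralizer ((P : Subgroup G) : Set G)) := by
      rw [← Nat.card_prod]
      exact Nat.card_congr (prodEquiv hK hP).toEquiv
    rw [hP, hcC, mul_assoc] at h1
    exact Nat.eq_of_mul_eq_mul_left hp.pos h1
  have hZK : Z ≤ K := by
    intro z hz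
    rw [hK]
    refine ⟨?_, fun h => hZp ?_⟩
    · rw [mem_centralizer_iff]
      intro g _
      exact mem_center_iff.1 (hZ hz) g
    · have h1 := _root_.orderOf_dvd_natCard (⟨z, hz⟩ : Z)
      rw [← orderOf_submonoid] at h1
      exact h.trans h1
  have hk0 : 0 < k := by
    rcases Nat.eq_zero_or_pos k with h | h
    · rw [h, zero_mul] at hcK
      exact absurd hcK Nat.card_pos.ne'
    · exact h
  have hw : (centralizer ((P : Subgroup G) : Set G)).relIndex (normalizer ((P : Subgroup G) : Set G)) = w := by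
    have h1 : centralizer ((P : Subgroup G) : Set G) ≤ normalizer ((P : Subgroup G) : Set G) :=
      centralizer_le_normalizer _
    have h2 := Subgroup.card_mul_index ((centralizer ((P : Subgroup G) : Set G)).subgroupOf
      (normalizer ((P : Subgroup G) : Set G)))
    rw [Nat.card_congr (subgroupOfEquivOfLe h1).toEquiv, hcC, hcN] at h2
    have h3 : 0 < p * k * Nat.card Z := Nat.mul_pos (Nat.mul_pos hp.pos hk0) Nat.card_pos
    rw [Subgroup.relIndex]
    apply Nat.eq_of_mul_eq_mul_left h3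
    rw [h2]
    ring
  have hfK : Finite (IrrCharacter K) := finite_irr
  have := Fintype.ofFinite (IrrCharacter K)
  set A : Finset (IrrCharacter K) := univ.filter fun θ => LiesK Z c K (θ : K → ℂ) with hA
  have hAk : A.card ≤ k := card_liesK_le hZ hZK c hcK A fun θ hθ => (mem_filter.1 hθ).2
  have hsum : ∑ θ ∈ A, (Nat.card (stabAct hK (θ : K → ℂ)) ^ 2 + (p - 1)) ≤ k * (w ^ 2 + (p - 1)) := by
    have hw0 : 0 < w := by
      rcases Nat.eq_zero_or_pos w with h | h
      · rw [h, zero_mul, zero_mul] at hcN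
        exact absurd hcN Nat.card_pos.ne'
      · exact h
    calc ∑ θ ∈ A, (Nat.card (stabAct hK (θ : K → ℂ)) ^ 2 + (p - 1)) ≤ ∑ _θ ∈ A, (w ^ 2 + (p - 1)) := by
          refine Finset.sum_le_sum fun θ _ => Nat.add_le_add_right (Nat.pow_le_pow_left ?_ 2) _
          have h1 := card_stabAct_mul_card_orb hK hP θ.2
          rw [hw] at h1
          exact Nat.le_of_dvd hw0 (h1 ▸ dvd_mul_right _ _)
      _ = A.card * (w ^ 2 + (p - 1)) := by rw [Finset.sum_const, smul_eq_mul]
      _ ≤ k * (w ^ 2 + (p - 1)) := Nat.mul_le_mul_right _ hAk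
  obtain ⟨χ, hl, h0⟩ := exists_dz_c hK hP hZ hZK c hw A (fun θ hθ => mem_filter.2 ⟨mem_univ _, hθ⟩) hn
    (lt_of_le_of_lt hsum hlt)
  refine ⟨χ, hl, ?_⟩
  obtain ⟨d, hd⟩ := exists_degree_eq (P : Subgroup G) (isIrr_isCharacter χ.2) fun x hx hx1 => h0 x (by
    rw [Blocks.CyclicOrtho.orderOf_eq P hP hx hx1])
  rw [hP] at hd
  refine ⟨d, ?_⟩
  have h1 : ((charDegree (χ : G → ℂ) : ℕ) : ℂ) = ((p * d : ℕ) : ℂ) := by
    obtain ⟨n, hn⟩ := isCharacter_apply_one (isIrr_isCharacter χ.2)
    unfold charDegree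
    rw [hn, Complex.natCast_re, Nat.floor_natCast, ← hn, hd]
    push_cast
    ring
  exact_mod_cast h1

theorem exists_dvd_quot_c {p : ℕ} [Fact p.Prime] {Z : Subgroup G} [Z.Normal] (hZ : Z ≤ center G) (hZp : ¬ p ∣ Nat.card Z)
    {y : G ⧸ Z} {n : ℕ} (hy : orderOf y = p ^ n) (c : Z →* ℂˣ)
    {N : ℕ} (hN : N ≤ Nat.card {χ : IrrCharacter G // Lies Z c (χ : G → ℂ)})
    (hlt : Nat.card (centralizer ({y} : Set (G ⧸ Z))) < N) :
    ∃ χ : IrrCharacter G, Lies Z c (χ : G → ℂ) ∧ p ∣ charDegree (χ : G → ℂ) := by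
  classical
  have hp : p.Prime := Fact.out
  have hco : (p ^ n).Coprime (Nat.card Z) := Nat.Coprime.pow_left n ((hp.coprime_iff_not_dvd).2 hZp)
  -- the lift
  obtain ⟨u, rfl, hu⟩ : ∃ u : G, (u : G ⧸ Z) = y ∧ u ^ (p ^ n) = 1 := by
    obtain ⟨g, rfl⟩ := QuotientGroup.mk_surjective y
    obtain ⟨a, ha⟩ := (Nat.modEq_and_modEq_iff_modEq_mul hco).2 rfl |> fun _ : (0 : ℕ) ≡ 0 [MOD p ^ n] ∧ _ =>
      (⟨Nat.chineseRemainder hco 1 0, (Nat.chineseRemainder hco 1 0).2⟩ : ∃ a, a ≡ 1 [MOD p ^ n] ∧ a ≡ 0 [MOD Nat.card Z])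
    refine ⟨g ^ a, ?_, ?_⟩
    · rw [QuotientGroup.mk_pow]
      have h1 : (g : G ⧸ Z) ^ a = (g : G ⧸ Z) ^ 1 := pow_eq_pow_iff_modEq.2 (by rw [hy]; exact ha.1)
      rw [h1, pow_one]
    · have h1 : g ^ (p ^ n) ∈ Z := by
        rw [← QuotientGroup.eq_one_iff, QuotientGroup.mk_pow, ← hy]
        exact pow_orderOf_eq_one _
      have h2 : (g ^ (p ^ n)) ^ Nat.card Z = 1 := by
        have h3 := pow_card_eq_one' (G := Z) (x := ⟨g ^ (p ^ n), h1⟩)
        exact congrArg Subtype.val h3
      obtain ⟨b, hb⟩ := (Nat.modEq_zero_iff_dvd).1 ha.2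
      calc (g ^ a) ^ (p ^ n) = ((g ^ (p ^ n)) ^ Nat.card Z) ^ b := by
            rw [hb, ← pow_mul, ← pow_mul, ← pow_mul]; ring_nf
        _ = 1 := by rw [h2, one_pow]
  have hou : orderOf u ∣ p ^ n := orderOf_dvd_of_pow_eq_one hu
  have hw : (orderOf u).Coprime (Nat.card Z) := hco.coprime_dvd_left hou
  -- the centralizer
  have hcent : centralizer ({u} : Set G) =
      (centralizer ({(u : G ⧸ Z)} : Set (G ⧸ Z))).comap (QuotientGroup.mk' Z) := by
    ext x
    rw [mem_centralizer_singleton_iff, mem_comap, mem_centralizer_singleton_iff]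
    constructor
    · intro h
      have := congrArg (QuotientGroup.mk' Z) h
      simpa using this
    · intro h
      have h2 : (x : G ⧸ Z) * u = u * x := h
      have h3 : u⁻¹ * (x * u * x⁻¹) ∈ Z := by
        rw [← QuotientGroup.eq_one_iff, QuotientGroup.mk_mul, QuotientGroup.mk_inv, QuotientGroup.mk_mul,
          QuotientGroup.mk_mul, QuotientGroup.mk_inv, h2, mul_inv_cancel_right, inv_mul_cancel]
      have h4 : IsConj u (u * ((⟨_, h3⟩ : Z) : G)) := by
        rw [isConj_iff]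
        exact ⟨x, by simp⟩
      have h5 := congrArg Subtype.val (eq_one_of_conj hZ hw _ h4)
      have h6 : u⁻¹ * (x * u * x⁻¹) = 1 := h5
      rw [inv_mul_eq_one] at h6
      rw [eq_comm, mul_inv_eq_iff_eq_mul] at h6
      exact h6
  obtain ⟨χ, hl, h0⟩ := exists_zero_over hZ c hw (by
    rw [hcent, card_comap, mul_comm]
    refine Nat.mul_lt_mul_of_pos_left (lt_of_lt_of_le hlt (hN)) Nat.card_pos)
  refine ⟨χ, hl, ?_⟩
  obtain ⟨M, hM⟩ := Blocks.ExistsModular.exists_isPModular hp
  have hMp : M.IsPrime := hM.2.1.isPrime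
  have h1 := H849.OZ.av_sub_mem (χ := χ) hp hMp hM.2.2 u (j := 0) (n := n) (by rw [pow_zero, one_pow, hu])
  have h3 : H732.VZ.av χ u = 0 := Subtype.ext h0
  rw [h3, pow_zero, zero_sub, Ideal.neg_mem_iff] at h1
  have h4 : H732.VZ.av χ 1 = ((charDegree (χ : G → ℂ) : ℤ) : AlgInt) := by
    apply Subtype.ext
    rw [H732.VZ.av_coe, ← H686.CharKit.charDegree_irr χ]
    simp
  rw [h4, H732.VZ.int_mem_iff hp hMp hM.2.2] at h1
  exact_mod_cast h1

/-- Lower bound for the number of characters over `c`: good elements. -/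
theorem card_ge {Z : Subgroup G} [Z.Normal] (hZ : Z ≤ center G) (c : Z →* ℂˣ) {n : ℕ} (g : Fin n → G)
    (hg : ∀ i y, ⁅g i, y⁆ ∈ Z → ⁅g i, y⁆ = 1)
    (hnc : ∀ i j, IsConj (g i : G ⧸ Z) (g j : G ⧸ Z) → i = j) :
    n ≤ Nat.card {χ : IrrCharacter G // Lies Z c (χ : G → ℂ)} := by
  classical
  rw [card_over hZ c, card_good hZ c]
  have hgood : ∀ i, Good Z c (g i) := by
    intro i x hx
    have h1 : x⁻¹ * (g i)⁻¹ * x * g i = (g i)⁻¹ * (x⁻¹ * (g i * x * (g i)⁻¹ * x⁻¹)⁻¹ * x) * g i := by group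
    have h2 : ⁅g i, x⁆ ∈ Z := by
      have h3 : ⁅g i, x⁆ = (x * (g i * (x⁻¹ * (g i)⁻¹ * x * g i) * (g i)⁻¹) * x⁻¹)⁻¹ := by
        rw [commutatorElement_def]; group
      rw [h3]
      refine Z.inv_mem ?_
      exact ‹Z.Normal›.conj_mem _ (‹Z.Normal›.conj_mem _ hx _) _
    have h4 := hg i x h2
    have h5 : x⁻¹ * (g i)⁻¹ * x * g i = 1 := by
      rw [h1]
      rw [commutatorElement_def] at h4
      rw [h4]
      group
    have h6 : (⟨x⁻¹ * (g i)⁻¹ * x * g i, hx⟩ : Z) = 1 := Subtype.ext h5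
    rw [h6, map_one]
  let f : Fin n → {C : ConjClasses (G ⧸ Z) // ∃ g : G, ConjClasses.mk (g : G ⧸ Z) = C ∧ Good Z c g} :=
    fun i => ⟨ConjClasses.mk (g i : G ⧸ Z), g i, rfl, hgood i⟩
  have hf : Function.Injective f := by
    intro i j h
    exact hnc i j (ConjClasses.mk_eq_mk_iff_isConj.1 (congrArg Subtype.val h))
  have : Finite (ConjClasses (G ⧸ Z)) := Finite.of_surjective _ (ConjClasses.mk_surjective (α := G ⧸ Z))
  have h1 := Nat.card_le_card_of_injective f hf
  rwa [Nat.card_fin] at h1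

end quot

/-- `n` elements with good lifts and pairwise not conjugate images in `S`. -/
def GoodList {E S : Type*} [Group E] [Group S] (π : E →* S) (n : ℕ) : Prop :=
  ∃ g : Fin n → E, (∀ i y, ⁅g i, y⁆ ∈ π.ker → ⁅g i, y⁆ = 1) ∧ ∀ i j, IsConj (π (g i)) (π (g j)) → i = j

theorem card_ge_of_list {E S : Type u} [Group E] [Finite E] [Group S] {π : E →* S}
    (hc : π.ker ≤ center E) {n : ℕ} (h : GoodList π n) (c : π.ker →* ℂˣ) :
    n ≤ Nat.card {χ : IrrCharacter E // Lies π.ker c (χ : E → ℂ)} := by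
  obtain ⟨g, hg, hnc⟩ := h
  refine card_ge hc c g hg fun i j hij => hnc i j ?_
  obtain ⟨x, hx⟩ := isConj_iff.1 hij
  obtain ⟨x, rfl⟩ := QuotientGroup.mk_surjective x
  refine isConj_iff.2 ⟨π x, ?_⟩
  rw [← map_inv, ← map_mul, ← map_mul]
  have h1 : ((x * g i * x⁻¹ : E) : E ⧸ π.ker) = (g j : E ⧸ π.ker) := hx
  rw [QuotientGroup.eq] at h1
  have h2 : π ((x * g i * x⁻¹)⁻¹ * g j) = 1 := h1
  rw [map_mul, map_inv] at h2
  exact (inv_mul_eq_one.1 h2)

/-- **Defect zero count**, `C_S(y) = ⟨y⟩` of order `p`. -/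
theorem nb_dz {p m n w : ℕ} (hp : p.Prime) (hpm : ¬ p ∣ m) {S : Type u} [Group S]
    (hsq : ¬ p ^ 2 ∣ Nat.card S) {y : S} (hy : orderOf y = p)
    (hC : Nat.card (centralizer ({y} : Set S)) = p)
    (hN : Nat.card (normalizer ((zpowers y : Subgroup S) : Set S)) = w * p)
    (hgood : ∀ (E : Type u) [Group E] [Finite E] (π : E →* S), Function.Surjective π → π.ker ≤ center E →
      commutator E = ⊤ → Nat.card π.ker = m → GoodList π n)
    (hlt : w ^ 2 + (p - 1) < w * n) : NB p m S := by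
  have : Fact p.Prime := ⟨hp⟩
  intro E _ _ π hπ hker hperf hcard l _
  let e : (E ⧸ π.ker) ≃* S := QuotientGroup.quotientKerEquivOfSurjective π hπ
  have hn := card_ge_of_list hker (hgood E π hπ hker hperf hcard) l
  obtain ⟨χ, hχ, hd⟩ := exists_dz_quot_c hker (hcard ▸ hpm) (by rwa [Nat.card_congr e.toEquiv]) (y := e.symm y)
    (k := 1) (w := w) (by rw [← hy]; exact orderOf_injective e.symm.toMonoidHom e.symm.injective y)
    (by rw [H620.RIM.card_centralizer_congr e.symm y, hC, mul_one])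
    (by rw [H620.RIM.card_normalizer_congr e.symm y, hN, mul_one]) l hn (by rw [one_mul]; exact hlt)
  refine ⟨χ, χ.2, fun z => ?_, hd⟩
  have h1 := hχ 1 z
  rwa [one_mul] at h1

/-- **Column count.** -/
theorem nb_col {p m n k : ℕ} (hp : p.Prime) (hpm : ¬ p ∣ m) {S : Type u} [Group S] {y : S} (hy : orderOf y = p ^ k)
    (hgood : ∀ (E : Type u) [Group E] [Finite E] (π : E →* S), Function.Surjective π → π.ker ≤ center E →
      commutator E = ⊤ → Nat.card π.ker = m → GoodList π n)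
    (hlt : Nat.card (centralizer ({y} : Set S)) < n) : NB p m S := by
  have : Fact p.Prime := ⟨hp⟩
  intro E _ _ π hπ hker hperf hcard l _
  let e : (E ⧸ π.ker) ≃* S := QuotientGroup.quotientKerEquivOfSurjective π hπ
  have hn := card_ge_of_list hker (hgood E π hπ hker hperf hcard) l
  obtain ⟨χ, hχ, hd⟩ := exists_dvd_quot_c hker (hcard ▸ hpm) (y := e.symm y) (n := k)
    (by rw [← hy]; exact orderOf_injective e.symm.toMonoidHom e.symm.injective y) l hn
    (by rw [H620.RIM.card_centralizer_congr e.symm y]; exact hlt)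
  refine ⟨χ, χ.2, fun z => ?_, hd⟩
  have h1 := hχ 1 z
  rwa [one_mul] at h1

end Cfsg.Agent.H916.RIM
end

-- part: H243/RIM/DzGen
section
set_option linter.all false
open scoped Cfsg.Agent.FastGrp

/-!
# Characters of defect zero over a central character: general count (helper243, for S4816)

* `card_lies_ge` : a family of good elements, pairwise not conjugate modulo `Z`;
* `exists_dz_card` : `p ∥ |G|`, enough characters over `c`: one of defect zero (the proof is helper849's
  `exists_dz_quot`, for elements of `G`).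
-/

set_option autoImplicit false
set_option linter.unusedSectionVars false

namespace Cfsg.Agent.H243.RIM

open Cfsg Subgroup Finset
open Cfsg.Agent.Characters.Core
open Cfsg.Agent.SmallSimple.ThetaSetup Cfsg.Agent.SmallSimple.ThetaOrtho Cfsg.Agent.SmallSimple.ThetaCount
open Cfsg.Agent.SmallSimple.TheoremC Cfsg.Agent.SmallSimple.TheoremCCor
open Cfsg.Agent.SmallSimple.SingularCount
open Cfsg.Agent.H622.Over
open Cfsg.Agent.H849.RIM
open scoped ComplexConjugate

universe u

variable {G : Type u} [Group G] [Finite G]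

/-- **Lower bound for the number of characters over `c`.** -/
theorem card_lies_ge {Z : Subgroup G} [Z.Normal] (hZ : Z ≤ center G) (c : Z →* ℂˣ) {n : ℕ} (g : Fin n → G)
    (hg : ∀ i, Good Z c (g i)) (hne : ∀ i j, i ≠ j → ∀ x : G, ∀ z ∈ Z, x * g i * x⁻¹ ≠ g j * z) :
    n ≤ Nat.card {χ : IrrCharacter G // Lies Z c (χ : G → ℂ)} := by
  rw [card_over hZ c, card_good hZ c]
  have hfin : Finite (ConjClasses (G ⧸ Z)) := Finite.of_surjective _ (ConjClasses.mk_surjective (α := G ⧸ Z))
  have h1 : Function.Injective (fun i : Fin n => (⟨ConjClasses.mk (g i : G ⧸ Z), g i, rfl, hg i⟩ :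
      {C : ConjClasses (G ⧸ Z) // ∃ g : G, ConjClasses.mk (g : G ⧸ Z) = C ∧ Good Z c g})) := by
    intro i j hij
    by_contra hne'
    have h2 := congrArg Subtype.val hij
    have h3 : IsConj (g i : G ⧸ Z) (g j : G ⧸ Z) := ConjClasses.mk_eq_mk_iff_isConj.1 h2
    obtain ⟨x, hx⟩ := isConj_iff.1 h3
    obtain ⟨x, rfl⟩ := QuotientGroup.mk_surjective x
    have h4 : (g j)⁻¹ * (x * g i * x⁻¹) ∈ Z := by
      rw [← QuotientGroup.eq_one_iff, QuotientGroup.mk_mul, QuotientGroup.mk_inv, QuotientGroup.mk_mul,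
        QuotientGroup.mk_mul, QuotientGroup.mk_inv, hx, inv_mul_cancel]
    exact hne i j hne' x _ h4 (by rw [mul_inv_cancel_left])
  have h2 := Nat.card_le_card_of_injective _ h1
  rwa [Nat.card_fin] at h2

variable {p : ℕ} [Fact p.Prime]

/-- **Defect zero over a central character, `p ∥ |G|`**, by the number of characters over `c`. -/
theorem exists_dz_card {Z : Subgroup G} [Z.Normal] (hZ : Z ≤ center G) (hZp : ¬ p ∣ Nat.card Z)
    (hG2 : ¬ p ^ 2 ∣ Nat.card G) {u : G} (hu : orderOf u = p) {k w : ℕ}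
    (hC : Nat.card (centralizer ({u} : Set G)) = p * (k * Nat.card Z))
    (hN : Nat.card (normalizer ((zpowers u : Subgroup G) : Set G)) = w * (p * (k * Nat.card Z))) (c : Z →* ℂˣ)
    {n : ℕ} (hn : n ≤ Nat.card {χ : IrrCharacter G // Lies Z c (χ : G → ℂ)})
    (hlt : k * (w ^ 2 + (p - 1)) < w * n) :
    ∃ χ : IrrCharacter G, Lies Z c (χ : G → ℂ) ∧ p ∣ charDegree (χ : G → ℂ) := by
  classical
  have hp : p.Prime := Fact.out
  have hfin : Finite (IrrCharacter G) := finite_irr
  -- the Sylow subgroup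
  have hzp : IsPGroup p (zpowers u) := IsPGroup.of_card (n := 1) (by rw [Nat.card_zpowers, hu, pow_one])
  obtain ⟨P, hPle⟩ := hzp.exists_le_sylow
  have hP : Nat.card P = p := by
    obtain ⟨n, hn⟩ := (IsPGroup.iff_card).1 P.2
    have h1 : Nat.card P ∣ Nat.card G := card_subgroup_dvd_card _
    have h2 : n < 2 := by
      by_contra h3
      push Not at h3
      exact hG2 ((pow_dvd_pow p h3).trans (hn ▸ h1))
    have h3 : p ∣ Nat.card P := by
      have := card_dvd_of_le hPle
      rwa [Nat.card_zpowers, hu] at this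
    interval_cases n
    · rw [hn, pow_zero, Nat.dvd_one] at h3
      exact absurd h3 hp.one_lt.ne'
    · rw [hn, pow_one]
  have hPz : (P : Subgroup G) = zpowers u := by
    symm
    refine eq_of_le_of_card_ge hPle ?_
    rw [Nat.card_zpowers, hu]
    exact hP.le
  obtain ⟨K, hK⟩ := exists_isComp P hP
  have huP : u ∈ (P : Subgroup G) := hPle (mem_zpowers u)
  have hu1 : u ≠ 1 := by
    rintro rfl
    rw [orderOf_one] at hu
    exact hp.one_lt.ne hu
  have hCP : centralizer ((P : Subgroup G) : Set G) = centralizer ({u} : Set G) :=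
    (Blocks.CyclicOrtho.centralizer_eq P hP huP hu1).symm
  have hcC : Nat.card (centralizer ((P : Subgroup G) : Set G)) = p * k * Nat.card Z := by
    rw [hCP, hC, mul_assoc]
  have hcN : Nat.card (normalizer ((P : Subgroup G) : Set G)) = w * (p * k) * Nat.card Z := by
    rw [hPz, hN]
    ring
  have hcK : Nat.card K = k * Nat.card Z := by
    have h1 : Nat.card P * Nat.card K = Nat.card (centralizer ((P : Subgroup G) : Set G)) := by
      rw [← Nat.card_prod]
      exact Nat.card_congr (prodEquiv hK hP).toEquiv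
    rw [hP, hcC, mul_assoc] at h1
    exact Nat.eq_of_mul_eq_mul_left hp.pos h1
  have hZK : Z ≤ K := by
    intro z hz
    rw [hK]
    refine ⟨?_, fun h => hZp ?_⟩
    · rw [mem_centralizer_iff]
      intro g _
      exact mem_center_iff.1 (hZ hz) g
    · have h1 := _root_.orderOf_dvd_natCard (⟨z, hz⟩ : Z)
      rw [← orderOf_submonoid] at h1
      exact h.trans h1
  have hk0 : 0 < k := by
    rcases Nat.eq_zero_or_pos k with h | h
    · rw [h, zero_mul] at hcK
      exact absurd hcK Nat.card_pos.ne'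
    · exact h
  have hw : (centralizer ((P : Subgroup G) : Set G)).relIndex (normalizer ((P : Subgroup G) : Set G)) = w := by
    have h1 : centralizer ((P : Subgroup G) : Set G) ≤ normalizer ((P : Subgroup G) : Set G) :=
      centralizer_le_normalizer _
    have h2 := Subgroup.card_mul_index ((centralizer ((P : Subgroup G) : Set G)).subgroupOf
      (normalizer ((P : Subgroup G) : Set G)))
    rw [Nat.card_congr (subgroupOfEquivOfLe h1).toEquiv, hcC, hcN] at h2
    have h3 : 0 < p * k * Nat.card Z := Nat.mul_pos (Nat.mul_pos hp.pos hk0) Nat.card_pos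
    rw [Subgroup.relIndex]
    apply Nat.eq_of_mul_eq_mul_left h3
    rw [h2]
    ring
  have hfK : Finite (IrrCharacter K) := finite_irr
  have := Fintype.ofFinite (IrrCharacter K)
  have := Fintype.ofFinite (IrrCharacter G)
  set A : Finset (IrrCharacter K) := univ.filter fun θ => LiesK Z c K (θ : K → ℂ) with hA
  have hAk : A.card ≤ k := card_liesK_le hZ hZK c hcK A fun θ hθ => (mem_filter.1 hθ).2
  have hsum : ∑ θ ∈ A, (Nat.card (stabAct hK (θ : K → ℂ)) ^ 2 + (p - 1)) ≤ k * (w ^ 2 + (p - 1)) := by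
    have hw0 : 0 < w := by
      rcases Nat.eq_zero_or_pos w with h | h
      · rw [h, zero_mul, zero_mul] at hcN
        exact absurd hcN Nat.card_pos.ne'
      · exact h
    calc ∑ θ ∈ A, (Nat.card (stabAct hK (θ : K → ℂ)) ^ 2 + (p - 1)) ≤ ∑ _θ ∈ A, (w ^ 2 + (p - 1)) := by
          refine Finset.sum_le_sum fun θ _ => Nat.add_le_add_right (Nat.pow_le_pow_left ?_ 2) _
          have h1 := card_stabAct_mul_card_orb hK hP θ.2
          rw [hw] at h1
          exact Nat.le_of_dvd hw0 (h1 ▸ dvd_mul_right _ _)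
      _ = A.card * (w ^ 2 + (p - 1)) := by rw [Finset.sum_const, smul_eq_mul]
      _ ≤ k * (w ^ 2 + (p - 1)) := Nat.mul_le_mul_right _ hAk
  obtain ⟨χ, hl, h0⟩ : ∃ χ : IrrCharacter G, Lies Z c (χ : G → ℂ) ∧ ∀ g : G, p ∣ orderOf g → (χ : G → ℂ) g = 0 := by
    by_contra hcon
    push Not at hcon
    have h1 := card_mul_le hK hP hZ hZK hw A (fun θ hθ => mem_filter.2 ⟨mem_univ _, hθ⟩)
      (Finset.univ.filter fun χ : IrrCharacter G => Lies Z c (χ : G → ℂ))
      (fun χ hχ => ⟨(mem_filter.1 hχ).2, by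
        obtain ⟨g, hg, hne⟩ := hcon χ (mem_filter.1 hχ).2
        exact ⟨g, hg, hne⟩⟩)
    rw [Nat.card_eq_fintype_card, Fintype.card_subtype] at hn
    have h3 := Nat.mul_le_mul_left w hn
    omega
  refine ⟨χ, hl, ?_⟩
  obtain ⟨d, hd⟩ := exists_degree_eq (P : Subgroup G) (isIrr_isCharacter χ.2) fun x hx hx1 => h0 x (by
    rw [Blocks.CyclicOrtho.orderOf_eq P hP hx hx1])
  rw [hP] at hd
  refine ⟨d, ?_⟩
  have h1 : ((charDegree (χ : G → ℂ) : ℕ) : ℂ) = ((p * d : ℕ) : ℂ) := by
    obtain ⟨n, hn⟩ := isCharacter_apply_one (isIrr_isCharacter χ.2)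
    unfold charDegree
    rw [hn, Complex.natCast_re, Nat.floor_natCast, ← hn, hd]
    push_cast
    ring
  exact_mod_cast h1

end Cfsg.Agent.H243.RIM
end

-- part: H795/RIM/Form
section
set_option linter.all false
open scoped Cfsg.Agent.FastGrp

/-!
# S4816: forms on columns over a central character (helper795; statements by helper759)

`N ≤ Z(G)`, `c` a faithful linear character of `N`, all irreducible characters over `c` of degree prime to `p`, `x` a
`p`-element, `|C_G(x)| ≤ |N| A`, `k` the number of irreducible characters over `c`: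

* `F1` : `y` an involution (or 1) commuting with `x`, `|C_G(xy)| ≤ |N| B` : `4 k ≤ A + 3 B`;
* `F2` : `i, j` commute with `x` and anticommute over `c` : `4 k ≤ A`;
* `F3` : a four-group commuting with `x`, permuted by `t` commuting with `x` : `8 k ≤ A + 5 B`;
* `F4` : `F2` and an inverted element of order 3 : `36 k ≤ A + 28 B`;
* `F5` : `p = 5`, `x` commutes with an `A₄` and an involution inverting its element of order 3 :
  `48 k ≤ A + 21 B₂ + 16 B₃`.
-/

set_option autoImplicit false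
set_option linter.unusedSectionVars false

namespace Cfsg.Agent.H795.RIM.Form

open Cfsg Subgroup Finset
open Cfsg.Agent.Characters.Core
open Cfsg.Agent.OddOrderCharacters.VChar Cfsg.Agent.OddOrderCharacters.PF13.SumBound
open Cfsg.Agent.H622.Over Cfsg.Agent.H382.RIM
open scoped ComplexConjugate

universe u

variable {G : Type u} [Group G] [Finite G]

/-! ### Functions on commutative subgroups -/

/-- `f` agrees on `H` with a character of `H` -/
def ChOn (H : Subgroup G) (f : G → ℂ) : Prop := IsCharacter H (fun h : H => f h)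

/-- `f` agrees on `⟨x⟩` with a generalized character -/
def GcOn (x : G) (f : G → ℂ) : Prop := IsGeneralizedCharacter (zpowers x) (fun z : zpowers x => f z)

theorem chOn_irr (H : Subgroup G) (χ : IrrCharacter G) : ChOn H (χ : G → ℂ) :=
  Characters.Clifford.isCharacter_restrict H (isIrr_isCharacter χ.2)

theorem sum_root {r : ℂ} {n : ℕ} (hn : n ≠ 0) (hr : r ^ n = 1) :
    (n : ℂ)⁻¹ * ∑ j ∈ range n, r ^ j = if r = 1 then 1 else 0 := by
  split_ifs with h
  · subst h
    have hn' : (n : ℂ) ≠ 0 := by exact_mod_cast hn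
    simp [hn']
  · have h1 : (∑ j ∈ range n, r ^ j) * (r - 1) = r ^ n - 1 := geom_sum_mul r n
    rw [hr, sub_self] at h1
    rcases mul_eq_zero.1 h1 with h2 | h2
    · rw [h2, mul_zero]
    · exact absurd (sub_eq_zero.1 h2) h

/-- **Projection to an eigenspace.** -/
theorem ChOn.proj {H : Subgroup G} (hH : ∀ a ∈ H, ∀ b ∈ H, a * b = b * a) {f : G → ℂ} (hf : ChOn H f)
    {y : G} (hy : y ∈ H) {n : ℕ} (hn : n ≠ 0) (hyn : y ^ n = 1) {ζ : ℂ} (hζ : ζ ^ n = 1) :
    ChOn H (fun g => (n : ℂ)⁻¹ * ∑ j ∈ range n, ζ⁻¹ ^ j * f (g * y ^ j)) := by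
  classical
  have := finite_irr (G := H)
  have := Fintype.ofFinite (IrrCharacter H)
  obtain ⟨m, hm⟩ := exists_nat_comb hf
  have hlin : ∀ η : IrrCharacter H, ∃ l : H →* ℂˣ, (η : H → ℂ) = fun g => (l g : ℂ) := fun η =>
    Characters.Linear.exists_hom_of_isIrrCharacter η.2
      (Characters.CCBasic.irr_apply_one_of_comm (fun a b => Subtype.ext (hH a a.2 b b.2)) η.2)
  choose l hl using hlin
  have hζ0 : ζ ≠ 0 := by
    rintro rfl
    rw [zero_pow hn] at hζ
    exact zero_ne_one hζ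
  have key : (fun h : H => (n : ℂ)⁻¹ * ∑ j ∈ range n, ζ⁻¹ ^ j * f ((h : G) * y ^ j)) =
      ∑ η : IrrCharacter H, (if (l η ⟨y, hy⟩ : ℂ) = ζ then m η else 0) • (η : H → ℂ) := by
    funext h
    have h1 : ∀ j : ℕ, f ((h : G) * y ^ j) = ∑ η : IrrCharacter H, (m η : ℂ) * ((l η h : ℂ) * (l η ⟨y, hy⟩ : ℂ) ^ j) := by
      intro j
      have h2 := congrFun hm (h * (⟨y, hy⟩ : H) ^ j)
      rw [Finset.sum_apply] at h2
      refine h2.trans (Finset.sum_congr rfl fun η _ => ?_)
      rw [Pi.smul_apply, hl η, nsmul_eq_mul]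
      simp only [map_mul, map_pow, Units.val_mul, Units.val_pow_eq_pow_val]
    simp only [h1]
    rw [Finset.sum_apply]
    simp only [Finset.mul_sum]
    rw [Finset.sum_comm]
    refine Finset.sum_congr rfl fun η _ => ?_
    rw [Pi.smul_apply]
    have h3 : (ζ⁻¹ * (l η ⟨y, hy⟩ : ℂ)) ^ n = 1 := by
      rw [mul_pow, inv_pow, hζ, inv_one, one_mul, ← Units.val_pow_eq_pow_val, ← map_pow]
      have h4 : (⟨y, hy⟩ : H) ^ n = 1 := Subtype.ext hyn
      rw [h4, map_one, Units.val_one]
    have h4 := sum_root hn h3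
    calc ∑ j ∈ range n, (n : ℂ)⁻¹ * (ζ⁻¹ ^ j * ((m η : ℂ) * ((l η h : ℂ) * (l η ⟨y, hy⟩ : ℂ) ^ j)))
        = ((m η : ℂ) * (l η h : ℂ)) * ((n : ℂ)⁻¹ * ∑ j ∈ range n, (ζ⁻¹ * (l η ⟨y, hy⟩ : ℂ)) ^ j) := by
          rw [Finset.mul_sum, Finset.mul_sum]
          refine Finset.sum_congr rfl fun j _ => ?_
          rw [mul_pow]
          ring
      _ = _ := by
          rw [h4, hl η]
          by_cases h5 : (l η ⟨y, hy⟩ : ℂ) = ζ
          · rw [if_pos h5, if_pos (by rw [h5, inv_mul_cancel₀ hζ0]), mul_one, nsmul_eq_mul]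
          · rw [if_neg h5, if_neg, mul_zero, zero_smul]
            intro h6
            rw [inv_mul_eq_one₀ hζ0] at h6
            exact h5 h6.symm
  unfold ChOn
  rw [key]
  exact isCharacter_sum _ fun η _ => isCharacter_nsmul _ (isIrr_isCharacter η.2)

theorem ChOn.gc {H : Subgroup G} {f : G → ℂ} (hf : ChOn H f) {x : G} (hx : x ∈ H) : GcOn x f := by
  have hle : zpowers x ≤ H := (zpowers_le).2 hx
  have h1 := isCharacter_comp (inclusion hle) hf
  exact gen_of_char h1

theorem GcOn.sub {x : G} {f g : G → ℂ} (hf : GcOn x f) (hg : GcOn x g) : GcOn x (fun z => f z - g z) := gen_sub hf hg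

theorem GcOn.add {x : G} {f g : G → ℂ} (hf : GcOn x f) (hg : GcOn x g) : GcOn x (fun z => f z + g z) := gen_add hf hg

theorem GcOn.smul {x : G} {f : G → ℂ} (n : ℤ) (hf : GcOn x f) : GcOn x (fun z => (n : ℂ) * f z) :=
  gen_intCast_smul n hf

theorem GcOn.congr {x : G} {f g : G → ℂ} (hf : GcOn x f) (h : ∀ z ∈ zpowers x, f z = g z) : GcOn x g := by
  have h1 : (fun z : zpowers x => g z) = fun z : zpowers x => f z := by
    funext z
    exact (h z z.2).symm
  unfold GcOn
  rw [h1]
  exact hf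

/-! ### The generators of `⟨x⟩` -/

/-- the generators of `⟨x⟩` -/
noncomputable def gens (x : G) : Finset (zpowers x) := by
  classical
  exact (Set.toFinite (Set.univ : Set (zpowers x))).toFinset.filter fun z => orderOf z = orderOf x

theorem mem_gens {x : G} {z : zpowers x} : z ∈ gens x ↔ orderOf z = orderOf x := by
  classical
  simp [gens]

theorem self_mem_gens (x : G) : (⟨x, mem_zpowers x⟩ : zpowers x) ∈ gens x := by
  rw [mem_gens]
  exact orderOf_mk x _

theorem card_gens_pos (x : G) : (0 : ℝ) < (gens x).card := by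
  exact_mod_cast Finset.card_pos.2 ⟨_, self_mem_gens x⟩

theorem gens_pow {x : G} {z : zpowers x} (hz : z ∈ gens x) {m : ℕ} (hm : m.Coprime (Nat.card (zpowers x))) :
    z ^ m ∈ gens x := by
  rw [mem_gens] at hz ⊢
  rw [← hz]
  apply Nat.Coprime.orderOf_pow
  rw [hz, ← Nat.card_zpowers]
  exact hm.symm

theorem exists_pow_of_gens {x : G} {z : zpowers x} (hz : z ∈ gens x) :
    ∃ m : ℕ, m.Coprime (Nat.card (zpowers x)) ∧ z = (⟨x, mem_zpowers x⟩ : zpowers x) ^ m := by
  rw [mem_gens] at hz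
  obtain ⟨k, hk⟩ := mem_powers_iff_mem_zpowers.2 z.2
  have hk' : x ^ k = (z : G) := hk
  refine ⟨k, ?_, Subtype.ext hk'.symm⟩
  rw [Nat.card_zpowers]
  have h1 : orderOf (x ^ k) = orderOf x := by rw [hk', Subgroup.orderOf_coe, hz]
  rw [orderOf_pow] at h1
  have h0 : 0 < orderOf x := orderOf_pos x
  rw [Nat.coprime_comm, Nat.Coprime]
  by_contra h2
  have h3 : 0 < (orderOf x).gcd k := Nat.gcd_pos_of_pos_left k h0
  have h4 := Nat.div_lt_self h0 (show 1 < (orderOf x).gcd k by omega)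
  omega

/-- **The bound for one function.** -/
theorem card_le_of_ne {x : G} {f : G → ℂ} (hf : GcOn x f) (h0 : f x ≠ 0) :
    ((gens x).card : ℝ) ≤ ∑ z ∈ gens x, ‖f z‖ ^ 2 := by
  have h1 := card_le_sum_sq (G := zpowers x) ({()} : Finset Unit) (fun _ z => f z) (fun _ _ => hf) (gens x)
    (fun z hz m hm => gens_pow hz hm) (fun z hz => by
      refine ⟨(), mem_singleton_self _, ?_⟩
      obtain ⟨m, hm, rfl⟩ := exists_pow_of_gens hz
      obtain ⟨σ, hσ⟩ := gen_exists_ringEquiv (G := zpowers x) hm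
      have h2 := hσ _ hf ⟨x, mem_zpowers x⟩
      intro h3
      rw [h3] at h2
      exact h0 ((map_eq_zero σ).1 h2))
  simpa using h1

theorem one_of_two {x : G} {u v : G → ℂ} (hu : GcOn x u) (hv : GcOn x v) (h0 : ¬ (u x = 0 ∧ v x = 0)) :
    ((gens x).card : ℝ) ≤ ∑ z ∈ gens x, (‖u z‖ ^ 2 + ‖v z‖ ^ 2) := by
  rw [Finset.sum_add_distrib]
  have h1 : 0 ≤ ∑ z ∈ gens x, ‖u z‖ ^ 2 := Finset.sum_nonneg fun _ _ => by positivity
  have h2 : 0 ≤ ∑ z ∈ gens x, ‖v z‖ ^ 2 := Finset.sum_nonneg fun _ _ => by positivity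
  by_cases h : u x = 0
  · have h3 := card_le_of_ne hv fun h4 => h0 ⟨h, h4⟩
    linarith
  · have h3 := card_le_of_ne hu h
    linarith

theorem two_of_three {x : G} {u v : G → ℂ} (hu : GcOn x u) (hv : GcOn x v) (h0 : ¬ (u x = 0 ∧ v x = 0)) :
    2 * ((gens x).card : ℝ) ≤ ∑ z ∈ gens x, (‖u z‖ ^ 2 + ‖v z‖ ^ 2 + ‖u z - v z‖ ^ 2) := by
  rw [Finset.sum_add_distrib, Finset.sum_add_distrib]
  have h1 : 0 ≤ ∑ z ∈ gens x, ‖u z‖ ^ 2 := Finset.sum_nonneg fun _ _ => by positivity
  have h2 : 0 ≤ ∑ z ∈ gens x, ‖v z‖ ^ 2 := Finset.sum_nonneg fun _ _ => by positivity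
  have h3 : 0 ≤ ∑ z ∈ gens x, ‖u z - v z‖ ^ 2 := Finset.sum_nonneg fun _ _ => by positivity
  have huv := hu.sub hv
  by_cases hu0 : u x = 0
  · have hv0 : v x ≠ 0 := fun h4 => h0 ⟨hu0, h4⟩
    have h4 := card_le_of_ne hv hv0
    have h5 := card_le_of_ne huv (by rw [hu0, zero_sub]; exact neg_ne_zero.2 hv0)
    linarith
  · have h4 := card_le_of_ne hu hu0
    by_cases hv0 : v x = 0
    · have h5 := card_le_of_ne huv (by rw [hv0, sub_zero]; exact hu0)
      linarith
    · have h5 := card_le_of_ne hv hv0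
      linarith

/-! ### Columns -/

/-- The column of `g`. -/
theorem col_le [Fintype (IrrCharacter G)] {N : Subgroup G} (hN : N ≤ center G) {c : N →* ℂˣ}
    (hc : Function.Injective c) (g : G) :
    (Nat.card N : ℝ) * ∑ χ ∈ ov N c, ‖(χ : G → ℂ) g‖ ^ 2 ≤ (Nat.card (centralizer ({g} : Set G)) : ℝ) := by
  by_cases h : ∀ n : N, IsConj (g * n) g → n = 1
  · exact (sum_normSq_over hN c g h).le
  · push Not at h
    obtain ⟨n, hn, hn1⟩ := h
    have h1 : ∀ χ ∈ ov N c, ‖(χ : G → ℂ) g‖ ^ 2 = 0 := by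
      intro χ hχ
      have h2 := (mem_ov.1 hχ) g n
      have h3 : (χ : G → ℂ) (g * n) = (χ : G → ℂ) g := by
        obtain ⟨y, hy⟩ := isConj_iff.1 hn
        have h6 := (isCharacter_isClassFunction (isIrr_isCharacter χ.2)) (g * n) y
        rw [hy] at h6
        exact h6.symm
      rw [h3] at h2
      have h4 : (c n : ℂ) ≠ 1 := fun h5 => hn1 (hc (by rw [map_one]; exact Units.ext h5))
      have h5 : (χ : G → ℂ) g * ((c n : ℂ) - 1) = 0 := by rw [mul_sub, ← h2, mul_one, sub_self]
      rcases mul_eq_zero.1 h5 with h6 | h6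
      · rw [h6, norm_zero]; norm_num
      · exact absurd (sub_eq_zero.1 h6) h4
    rw [Finset.sum_eq_zero h1, mul_zero]
    positivity

/-- Orthogonal columns. -/
theorem col_zero [Fintype (IrrCharacter G)] {N : Subgroup G} (hN : N ≤ center G) (c : N →* ℂˣ) {g h : G}
    (hgh : ∀ n : N, ¬ IsConj (g * n) h) : ∑ χ ∈ ov N c, (χ : G → ℂ) g * conj ((χ : G → ℂ) h) = 0 := by
  classical
  have := Fintype.ofFinite N
  rw [sum_over hN c g h, Finset.sum_eq_zero, mul_zero]
  intro n _
  rw [if_neg (hgh n), mul_zero]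

theorem exists_exp {m n : ℕ} (h : m.Coprime n) :
    ∃ e : ℕ, (∀ {H : Type u} [Group H] (a : H), a ^ m = 1 → a ^ e = a) ∧
      ∀ {H : Type u} [Group H] (a : H), a ^ n = 1 → a ^ e = 1 := by
  obtain ⟨e, he⟩ := Nat.chineseRemainder h 1 0
  refine ⟨e, ?_, ?_⟩
  · intro H _ a ha
    have h1 : orderOf a ∣ m := orderOf_dvd_of_pow_eq_one ha
    have h2 : a ^ e = a ^ 1 := pow_eq_pow_iff_modEq.2 (he.1.of_dvd h1)
    rw [h2, pow_one]
  · intro H _ a ha
    have h1 : orderOf a ∣ n := orderOf_dvd_of_pow_eq_one ha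
    have h2 : a ^ e = a ^ 0 := pow_eq_pow_iff_modEq.2 (he.2.of_dvd h1)
    rw [h2, pow_zero]

theorem centralizer_mul {m n : ℕ} (h : m.Coprime n) {a b : G} (hab : Commute a b) (ha : a ^ m = 1) (hb : b ^ n = 1) :
    centralizer ({a * b} : Set G) = centralizer {a} ⊓ centralizer {b} := by
  ext t
  rw [Subgroup.mem_inf, mem_centralizer_singleton_iff, mem_centralizer_singleton_iff, mem_centralizer_singleton_iff]
  constructor
  · intro ht
    obtain ⟨e, h1, h2⟩ := exists_exp.{u} h
    obtain ⟨f, h3, h4⟩ := exists_exp.{u} h.symm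
    have ht' : Commute t (a * b) := ht
    have h5 : (a * b) ^ e = a := by rw [hab.mul_pow, h1 a ha, h2 b hb, mul_one]
    have h6 : (a * b) ^ f = b := by rw [hab.mul_pow, h4 a ha, h3 b hb, one_mul]
    have h7 := ht'.pow_right e
    have h8 := ht'.pow_right f
    rw [h5] at h7
    rw [h6] at h8
    exact ⟨h7, h8⟩
  · rintro ⟨h1, h2⟩
    have h3 : Commute t a := h1
    have h4 : Commute t b := h2
    exact h3.mul_right h4

theorem centralizer_gens {x : G} {z : zpowers x} (hz : z ∈ gens x) :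
    centralizer ({(z : G)} : Set G) = centralizer {x} := by
  rw [mem_gens] at hz
  have h1 : zpowers (z : G) = zpowers x := by
    refine eq_of_le_of_card_ge (zpowers_le.2 z.2) ?_
    rw [Nat.card_zpowers, Nat.card_zpowers, Subgroup.orderOf_coe, hz]
  have h2 : centralizer (zpowers (z : G) : Set G) = centralizer (zpowers x : Set G) := by rw [h1]
  have h3 : ∀ t : G, centralizer (zpowers t : Set G) = centralizer {t} := fun t => by
    rw [zpowers_eq_closure, centralizer_closure]
  rwa [h3, h3] at h2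

section data

variable {p : ℕ} {x : G} {a : ℕ}

theorem pow_gens (hx : x ^ p ^ a = 1) {z : zpowers x} (hz : z ∈ gens x) : (z : G) ^ p ^ a = 1 := by
  rw [mem_gens] at hz
  rw [← orderOf_dvd_iff_pow_eq_one, Subgroup.orderOf_coe, hz]
  exact orderOf_dvd_of_pow_eq_one hx

theorem commute_gens {y : G} (hxy : Commute x y) (z : zpowers x) : Commute (z : G) y := by
  obtain ⟨k, hk⟩ := mem_zpowers_iff.1 z.2
  rw [← hk]
  exact hxy.zpow_left k

theorem centralizer_gens_mul (hx : x ^ p ^ a = 1) {y : G} (hxy : Commute x y) {n : ℕ} (hy : y ^ n = 1)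
    (hpn : n.Coprime p) {z : zpowers x} (hz : z ∈ gens x) :
    centralizer ({(z : G) * y} : Set G) = centralizer {x * y} := by
  have hco : (p ^ a).Coprime n := Nat.Coprime.pow_left a hpn.symm
  rw [centralizer_mul hco (commute_gens hxy z) (pow_gens hx hz) hy, centralizer_mul hco hxy hx hy,
    centralizer_gens hz]

/-- The columns `z * y`. -/
theorem col_gens_le [Fintype (IrrCharacter G)] {N : Subgroup G} (hN : N ≤ center G) {c : N →* ℂˣ}
    (hc : Function.Injective c) (hx : x ^ p ^ a = 1) {y : G} (hxy : Commute x y) {n : ℕ} (hy : y ^ n = 1)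
    (hpn : n.Coprime p) {B : ℕ} (hB : Nat.card (centralizer ({x * y} : Set G)) ≤ Nat.card N * B)
    {z : zpowers x} (hz : z ∈ gens x) : ∑ χ ∈ ov N c, ‖(χ : G → ℂ) (z * y)‖ ^ 2 ≤ B := by
  have h1 := col_le hN hc ((z : G) * y)
  rw [centralizer_gens_mul hx hxy hy hpn hz] at h1
  have h2 : (Nat.card (centralizer ({x * y} : Set G)) : ℝ) ≤ (Nat.card N : ℝ) * B := by exact_mod_cast hB
  have h3 : (0 : ℝ) < Nat.card N := by exact_mod_cast Nat.card_pos
  exact le_of_mul_le_mul_left (h1.trans h2) h3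

/-- The columns `z`. -/
theorem col_gens_le_one [Fintype (IrrCharacter G)] {N : Subgroup G} (hN : N ≤ center G) {c : N →* ℂˣ}
    (hc : Function.Injective c) {B : ℕ} (hB : Nat.card (centralizer ({x} : Set G)) ≤ Nat.card N * B)
    {z : zpowers x} (hz : z ∈ gens x) : ∑ χ ∈ ov N c, ‖(χ : G → ℂ) z‖ ^ 2 ≤ B := by
  have h1 := col_le hN hc (z : G)
  rw [centralizer_gens hz] at h1
  have h2 : (Nat.card (centralizer ({x} : Set G)) : ℝ) ≤ (Nat.card N : ℝ) * B := by exact_mod_cast hB
  have h3 : (0 : ℝ) < Nat.card N := by exact_mod_cast Nat.card_pos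
  exact le_of_mul_le_mul_left (h1.trans h2) h3

/-- The columns `z * y₁`, `z * y₂` are orthogonal if `y₁ N`, `y₂ N` are not conjugate. -/
theorem cross_zero [Fintype (IrrCharacter G)] {N : Subgroup G} (hN : N ≤ center G) (c : N →* ℂˣ)
    (hpN : (Nat.card N).Coprime p) (hx : x ^ p ^ a = 1) {y₁ y₂ : G} (h₁ : Commute x y₁) (h₂ : Commute x y₂) {n : ℕ}
    (hy₁ : y₁ ^ n = 1) (hy₂ : y₂ ^ n = 1) (hpn : n.Coprime p) (hne : ∀ m : N, ¬ IsConj (y₁ * m) y₂)
    {z : zpowers x} (hz : z ∈ gens x) :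
    ∑ χ ∈ ov N c, (χ : G → ℂ) (z * y₁) * conj ((χ : G → ℂ) (z * y₂)) = 0 := by
  refine col_zero hN c fun m hm => hne m ?_
  have hco : (n * Nat.card N).Coprime (p ^ a) := Nat.Coprime.pow_right a (Nat.Coprime.mul_left hpn hpN)
  obtain ⟨e, h1, h2⟩ := exists_exp.{u} hco
  obtain ⟨g, hg⟩ := isConj_iff.1 hm
  have hcm : ∀ t : G, Commute t (m : G) := fun t => (mem_center_iff.1 (hN m.2) t)
  have hz1 := pow_gens hx hz
  have hm1 : (m : G) ^ Nat.card N = 1 := by
    rw [← Subgroup.coe_pow, pow_card_eq_one', Subgroup.coe_one]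
  have e1 : ((z : G) * y₁ * m) ^ e = y₁ * m := by
    rw [(hcm _).mul_pow, (commute_gens h₁ z).mul_pow, h2 _ hz1, one_mul, h1 y₁ (by rw [pow_mul, hy₁, one_pow]),
      h1 (m : G) (by rw [mul_comm, pow_mul, hm1, one_pow])]
  have e2 : ((z : G) * y₂) ^ e = y₂ := by
    rw [(commute_gens h₂ z).mul_pow, h2 _ hz1, one_mul, h1 y₂ (by rw [pow_mul, hy₂, one_pow])]
  refine isConj_iff.2 ⟨g, ?_⟩
  rw [← e1, ← conj_pow, hg, e2]

theorem cross_zero_one [Fintype (IrrCharacter G)] {N : Subgroup G} (hN : N ≤ center G) (c : N →* ℂˣ)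
    (hpN : (Nat.card N).Coprime p) (hx : x ^ p ^ a = 1) {y : G} (hxy : Commute x y) {n : ℕ}
    (hy : y ^ n = 1) (hpn : n.Coprime p) (hyN : y ∉ N) {z : zpowers x} (hz : z ∈ gens x) :
    ∑ χ ∈ ov N c, (χ : G → ℂ) z * conj ((χ : G → ℂ) (z * y)) = 0 := by
  have h1 := cross_zero hN c hpN hx (Commute.one_right x) hxy (one_pow n) hy hpn (fun m hm => by
    rw [one_mul] at hm
    obtain ⟨g, hg⟩ := isConj_iff.1 hm
    have h2 := mem_center_iff.1 (hN m.2) g
    rw [h2, mul_inv_cancel_right] at hg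
    exact hyN (hg ▸ m.2)) hz
  simpa using h1

end data

/-- **The count.** -/
theorem main_bound (x : G) (S : Finset (IrrCharacter G)) (Q : IrrCharacter G → zpowers x → ℝ) {K M : ℝ}
    (h1 : ∀ χ ∈ S, K * (gens x).card ≤ ∑ z ∈ gens x, Q χ z) (h2 : ∀ z ∈ gens x, ∑ χ ∈ S, Q χ z ≤ M) :
    K * S.card ≤ M := by
  have h3 := card_gens_pos x
  have h4 : (S.card : ℝ) * (K * (gens x).card) ≤ (gens x).card * M := by
    calc (S.card : ℝ) * (K * (gens x).card) = ∑ _χ ∈ S, K * ((gens x).card : ℝ) := by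
          rw [Finset.sum_const, nsmul_eq_mul]
      _ ≤ ∑ χ ∈ S, ∑ z ∈ gens x, Q χ z := Finset.sum_le_sum h1
      _ = ∑ z ∈ gens x, ∑ χ ∈ S, Q χ z := Finset.sum_comm
      _ ≤ ∑ _z ∈ gens x, M := Finset.sum_le_sum h2
      _ = (gens x).card * M := by rw [Finset.sum_const, nsmul_eq_mul]
  have h5 : ((gens x).card : ℝ) * (K * S.card) ≤ (gens x).card * M := by
    calc ((gens x).card : ℝ) * (K * S.card) = (S.card : ℝ) * (K * (gens x).card) := by ring
      _ ≤ _ := h4
  exact le_of_mul_le_mul_left h5 h3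

/-! ### Special projections -/

theorem closure_comm {s : Set G} (h : ∀ a ∈ s, ∀ b ∈ s, a * b = b * a) :
    ∀ a ∈ closure s, ∀ b ∈ closure s, a * b = b * a := by
  intro a ha b hb
  have h1 := (Subgroup.isMulCommutative_closure h).is_comm.comm ⟨a, ha⟩ ⟨b, hb⟩
  exact congrArg Subtype.val h1

theorem pair_comm {x y : G} (h : Commute x y) : ∀ a ∈ ({x, y} : Set G), ∀ b ∈ ({x, y} : Set G), a * b = b * a := by
  intro a ha b hb
  rcases ha with rfl | ha <;> rcases hb with rfl | hb
  · rfl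
  · rw [Set.mem_singleton_iff] at hb; subst hb; exact h
  · rw [Set.mem_singleton_iff] at ha; subst ha; exact h.symm
  · rw [Set.mem_singleton_iff] at ha hb; rw [ha, hb]

theorem triple_comm {x y z : G} (h : Commute x y) (h' : Commute x z) (h'' : Commute y z) :
    ∀ a ∈ ({x, y, z} : Set G), ∀ b ∈ ({x, y, z} : Set G), a * b = b * a := by
  intro a ha b hb
  rcases ha with rfl | ha <;> rcases hb with rfl | hb
  · rfl
  · rcases hb with rfl | hb
    · exact h
    · rw [Set.mem_singleton_iff] at hb; subst hb; exact h'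
  · rcases ha with rfl | ha
    · exact h.symm
    · rw [Set.mem_singleton_iff] at ha; subst ha; exact h'.symm
  · exact pair_comm h'' a ha b hb

theorem ChOn.congr {H : Subgroup G} {f g : G → ℂ} (hf : ChOn H f) (h : ∀ z ∈ H, f z = g z) : ChOn H g := by
  have h1 : (fun z : H => g z) = fun z : H => f z := by
    funext z
    exact (h z z.2).symm
  unfold ChOn
  rw [h1]
  exact hf

theorem ChOn.half {H : Subgroup G} (hH : ∀ a ∈ H, ∀ b ∈ H, a * b = b * a) {f : G → ℂ} (hf : ChOn H f)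
    {y : G} (hy : y ∈ H) (hyy : y * y = 1) : ChOn H (fun g => (f g + f (g * y)) / 2) := by
  refine (hf.proj hH hy (n := 2) two_ne_zero (by rw [pow_two, hyy]) (ζ := 1) (one_pow 2)).congr fun z _ => ?_
  rw [Finset.sum_range_succ, Finset.sum_range_one, pow_zero, pow_one, pow_zero, pow_one, mul_one, inv_one, one_mul,
    one_mul]
  push_cast
  ring

theorem ChOn.half' {H : Subgroup G} (hH : ∀ a ∈ H, ∀ b ∈ H, a * b = b * a) {f : G → ℂ} (hf : ChOn H f)
    {y : G} (hy : y ∈ H) (hyy : y * y = 1) : ChOn H (fun g => (f g - f (g * y)) / 2) := by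
  refine (hf.proj hH hy (n := 2) two_ne_zero (by rw [pow_two, hyy]) (ζ := -1) (by norm_num)).congr fun z _ => ?_
  rw [Finset.sum_range_succ, Finset.sum_range_one, pow_zero, pow_one, pow_zero, pow_one, mul_one, one_mul]
  push_cast
  have h1 : (-1 : ℂ)⁻¹ = -1 := by norm_num
  rw [h1]
  ring

theorem gc_mul {H : Subgroup G} (hH : ∀ a ∈ H, ∀ b ∈ H, a * b = b * a) {f : G → ℂ} (hf : ChOn H f)
    {x y : G} (hx : x ∈ H) (hy : y ∈ H) (hyy : y * y = 1) : GcOn x (fun g => f (g * y)) := by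
  refine (((hf.half hH hy hyy).gc hx).sub ((hf.half' hH hy hyy).gc hx)).congr fun z _ => ?_
  ring

/-- An element of order 3 whose inverse gives the same column. -/
theorem gc_third {H : Subgroup G} (hH : ∀ a ∈ H, ∀ b ∈ H, a * b = b * a) {f : G → ℂ} (hf : ChOn H f)
    {x y : G} (hx : x ∈ H) (hy : y ∈ H) (hyy : y ^ 3 = 1) (h2 : ∀ z ∈ zpowers x, f (z * y ^ 2) = f (z * y)) :
    GcOn x (fun g => (f g - f (g * y)) / 3) := by
  have hr := Complex.isPrimitiveRoot_exp 3 (by norm_num)
  set r := Complex.exp (2 * Real.pi * Complex.I / (3 : ℕ)) with hrdef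
  have h3 : r ^ 3 = 1 := hr.pow_eq_one
  have h4 := hr.geom_sum_eq_zero (by norm_num)
  rw [Finset.sum_range_succ, Finset.sum_range_succ, Finset.sum_range_one, pow_zero, pow_one] at h4
  refine ((hf.proj hH hy (n := 3) three_ne_zero hyy (ζ := r⁻¹) (by rw [inv_pow, h3, inv_one])).gc hx).congr
    fun z hz => ?_
  rw [Finset.sum_range_succ, Finset.sum_range_succ, Finset.sum_range_one, inv_inv, pow_zero, pow_zero, pow_one,
    pow_one, mul_one, one_mul, h2 z hz]
  push_cast
  have h5 : r ^ 2 = -1 - r := by linear_combination h4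
  rw [h5]
  ring

/-- An element of order dividing 4 whose odd powers give zero columns. -/
theorem gc_two {H : Subgroup G} (hH : ∀ a ∈ H, ∀ b ∈ H, a * b = b * a) {f : G → ℂ} (hf : ChOn H f)
    {x i : G} (hx : x ∈ H) (hi : i ∈ H) (hi4 : i ^ 4 = 1) {ε : ℂ} (hε : ε ^ 2 = 1)
    (h1 : ∀ z ∈ zpowers x, f (z * i) = 0) (h2 : ∀ z ∈ zpowers x, f (z * i ^ 2) = ε * f z)
    (h3 : ∀ z ∈ zpowers x, f (z * i ^ 3) = 0) : GcOn x (fun g => f g / 2) := by
  obtain ⟨r, hr⟩ := IsAlgClosed.exists_pow_nat_eq ε (n := 2) two_pos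
  have hε0 : ε ≠ 0 := by
    rintro rfl
    norm_num at hε
  refine ((hf.proj hH hi (n := 4) four_ne_zero hi4 (ζ := r) (by
    calc r ^ 4 = (r ^ 2) ^ 2 := by ring
      _ = 1 := by rw [hr, hε])).gc hx).congr fun z hz => ?_
  rw [Finset.sum_range_succ, Finset.sum_range_succ, Finset.sum_range_succ, Finset.sum_range_one, pow_zero, pow_zero,
    pow_one, pow_one, mul_one, one_mul, h1 z hz, h2 z hz, h3 z hz, inv_pow, hr]
  push_cast
  field_simp
  ring

theorem norm_F1 (P Q : ℂ) : ‖(P + Q) / 2‖ ^ 2 + ‖(P - Q) / 2‖ ^ 2 + ‖(P + Q) / 2 - (P - Q) / 2‖ ^ 2 =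
    ‖P‖ ^ 2 / 2 + 3 / 2 * ‖Q‖ ^ 2 := by
  have h1 : (P + Q) / 2 - (P - Q) / 2 = Q := by ring
  rw [h1]
  simp only [← Complex.normSq_eq_norm_sq, Complex.normSq_apply, Complex.add_re, Complex.add_im, Complex.sub_re,
    Complex.sub_im, Complex.div_ofNat_re, Complex.div_ofNat_im]
  ring

theorem norm_F3 (P Q : ℂ) : 8 * (‖(P + 3 * Q) / 4‖ ^ 2 + ‖(P - Q) / 4‖ ^ 2) =
    ‖P‖ ^ 2 + 5 * ‖Q‖ ^ 2 + 2 * (P * conj Q).re := by
  simp only [← Complex.normSq_eq_norm_sq, Complex.normSq_apply, Complex.add_re, Complex.add_im, Complex.sub_re,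
    Complex.sub_im, Complex.div_ofNat_re, Complex.div_ofNat_im, Complex.mul_re, Complex.mul_im, Complex.conj_re,
    Complex.conj_im, Complex.re_ofNat, Complex.im_ofNat]
  ring

theorem norm_F4 (P Q : ℂ) :
    18 * (‖(P - 4 * Q) / 6‖ ^ 2 + ‖(P + 2 * Q) / 6‖ ^ 2 + ‖(P - 4 * Q) / 6 - (P + 2 * Q) / 6‖ ^ 2) =
    ‖P‖ ^ 2 + 28 * ‖Q‖ ^ 2 - 2 * (P * conj Q).re := by
  simp only [← Complex.normSq_eq_norm_sq, Complex.normSq_apply, Complex.add_re, Complex.add_im, Complex.sub_re,
    Complex.sub_im, Complex.div_ofNat_re, Complex.div_ofNat_im, Complex.mul_re, Complex.mul_im, Complex.conj_re,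
    Complex.conj_im, Complex.re_ofNat, Complex.im_ofNat]
  ring

theorem norm_F5 (P Q R : ℂ) :
    24 * (‖(P + 3 * Q + 8 * R) / 12‖ ^ 2 + ‖(P - 3 * Q + 2 * R) / 6‖ ^ 2 +
      ‖(P + 3 * Q + 8 * R) / 12 - (P - 3 * Q + 2 * R) / 6‖ ^ 2) =
    ‖P‖ ^ 2 + 21 * ‖Q‖ ^ 2 + 16 * ‖R‖ ^ 2 - 6 * (P * conj Q).re + 4 * (P * conj R).re + 12 * (Q * conj R).re := by
  simp only [← Complex.normSq_eq_norm_sq, Complex.normSq_apply, Complex.add_re, Complex.add_im, Complex.sub_re,
    Complex.sub_im, Complex.div_ofNat_re, Complex.div_ofNat_im, Complex.mul_re, Complex.mul_im, Complex.conj_re,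
    Complex.conj_im, Complex.re_ofNat, Complex.im_ofNat]
  ring

/-! ### The forms -/

section forms

variable {p : ℕ} [hp : Fact p.Prime] {N : Subgroup G} {c : N →* ℂˣ} {x : G} {a : ℕ}

theorem ne_zero (hS : ∀ χ : IrrCharacter G, Lies N c (χ : G → ℂ) → ¬ p ∣ charDegree (χ : G → ℂ))
    (hx : x ^ p ^ a = 1) {χ : IrrCharacter G} (hχ : Lies N c (χ : G → ℂ)) : (χ : G → ℂ) x ≠ 0 :=
  H424.CentBound.apply_ne_zero (p := p) (isIrr_isCharacter χ.2) (Blocks.Basic.irr_one_eq_charDegree χ.2)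
    (hS χ hχ) (m := a) hx

theorem irr_conj (χ : IrrCharacter G) (g t : G) : (χ : G → ℂ) (t * g * t⁻¹) = (χ : G → ℂ) g :=
  isCharacter_isClassFunction (isIrr_isCharacter χ.2) g t

/-- Conjugation by an element which commutes with `x`. -/
theorem irr_conj_mul (χ : IrrCharacter G) {x t y y' : G} (hxt : Commute x t) (hty : t * y * t⁻¹ = y') {z : G}
    (hz : z ∈ zpowers x) : (χ : G → ℂ) (z * y') = (χ : G → ℂ) (z * y) := by
  obtain ⟨k, rfl⟩ := mem_zpowers_iff.1 hz
  have h1 : Commute (x ^ k) t := hxt.zpow_left k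
  have h2 : x ^ k * (t * y * t⁻¹) = t * (x ^ k * y) * t⁻¹ := by
    calc x ^ k * (t * y * t⁻¹) = (x ^ k * t) * y * t⁻¹ := by group
      _ = t * (x ^ k * y) * t⁻¹ := by rw [h1.eq]; group
  rw [← hty, h2, irr_conj]

/-- **F1** -/
theorem F1 (hp2 : p ≠ 2) (hN : N ≤ center G) (hc : Function.Injective c)
    (hS : ∀ χ : IrrCharacter G, Lies N c (χ : G → ℂ) → ¬ p ∣ charDegree (χ : G → ℂ))
    (hx : x ^ p ^ a = 1) {y : G} (hxy : Commute x y) (hy : y * y = 1) {A B : ℕ}
    (hA : Nat.card (centralizer ({x} : Set G)) ≤ Nat.card N * A)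
    (hB : Nat.card (centralizer ({x * y} : Set G)) ≤ Nat.card N * B) :
    4 * Nat.card {χ : IrrCharacter G // Lies N c (χ : G → ℂ)} ≤ A + 3 * B := by
  classical
  have := finite_irr (G := G)
  have := Fintype.ofFinite (IrrCharacter G)
  have hH := closure_comm (pair_comm hxy)
  have hxH : x ∈ closure ({x, y} : Set G) := subset_closure (by simp)
  have hyH : y ∈ closure ({x, y} : Set G) := subset_closure (by simp)
  have hu : ∀ χ : IrrCharacter G, GcOn x (fun g => ((χ : G → ℂ) g + (χ : G → ℂ) (g * y)) / 2) := fun χ =>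
    ((chOn_irr _ χ).half hH hyH hy).gc hxH
  have hv : ∀ χ : IrrCharacter G, GcOn x (fun g => ((χ : G → ℂ) g - (χ : G → ℂ) (g * y)) / 2) := fun χ =>
    ((chOn_irr _ χ).half' hH hyH hy).gc hxH
  have hy2 : y ^ 2 = 1 := by rw [pow_two, hy]
  have hco : Nat.Coprime 2 p := (Nat.coprime_primes Nat.prime_two hp.out).2 (Ne.symm hp2)
  have h := main_bound x (ov N c) (fun χ z => ‖((χ : G → ℂ) z + (χ : G → ℂ) (z * y)) / 2‖ ^ 2 +
    ‖((χ : G → ℂ) z - (χ : G → ℂ) (z * y)) / 2‖ ^ 2 +
    ‖((χ : G → ℂ) z + (χ : G → ℂ) (z * y)) / 2 - ((χ : G → ℂ) z - (χ : G → ℂ) (z * y)) / 2‖ ^ 2)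
    (K := 2) (M := (A : ℝ) / 2 + 3 / 2 * B) ?_ ?_
  · rw [card_ov]
    have h1 : (4 * (ov N c).card : ℝ) ≤ A + 3 * B := by linarith
    exact_mod_cast h1
  · intro χ hχ
    have h1 := two_of_three (hu χ) (hv χ) (fun h1 => ne_zero hS hx (mem_ov.1 hχ) (by
      linear_combination h1.1 + h1.2))
    exact h1
  · intro z hz
    rw [Finset.sum_congr rfl fun χ _ => norm_F1 _ _, Finset.sum_add_distrib, ← Finset.sum_div, ← Finset.mul_sum]
    have h1 := col_gens_le_one hN hc hA hz
    have h2 := col_gens_le hN hc hx hxy hy2 hco hB hz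
    linarith

/-- Anticommuting elements over `c`. -/
theorem gc_anti (hc : Function.Injective c) {χ : IrrCharacter G} (hχ : Lies N c (χ : G → ℂ))
    {i j : G} (hxi : Commute x i) (hxj : Commute x j) {w w' : N} (hij : i * j = j * i * w) (hii : i * i = w')
    (hw : (c w : ℂ) = -1) (hw' : (c w' : ℂ) = 1 ∨ (c w' : ℂ) = -1) : GcOn x (fun g => (χ : G → ℂ) g / 2) := by
  have hH := closure_comm (pair_comm hxi)
  have hxH : x ∈ closure ({x, i} : Set G) := subset_closure (by simp)
  have hiH : i ∈ closure ({x, i} : Set G) := subset_closure (by simp)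
  have hε : (c w' : ℂ) ^ 2 = 1 := by rcases hw' with h | h <;> rw [h] <;> norm_num
  have hw2 : w' ^ 2 = 1 := by
    apply hc
    rw [map_pow, map_one]
    apply Units.ext
    rw [Units.val_pow_eq_pow_val, hε, Units.val_one]
  have hi4 : i ^ 4 = 1 := by
    have h1 : i ^ 4 = (i * i) ^ 2 := by rw [← pow_two, ← pow_mul]
    rw [h1, hii, ← Subgroup.coe_pow, hw2, Subgroup.coe_one]
  have h1 : ∀ z ∈ zpowers x, (χ : G → ℂ) (z * i) = 0 := by
    intro z hz
    have h2 : j⁻¹ * i * (j⁻¹)⁻¹ = i * w := by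
      rw [inv_inv, mul_assoc, hij, ← mul_assoc, ← mul_assoc, inv_mul_cancel, one_mul]
    have h3 := irr_conj_mul χ (hxj.inv_right) h2 hz
    rw [← mul_assoc, hχ (z * i) w, hw] at h3
    have h4 : (2 : ℂ) * (χ : G → ℂ) (z * i) = 0 := by linear_combination -h3
    rcases mul_eq_zero.1 h4 with h5 | h5
    · norm_num at h5
    · exact h5
  refine gc_two hH (chOn_irr _ χ) hxH hiH hi4 hε h1 ?_ ?_
  · intro z _
    rw [pow_two, hii, hχ z w', mul_comm]
  · intro z hz
    have h2 : z * i ^ 3 = z * i * w' := by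
      rw [← hii, pow_succ, pow_two]
      group
    rw [h2, hχ (z * i) w', h1 z hz, zero_mul]

/-- **F2** -/
theorem F2 (hN : N ≤ center G) (hc : Function.Injective c)
    (hS : ∀ χ : IrrCharacter G, Lies N c (χ : G → ℂ) → ¬ p ∣ charDegree (χ : G → ℂ))
    (hx : x ^ p ^ a = 1) {i j : G} (hxi : Commute x i) (hxj : Commute x j) {w w' : N} (hij : i * j = j * i * w)
    (hii : i * i = w') (hw : (c w : ℂ) = -1) (hw' : (c w' : ℂ) = 1 ∨ (c w' : ℂ) = -1) {A : ℕ}
    (hA : Nat.card (centralizer ({x} : Set G)) ≤ Nat.card N * A) :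
    4 * Nat.card {χ : IrrCharacter G // Lies N c (χ : G → ℂ)} ≤ A := by
  classical
  have := finite_irr (G := G)
  have := Fintype.ofFinite (IrrCharacter G)
  have h := main_bound x (ov N c) (fun χ z => ‖(χ : G → ℂ) z‖ ^ 2) (K := 4) (M := (A : ℝ)) ?_ ?_
  · rw [card_ov]
    exact_mod_cast h
  · intro χ hχ
    have h1 := card_le_of_ne (gc_anti hc (mem_ov.1 hχ) hxi hxj hij hii hw hw')
      (div_ne_zero (ne_zero hS hx (mem_ov.1 hχ)) two_ne_zero)
    have h2 : ∑ z ∈ gens x, ‖(χ : G → ℂ) z / 2‖ ^ 2 = (∑ z ∈ gens x, ‖(χ : G → ℂ) z‖ ^ 2) / 4 := by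
      rw [Finset.sum_div]
      refine Finset.sum_congr rfl fun z _ => ?_
      rw [norm_div, div_pow, Complex.norm_ofNat]
      norm_num
    rw [h2] at h1
    linarith
  · intro z hz
    exact col_gens_le_one hN hc hA hz

/-- **F3** -/
theorem F3 (hp2 : p ≠ 2) (hN : N ≤ center G) (hpN : ¬ p ∣ Nat.card N) (hc : Function.Injective c)
    (hS : ∀ χ : IrrCharacter G, Lies N c (χ : G → ℂ) → ¬ p ∣ charDegree (χ : G → ℂ))
    (hx : x ^ p ^ a = 1) {y y' t : G} (hxy : Commute x y) (hxy' : Commute x y') (hxt : Commute x t)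
    (hy : y * y = 1) (hy' : y' * y' = 1) (hyy' : y * y' = y' * y) (ht : t * y * t⁻¹ = y')
    (ht' : t * y' * t⁻¹ = y * y') (hyN : y ∉ N) {A B : ℕ}
    (hA : Nat.card (centralizer ({x} : Set G)) ≤ Nat.card N * A)
    (hB : Nat.card (centralizer ({x * y} : Set G)) ≤ Nat.card N * B) :
    8 * Nat.card {χ : IrrCharacter G // Lies N c (χ : G → ℂ)} ≤ A + 5 * B := by
  classical
  have := finite_irr (G := G)
  have := Fintype.ofFinite (IrrCharacter G)
  have hH := closure_comm (triple_comm hxy hxy' hyy')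
  have hxH : x ∈ closure ({x, y, y'} : Set G) := subset_closure (by simp)
  have hyH : y ∈ closure ({x, y, y'} : Set G) := subset_closure (by simp)
  have hyH' : y' ∈ closure ({x, y, y'} : Set G) := subset_closure (by simp)
  have hy2 : y ^ 2 = 1 := by rw [pow_two, hy]
  have hco : Nat.Coprime 2 p := (Nat.coprime_primes Nat.prime_two hp.out).2 (Ne.symm hp2)
  have hNco : (Nat.card N).Coprime p := ((hp.out.coprime_iff_not_dvd).2 hpN).symm
  have hq : ∀ χ : IrrCharacter G, GcOn x (fun g => (χ : G → ℂ) (g * y)) := fun χ =>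
    gc_mul hH (chOn_irr _ χ) hxH hyH hy
  have hu : ∀ χ : IrrCharacter G, GcOn x (fun g => ((χ : G → ℂ) g + 3 * (χ : G → ℂ) (g * y)) / 4) := fun χ => by
    refine ((((chOn_irr _ χ).half hH hyH hy).half hH hyH' hy').gc hxH).congr fun z hz => ?_
    have h1 := irr_conj_mul χ hxt ht hz
    have h2 := irr_conj_mul χ hxt ht' hz
    have h3 : z * y' * y = z * (y * y') := by rw [hyy', mul_assoc]
    rw [h3, h2, h1]
    ring
  have hv : ∀ χ : IrrCharacter G, GcOn x (fun g => ((χ : G → ℂ) g - (χ : G → ℂ) (g * y)) / 4) := fun χ => by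
    refine ((hu χ).sub (hq χ)).congr fun z _ => ?_
    ring
  have h := main_bound x (ov N c) (fun χ z => 8 * (‖((χ : G → ℂ) z + 3 * (χ : G → ℂ) (z * y)) / 4‖ ^ 2 +
    ‖((χ : G → ℂ) z - (χ : G → ℂ) (z * y)) / 4‖ ^ 2)) (K := 8) (M := (A : ℝ) + 5 * B) ?_ ?_
  · rw [card_ov]
    exact_mod_cast h
  · intro χ hχ
    rw [← Finset.mul_sum]
    have h1 := one_of_two (hu χ) (hv χ) fun h1 => ne_zero hS hx (mem_ov.1 hχ) (by
      linear_combination h1.1 + 3 * h1.2)
    linarith
  · intro z hz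
    rw [Finset.sum_congr rfl fun χ _ => norm_F3 _ _, Finset.sum_add_distrib, Finset.sum_add_distrib,
      ← Finset.mul_sum, ← Finset.mul_sum, ← Complex.re_sum, cross_zero_one hN c hNco hx hxy hy2 hco hyN hz]
    have h1 := col_gens_le_one hN hc hA hz
    have h2 := col_gens_le hN hc hx hxy hy2 hco hB hz
    rw [Complex.zero_re]
    linarith

/-- **F4** -/
theorem F4 (hp3 : p ≠ 3) (hN : N ≤ center G) (hpN : ¬ p ∣ Nat.card N) (hc : Function.Injective c)
    (hS : ∀ χ : IrrCharacter G, Lies N c (χ : G → ℂ) → ¬ p ∣ charDegree (χ : G → ℂ))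
    (hx : x ^ p ^ a = 1) {i j : G} (hxi : Commute x i) (hxj : Commute x j) {w w' : N} (hij : i * j = j * i * w)
    (hii : i * i = w') (hw : (c w : ℂ) = -1) (hw' : (c w' : ℂ) = 1 ∨ (c w' : ℂ) = -1)
    {y s : G} (hxy : Commute x y) (hy : y ^ 3 = 1) (hyN : y ∉ N) (hxs : Commute x s) (hs : s * y * s⁻¹ = y⁻¹)
    {A B : ℕ} (hA : Nat.card (centralizer ({x} : Set G)) ≤ Nat.card N * A)
    (hB : Nat.card (centralizer ({x * y} : Set G)) ≤ Nat.card N * B) :
    36 * Nat.card {χ : IrrCharacter G // Lies N c (χ : G → ℂ)} ≤ A + 28 * B := by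
  classical
  have := finite_irr (G := G)
  have := Fintype.ofFinite (IrrCharacter G)
  have hH := closure_comm (pair_comm hxy)
  have hxH : x ∈ closure ({x, y} : Set G) := subset_closure (by simp)
  have hyH : y ∈ closure ({x, y} : Set G) := subset_closure (by simp)
  have hco : Nat.Coprime 3 p := (Nat.coprime_primes Nat.prime_three hp.out).2 (Ne.symm hp3)
  have hNco : (Nat.card N).Coprime p := ((hp.out.coprime_iff_not_dvd).2 hpN).symm
  have hyinv : y⁻¹ = y ^ 2 := by
    rw [inv_eq_iff_mul_eq_one, ← pow_succ']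
    exact hy
  have hh : ∀ χ ∈ ov N c, GcOn x (fun g => (χ : G → ℂ) g / 2) := fun χ hχ =>
    gc_anti hc (mem_ov.1 hχ) hxi hxj hij hii hw hw'
  have ht : ∀ χ : IrrCharacter G, GcOn x (fun g => ((χ : G → ℂ) g - (χ : G → ℂ) (g * y)) / 3) := fun χ =>
    gc_third hH (chOn_irr _ χ) hxH hyH hy fun z hz => by rw [← hyinv]; exact irr_conj_mul χ hxs hs hz
  have hu : ∀ χ ∈ ov N c, GcOn x (fun g => ((χ : G → ℂ) g - 4 * (χ : G → ℂ) (g * y)) / 6) := fun χ hχ => by
    refine (((ht χ).smul 2).sub (hh χ hχ)).congr fun z _ => ?_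
    push_cast
    ring
  have hv : ∀ χ ∈ ov N c, GcOn x (fun g => ((χ : G → ℂ) g + 2 * (χ : G → ℂ) (g * y)) / 6) := fun χ hχ => by
    refine ((hh χ hχ).sub (ht χ)).congr fun z _ => ?_
    ring
  have h := main_bound x (ov N c) (fun χ z => 18 * (‖((χ : G → ℂ) z - 4 * (χ : G → ℂ) (z * y)) / 6‖ ^ 2 +
    ‖((χ : G → ℂ) z + 2 * (χ : G → ℂ) (z * y)) / 6‖ ^ 2 +
    ‖((χ : G → ℂ) z - 4 * (χ : G → ℂ) (z * y)) / 6 - ((χ : G → ℂ) z + 2 * (χ : G → ℂ) (z * y)) / 6‖ ^ 2))
    (K := 36) (M := (A : ℝ) + 28 * B) ?_ ?_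
  · rw [card_ov]
    exact_mod_cast h
  · intro χ hχ
    rw [← Finset.mul_sum]
    have h1 := two_of_three (hu χ hχ) (hv χ hχ) fun h1 => ne_zero hS hx (mem_ov.1 hχ) (by
      linear_combination 2 * h1.1 + 4 * h1.2)
    linarith
  · intro z hz
    rw [Finset.sum_congr rfl fun χ _ => norm_F4 _ _, Finset.sum_sub_distrib, Finset.sum_add_distrib,
      ← Finset.mul_sum, ← Finset.mul_sum, ← Complex.re_sum, cross_zero_one hN c hNco hx hxy hy hco hyN hz]
    have h1 := col_gens_le_one hN hc hA hz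
    have h2 := col_gens_le hN hc hx hxy hy hco hB hz
    rw [Complex.zero_re]
    linarith

/-- A value which is `p` times an algebraic integer at a `p`-element. -/
theorem dvd_of_mul {χ : IrrCharacter G} (hx : x ^ p ^ a = 1) {w : ℂ} (hw : IsIntegral ℤ w)
    (h : (χ : G → ℂ) x = p * w) : p ∣ charDegree (χ : G → ℂ) := by
  obtain ⟨M, hM⟩ := Blocks.ExistsModular.exists_isPModular hp.out
  have hMp : M.IsPrime := hM.2.1.isPrime
  have h1 := H849.OZ.av_sub_mem (χ := χ) hp.out hMp hM.2.2 x (j := 0) (n := a) (by rw [pow_zero, one_pow, hx])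
  have h2 : H732.VZ.av χ x = (p : AlgInt) * (⟨w, hw⟩ : AlgInt) := by
    apply Subtype.ext
    rw [H732.VZ.av_coe, h]
    rfl
  have h3 : H732.VZ.av χ x ∈ M := by
    rw [h2]
    exact M.mul_mem_right _ hM.2.2
  rw [pow_zero] at h1
  have h4 := M.sub_mem h3 h1
  rw [sub_sub_cancel] at h4
  have h5 : H732.VZ.av χ 1 = ((charDegree (χ : G → ℂ) : ℤ) : AlgInt) := by
    apply Subtype.ext
    rw [H732.VZ.av_coe, ← H686.CharKit.charDegree_irr χ]
    simp
  rw [h5, H732.VZ.int_mem_iff hp.out hMp hM.2.2] at h4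
  exact_mod_cast h4

end forms

/-- **F5** -/
theorem F5 {N : Subgroup G} {c : N →* ℂˣ} {x : G} {a : ℕ} (hN : N ≤ center G) (hpN : ¬ 5 ∣ Nat.card N)
    (hc : Function.Injective c)
    (hS : ∀ χ : IrrCharacter G, Lies N c (χ : G → ℂ) → ¬ 5 ∣ charDegree (χ : G → ℂ))
    (hx : x ^ 5 ^ a = 1) {y y' t s : G} (hxy : Commute x y) (hxy' : Commute x y') (hxt : Commute x t)
    (hxs : Commute x s) (hy : y * y = 1) (hy' : y' * y' = 1) (hyy' : y * y' = y' * y) (ht : t * y * t⁻¹ = y')
    (ht' : t * y' * t⁻¹ = y * y') (ht3 : t ^ 3 = 1) (hs : s * t * s⁻¹ = t⁻¹) (hyN : y ∉ N) {A B₂ B₃ : ℕ}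
    (hA : Nat.card (centralizer ({x} : Set G)) ≤ Nat.card N * A)
    (hB₂ : Nat.card (centralizer ({x * y} : Set G)) ≤ Nat.card N * B₂)
    (hB₃ : Nat.card (centralizer ({x * t} : Set G)) ≤ Nat.card N * B₃) :
    48 * Nat.card {χ : IrrCharacter G // Lies N c (χ : G → ℂ)} ≤ A + 21 * B₂ + 16 * B₃ := by
  classical
  have hp : Fact (Nat.Prime 5) := ⟨by norm_num⟩
  have := finite_irr (G := G)
  have := Fintype.ofFinite (IrrCharacter G)
  have hH := closure_comm (triple_comm hxy hxy' hyy')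
  have hxH : x ∈ closure ({x, y, y'} : Set G) := subset_closure (by simp)
  have hyH : y ∈ closure ({x, y, y'} : Set G) := subset_closure (by simp)
  have hyH' : y' ∈ closure ({x, y, y'} : Set G) := subset_closure (by simp)
  have hT := closure_comm (pair_comm hxt)
  have hxT : x ∈ closure ({x, t} : Set G) := subset_closure (by simp)
  have htT : t ∈ closure ({x, t} : Set G) := subset_closure (by simp)
  have hy2 : y ^ 2 = 1 := by rw [pow_two, hy]
  have hy6 : y ^ 6 = 1 := by
    calc y ^ 6 = (y ^ 2) ^ 3 := by rw [← pow_mul]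
      _ = 1 := by rw [hy2, one_pow]
  have ht6 : t ^ 6 = 1 := by
    calc t ^ 6 = (t ^ 3) ^ 2 := by rw [← pow_mul]
      _ = 1 := by rw [ht3, one_pow]
  have hco2 : Nat.Coprime 2 5 := by norm_num
  have hco3 : Nat.Coprime 3 5 := by norm_num
  have hco6 : Nat.Coprime 6 5 := by norm_num
  have hNco : (Nat.card N).Coprime 5 := ((hp.out.coprime_iff_not_dvd).2 hpN).symm
  have htinv : t⁻¹ = t ^ 2 := by
    rw [inv_eq_iff_mul_eq_one, ← pow_succ']
    exact ht3
  have htN : t ∉ N := by
    intro h1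
    have h2 := mem_center_iff.1 (hN h1)
    rw [← h2, mul_inv_cancel_right] at ht
    rw [← h2, mul_inv_cancel_right, ← ht, hy] at ht'
    exact hyN (ht' ▸ one_mem N)
  have hyt : ∀ m : N, ¬ IsConj (y * m) t := by
    intro m hm
    have hcm : ∀ g : G, g * m = m * g := mem_center_iff.1 (hN m.2)
    obtain ⟨g, hg⟩ := isConj_iff.1 hm
    have h1 : (y * (m : G)) ^ 2 = (m : G) ^ 2 := by
      rw [Commute.mul_pow (hcm y), hy2, one_mul]
    have h2 : t ^ 2 = (m : G) ^ 2 := by
      rw [← hg, conj_pow, h1, pow_two, ← mul_assoc, hcm g, mul_assoc (m : G) g (m : G), hcm g, ← mul_assoc,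
        mul_assoc, mul_assoc, mul_inv_cancel, mul_one]
    have h3 : t = ((m ^ 2 * m ^ 2 : N) : G) := by
      rw [Subgroup.coe_mul, Subgroup.coe_pow, ← h2, ← pow_add]
      calc t = t ^ 3 * t := by rw [ht3, one_mul]
        _ = t ^ (2 + 2) := by rw [← pow_succ]
    exact htN (h3 ▸ (m ^ 2 * m ^ 2 : N).2)
  have hq : ∀ χ : IrrCharacter G, GcOn x (fun g => (χ : G → ℂ) (g * y)) := fun χ =>
    gc_mul hH (chOn_irr _ χ) hxH hyH hy
  have ha : ∀ χ : IrrCharacter G, GcOn x (fun g => ((χ : G → ℂ) g + 3 * (χ : G → ℂ) (g * y)) / 4) := fun χ => by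
    refine ((((chOn_irr _ χ).half hH hyH hy).half hH hyH' hy').gc hxH).congr fun z hz => ?_
    have h1 := irr_conj_mul χ hxt ht hz
    have h2 := irr_conj_mul χ hxt ht' hz
    have h3 : z * y' * y = z * (y * y') := by rw [hyy', mul_assoc]
    rw [h3, h2, h1]
    ring
  have hthird : ∀ χ : IrrCharacter G, GcOn x (fun g => ((χ : G → ℂ) g - (χ : G → ℂ) (g * t)) / 3) := fun χ =>
    gc_third hT (chOn_irr _ χ) hxT htT ht3 fun z hz => by rw [← htinv]; exact irr_conj_mul χ hxs hs hz
  have hw : ∀ χ : IrrCharacter G,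
      GcOn x (fun g => ((χ : G → ℂ) g + 3 * (χ : G → ℂ) (g * y) - 4 * (χ : G → ℂ) (g * t)) / 12) := fun χ => by
    refine (((hthird χ).add (hq χ)).sub (ha χ)).congr fun z _ => ?_
    ring
  have hr : ∀ χ : IrrCharacter G, GcOn x (fun g => (χ : G → ℂ) (g * t)) := fun χ => by
    refine ((ChOn.gc (chOn_irr _ χ) hxT).sub ((hthird χ).smul 3)).congr fun z _ => ?_
    push_cast
    ring
  have hu : ∀ χ : IrrCharacter G,
      GcOn x (fun g => ((χ : G → ℂ) g + 3 * (χ : G → ℂ) (g * y) + 8 * (χ : G → ℂ) (g * t)) / 12) := fun χ => by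
    refine ((hw χ).add (hr χ)).congr fun z _ => ?_
    ring
  have hv : ∀ χ : IrrCharacter G,
      GcOn x (fun g => ((χ : G → ℂ) g - 3 * (χ : G → ℂ) (g * y) + 2 * (χ : G → ℂ) (g * t)) / 6) := fun χ => by
    refine (((ha χ).sub (hq χ)).sub (hw χ)).congr fun z _ => ?_
    ring
  have h := main_bound x (ov N c) (fun χ z =>
    24 * (‖((χ : G → ℂ) z + 3 * (χ : G → ℂ) (z * y) + 8 * (χ : G → ℂ) (z * t)) / 12‖ ^ 2 +
    ‖((χ : G → ℂ) z - 3 * (χ : G → ℂ) (z * y) + 2 * (χ : G → ℂ) (z * t)) / 6‖ ^ 2 +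
    ‖((χ : G → ℂ) z + 3 * (χ : G → ℂ) (z * y) + 8 * (χ : G → ℂ) (z * t)) / 12 -
      ((χ : G → ℂ) z - 3 * (χ : G → ℂ) (z * y) + 2 * (χ : G → ℂ) (z * t)) / 6‖ ^ 2))
    (K := 48) (M := (A : ℝ) + 21 * B₂ + 16 * B₃) ?_ ?_
  · rw [card_ov]
    exact_mod_cast h
  · intro χ hχ
    rw [← Finset.mul_sum]
    have h1 := two_of_three (hu χ) (hv χ) fun h1 => by
      refine hS χ (mem_ov.1 hχ) (dvd_of_mul (p := 5) (a := a) (x := x) hx (gen_isIntegral (hw χ) ⟨x, mem_zpowers x⟩) ?_)
      push_cast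
      linear_combination h1.1 + 3 * h1.2
    linarith
  · intro z hz
    rw [Finset.sum_congr rfl fun χ _ => norm_F5 _ _ _, Finset.sum_add_distrib, Finset.sum_add_distrib,
      Finset.sum_sub_distrib, Finset.sum_add_distrib, Finset.sum_add_distrib,
      ← Finset.mul_sum, ← Finset.mul_sum, ← Finset.mul_sum, ← Finset.mul_sum, ← Finset.mul_sum,
      ← Complex.re_sum, ← Complex.re_sum, ← Complex.re_sum, cross_zero_one hN c hNco hx hxy hy2 hco2 hyN hz,
      cross_zero_one hN c hNco hx hxt ht3 hco3 htN hz, cross_zero hN c hNco hx hxy hxt hy6 ht6 hco6 hyt hz]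
    have h1 := col_gens_le_one hN hc hA hz
    have h2 := col_gens_le hN hc hx hxy hy2 hco2 hB₂ hz
    have h3 := col_gens_le hN hc hx hxt ht3 hco3 hB₃ hz
    rw [Complex.zero_re]
    linarith

end Cfsg.Agent.H795.RIM.Form

private theorem dce_1883b6322df5 : _root_.True := by
  try have : _root_.True := by simp only [_root_.Cfsg.Agent.H795.RIM.Form.gens.congr_simp]
  try have : _root_.True := by simp only [_root_.Cfsg.Agent.H795.RIM.Form.gens.eq_1]
  exact _root_.True.intro
end

-- part: H325/RIM/Base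
section
set_option linter.all false
open scoped Cfsg.Agent.FastGrp

/-!
# S4816: transport of the rows and groups with trivial multiplier (helper325)

* `NB.congr`, `NBall.congr` : the rows may be proved for any isomorphic group, in any universe;
* `nball_of_mult` : no row is needed if every nontrivial divisor of the order of the multiplier is divisible by `p`;
* `nball_of_one`, `nball_of_self` : the multiplier is trivial or cyclic of order `p`.
-/

set_option autoImplicit false
set_option linter.unusedSectionVars false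

namespace Cfsg.Agent.H325.RIM

open Cfsg Cfsg.Agent.H665.RIM

universe u v w x

variable {p : ℕ}

theorem card_ker_congr {E : Type u} [Group E] {E' : Type v} [Group E'] {S : Type w} [Group S] {T : Type x} [Group T]
    (e : S ≃* T) (f : E' ≃* E) (π : E →* S) {x : E'} :
    x ∈ (e.toMonoidHom.comp (π.comp f.toMonoidHom)).ker ↔ f x ∈ π.ker := by
  rw [MonoidHom.mem_ker, MonoidHom.mem_ker]
  exact map_eq_one_iff _ e.injective

/-- Rows may be proved for an isomorphic group, in any universe. -/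
theorem NB.congr {m : ℕ} {S : Type u} [Group S] {T : Type v} [Group T] (e : S ≃* T) (h : NB.{v} p m T) :
    NB.{u} p m S := by
  intro E _ _ π hπ hc hp hm l hl
  obtain ⟨E', _, _, ⟨f⟩⟩ : ∃ (E' : Type v) (_ : Group E') (_ : Finite E'), Nonempty (E' ≃* E) := by
    have hsm : Small.{v, u} E := Countable.toSmall.{v, u} E
    exact ⟨Shrink.{v, u} E, inferInstance, Finite.of_equiv E (equivShrink.{v, u} E), ⟨Shrink.mulEquiv⟩⟩
  let π' : E' →* T := e.toMonoidHom.comp (π.comp f.toMonoidHom)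
  have hk : ∀ {x : E'}, x ∈ π'.ker ↔ f x ∈ π.ker := card_ker_congr e f π
  let g : π'.ker →* π.ker :=
    { toFun := fun x => ⟨f x, hk.1 x.2⟩
      map_one' := Subtype.ext (map_one f)
      map_mul' := fun x y => Subtype.ext (map_mul f _ _) }
  have hg : Function.Bijective g := by
    constructor
    · intro x y hxy
      exact Subtype.ext (f.injective (congrArg Subtype.val hxy))
    · intro y
      refine ⟨⟨f.symm y, hk.2 ?_⟩, Subtype.ext (f.apply_symm_apply _)⟩
      rw [f.apply_symm_apply]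
      exact y.2
  have hc' : π'.ker ≤ Subgroup.center E' := by
    intro x hx
    rw [Subgroup.mem_center_iff]
    intro y
    apply f.injective
    rw [map_mul, map_mul]
    exact Subgroup.mem_center_iff.1 (hc (hk.1 hx)) (f y)
  have hp' : commutator E' = ⊤ := by
    have h1 : (commutator E').map f.toMonoidHom = commutator E := by
      rw [commutator_def, Subgroup.map_commutator, commutator_def]
      congr 1 <;> exact Subgroup.map_top_of_surjective _ f.surjective
    rw [hp] at h1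
    rw [eq_top_iff]
    intro x _
    have h2 : f x ∈ (commutator E').map f.toMonoidHom := by rw [h1]; trivial
    obtain ⟨y, hy, hxy⟩ := h2
    have : y = x := f.injective hxy
    exact this ▸ hy
  obtain ⟨χ, h1, h2, h3⟩ := h E' π' ((e.surjective.comp hπ).comp f.surjective) hc' hp'
    ((Nat.card_congr (Equiv.ofBijective g hg)).trans hm) (l.comp g) (hl.comp hg.1)
  refine ⟨fun x => χ (f.symm x), Blocks.CliffordCentral.isIrrCharacter_comp h1 f.symm.toMonoidHom f.symm.surjective,
    fun z => ?_, ?_⟩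
  · have h4 := h2 ⟨f.symm z, hk.2 (by rw [f.apply_symm_apply]; exact z.2)⟩
    change χ (f.symm z) = χ (f.symm 1) * l z
    rw [map_one, h4]
    congr 2
    change l (g _) = l z
    congr 1
    exact Subtype.ext (f.apply_symm_apply _)
  · have h4 : charDegree (fun x : E => χ (f.symm x)) = charDegree χ := by
      change ⌊(χ (f.symm 1)).re⌋₊ = ⌊(χ 1).re⌋₊
      rw [map_one]
    rw [h4]
    exact h3

theorem NBall.congr {S : Type u} [Group S] {T : Type v} [Group T] (e : S ≃* T) (h : NBall.{v} p T) :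
    NBall.{u} p S :=
  fun m hm hpm => NB.congr e (h m hm hpm)

theorem AbSyl.congr {S : Type u} [Group S] {T : Type v} [Group T] (e : S ≃* T) (h : AbSyl p T) : AbSyl p S := by
  intro P hP a ha b hb
  have h1 := h (P.map e.toMonoidHom) (hP.map _) (e a) ⟨a, ha, rfl⟩ (e b) ⟨b, hb, rfl⟩
  apply e.injective
  rw [map_mul, map_mul]
  exact h1

/-- The multiplier has no nontrivial quotient of order prime to `p`. -/
theorem nball_of_mult {S : Type u} [Group S] {T : Type v} [Group T] {A : Type w} [CommGroup A]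
    (hA : HasSchurMultiplier T A) (e : S ≃* T) (h : ∀ m, 2 ≤ m → m ∣ Nat.card A → p ∣ m) : NBall.{u} p S := by
  intro m hm hpm E _ _ π hπ hc hp hk
  exfalso
  have hk' : (e.toMonoidHom.comp π).ker = π.ker := by
    ext x
    rw [MonoidHom.mem_ker, MonoidHom.mem_ker, MonoidHom.comp_apply]
    exact map_eq_one_iff _ e.injective
  have hσ : IsStemExtension (e.toMonoidHom.comp π) :=
    ⟨e.surjective.comp hπ, by rw [hk']; exact hc, by rw [hp]; exact le_top⟩
  obtain ⟨f, hf⟩ := H487.HasSchurMultiplier.exists_surj_ker hA hσ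
  have h1 := Subgroup.card_dvd_of_surjective f hf
  rw [hk', hk] at h1
  exact hpm (h m hm h1)

theorem nball_of_cyclic {S : Type u} [Group S] {T : Type v} [Group T] {n : ℕ} (hA : HasCyclicSchurMultiplier T n)
    (e : Nonempty (S ≃* T)) (h : ∀ m, 2 ≤ m → m ∣ n → p ∣ m) : NBall.{u} p S := by
  obtain ⟨e⟩ := e
  refine nball_of_mult hA e ?_
  rwa [Nat.card_congr (Multiplicative.toAdd (α := ZMod n)), Nat.card_zmod]

/-- Trivial multiplier. -/
theorem nball_of_one {S : Type u} [Group S] {T : Type v} [Group T] (hA : HasCyclicSchurMultiplier T 1)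
    (e : Nonempty (S ≃* T)) : NBall.{u} p S :=
  nball_of_cyclic hA e fun m hm hd => by
    have := Nat.dvd_one.1 hd
    omega

/-- The multiplier is cyclic of order `1` or `p`. -/
theorem nball_of_dvd {S : Type u} [Group S] {T : Type v} [Group T] {n : ℕ} (hp : p.Prime)
    (hA : HasCyclicSchurMultiplier T n) (e : Nonempty (S ≃* T)) (h : n ∣ p) : NBall.{u} p S :=
  nball_of_cyclic hA e fun m hm hd => by
    rcases (Nat.dvd_prime hp).1 (hd.trans h) with h1 | h1
    · omega
    · rw [h1]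

end Cfsg.Agent.H325.RIM
end

-- part: H325/RIM/EKCongr
section
prune_inst 0x220080000000000000080000000000001c410002
set_option linter.all false
open scoped Cfsg.Agent.FastGrp

/-!
# S4816: transport of the module side of the rows (helper325)

`EK.congr`, `Kill.congr` : the rows may be proved for any isomorphic group, in any universe.
-/

set_option autoImplicit false
set_option linter.unusedSectionVars false

namespace Cfsg.Agent.H325.RIM

open Cfsg Cfsg.Agent.H665.RIM Cfsg.Agent.H229.RIM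
open scoped commutatorElement

universe u v w x

variable {p : ℕ}

theorem commutator_eq_top_congr {H : Type u} [Group H] {H' : Type v} [Group H'] (f : H' ≃* H)
    (h : commutator H = ⊤) : commutator H' = ⊤ := by
  have h1 : (commutator H').map f.toMonoidHom = commutator H := by
    rw [commutator_def, Subgroup.map_commutator, commutator_def]
    congr 1 <;> exact Subgroup.map_top_of_surjective _ f.surjective
  rw [h] at h1
  rw [eq_top_iff]
  intro x _
  have h2 : f x ∈ (commutator H').map f.toMonoidHom := by rw [h1]; trivial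
  obtain ⟨y, hy, hxy⟩ := h2
  have : y = x := f.injective hxy
  exact this ▸ hy

/-- the restriction of an isomorphism to the preimage of a subgroup -/
def comapEquiv {H : Type u} [Group H] {H' : Type v} [Group H'] (f : H' ≃* H) (N : Subgroup H) :
    ↥(N.comap f.toMonoidHom) ≃* N where
  toFun x := ⟨f x, x.2⟩
  invFun y := ⟨f.symm y, by
    change f (f.symm y) ∈ N
    rw [f.apply_symm_apply]
    exact y.2⟩
  left_inv x := Subtype.ext (f.symm_apply_apply _)
  right_inv y := Subtype.ext (f.apply_symm_apply _)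
  map_mul' x y := Subtype.ext (map_mul f _ _)

section stab

variable {H : Type u} {V : Type w} {H' : Type v} {V' : Type x} [Group H] [Finite H] [AddCommGroup V] [Finite V]
  [DistribMulAction H V] [Group H'] [Finite H'] [AddCommGroup V'] [Finite V'] [DistribMulAction H' V']

theorem stab_eq (f : H' ≃* H) (g : V' ≃+ V) (hs : ∀ (h : H') (v : V'), g (h • v) = f h • g v) (v : V') :
    MulAction.stabilizer H' v = (MulAction.stabilizer H (g v)).comap f.toMonoidHom := by
  ext x
  rw [Subgroup.mem_comap, MulAction.mem_stabilizer_iff, MulAction.mem_stabilizer_iff]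
  change x • v = v ↔ f x • g v = g v
  rw [← hs]
  exact g.injective.eq_iff.symm

theorem CoreP.congr (f : H' ≃* H) (g : V' ≃+ V) (hs : ∀ (h : H') (v : V'), g (h • v) = f h • g v)
    {K N : Subgroup H} {φ : N →* ℂˣ} (hC : CoreP (V := V) p K N φ) :
    CoreP (V := V') p (K.comap f.toMonoidHom) (N.comap f.toMonoidHom)
      (φ.comp (comapEquiv f N).toMonoidHom) := by
  have hK := hC.nK
  have hq : ∃ e : H' ⧸ K.comap f.toMonoidHom ≃* H ⧸ K, True := by
    refine ⟨QuotientGroup.congr _ _ f ?_, trivial⟩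
    exact Subgroup.map_comap_eq_self_of_surjective f.surjective K
  obtain ⟨e, -⟩ := hq
  have hcK : Nat.card ↥(K.comap f.toMonoidHom) = Nat.card K := Nat.card_congr (comapEquiv f K).toEquiv
  refine
    { odd := hC.odd
      perf := commutator_eq_top_congr f hC.perf
      nK := inferInstance
      Kt := fun h => hC.Kt ?_
      maxK := fun M hM hMt => ?_
      simp := ?_
      na := fun h => hC.na ?_
      pK := by rw [hcK]; exact hC.pK
      pS := by rw [Nat.card_congr e.toEquiv]; exact hC.pS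
      ab := fun P a ha b hb => ?_
      cen := fun x hx => ?_
      NK := Subgroup.comap_mono hC.NK
      Nne := fun h => hC.Nne ?_
      inj := hC.inj.comp (comapEquiv f N).injective
      exp := fun v => g.injective (by rw [map_nsmul, map_zero]; exact hC.exp _)
      nt := ?_
      ker := fun h => ?_
      irr := fun W hW => ?_
      P1 := fun v => ?_
      P2 := fun v χ hχ hl => ?_ }
  · rw [eq_top_iff]
    intro y _
    have h1 : f.symm y ∈ K.comap f.toMonoidHom := by rw [h]; trivial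
    have h2 : f (f.symm y) ∈ K := h1
    rwa [f.apply_symm_apply] at h2
  · have h1 : (M.map f.toMonoidHom) ≤ K := by
      refine hC.maxK _ (hM.map _ f.surjective) fun h => hMt ?_
      rw [eq_top_iff]
      intro y _
      have h2 : f y ∈ M.map f.toMonoidHom := by rw [h]; trivial
      obtain ⟨z, hz, hzy⟩ := h2
      have : z = y := f.injective hzy
      exact this ▸ hz
    intro y hy
    exact h1 ⟨y, hy, rfl⟩
  · have := hC.simp
    have : Nontrivial (H' ⧸ K.comap f.toMonoidHom) := e.toEquiv.nontrivial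
    exact IsSimpleGroup.isSimpleGroup_of_surjective e.symm.toMonoidHom e.symm.surjective
  · refine ⟨⟨fun a b => e.symm.injective ?_⟩⟩
    rw [map_mul, map_mul]
    exact h.is_comm.comm _ _
  · have : (P : Subgroup H').map f.toMonoidHom = (P.comapOfInjective f.symm.toMonoidHom f.symm.injective (by
        intro x _
        exact ⟨f x, f.symm_apply_apply x⟩) : Subgroup H) := by
      ext y
      constructor
      · rintro ⟨x, hx, rfl⟩
        change f.symm (f x) ∈ (P : Subgroup H')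
        rw [f.symm_apply_apply]
        exact hx
      · intro hy
        exact ⟨f.symm y, hy, f.apply_symm_apply y⟩
    have h1 := hC.ab (P.comapOfInjective f.symm.toMonoidHom f.symm.injective (by
        intro x _
        exact ⟨f x, f.symm_apply_apply x⟩)) (f a) (by
          change f a ∈ (P.comapOfInjective f.symm.toMonoidHom f.symm.injective _ : Subgroup H)
          rw [← this]
          exact ⟨a, ha, rfl⟩) (f b) (by
          change f b ∈ (P.comapOfInjective f.symm.toMonoidHom f.symm.injective _ : Subgroup H)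
          rw [← this]
          exact ⟨b, hb, rfl⟩)
    apply f.injective
    rw [map_mul, map_mul]
    exact h1
  · rw [Subgroup.mem_center_iff]
    intro y
    apply f.injective
    rw [map_mul, map_mul]
    exact Subgroup.mem_center_iff.1 (hC.cen hx) (f y)
  · rw [eq_bot_iff]
    intro y hy
    have h1 : f.symm y ∈ N.comap f.toMonoidHom := by
      change f (f.symm y) ∈ N
      rwa [f.apply_symm_apply]
    rw [h, Subgroup.mem_bot] at h1
    rw [Subgroup.mem_bot]
    have h2 := congrArg f h1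
    rwa [f.apply_symm_apply, map_one] at h2
  · have := hC.nt
    exact g.toEquiv.nontrivial
  · rw [Subgroup.mem_comap]
    refine Iff.trans ?_ (hC.ker (f h))
    constructor
    · intro h1 v
      have h2 := h1 (g.symm v)
      have h3 := congrArg g h2
      rwa [hs, g.apply_symm_apply] at h3
    · intro h1 v
      apply g.injective
      rw [hs]
      exact h1 _
  · have h1 := hC.irr (W.map g.toAddMonoidHom) (by
      rintro h _ ⟨w, hw, rfl⟩
      refine ⟨f.symm h • w, hW _ w hw, ?_⟩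
      change g (f.symm h • w) = h • g w
      rw [hs, f.apply_symm_apply])
    rcases h1 with h1 | h1
    · left
      rw [eq_bot_iff]
      intro w hw
      have h2 : g w ∈ W.map g.toAddMonoidHom := ⟨w, hw, rfl⟩
      rw [h1, AddSubgroup.mem_bot] at h2
      rw [AddSubgroup.mem_bot]
      exact g.injective (h2.trans (map_zero g).symm)
    · right
      rw [eq_top_iff]
      intro w _
      have h2 : g w ∈ W.map g.toAddMonoidHom := by rw [h1]; trivial
      obtain ⟨w', hw', hww⟩ := h2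
      have : w' = w := g.injective hww
      exact this ▸ hw'
  · rw [stab_eq f g hs v, Subgroup.index_comap_of_surjective _ f.surjective]
    exact hC.P1 (g v)
  · let ε : ↥(MulAction.stabilizer H' v) ≃* ↥(MulAction.stabilizer H (g v)) :=
      (MulEquiv.subgroupCongr (stab_eq f g hs v)).trans (comapEquiv f (MulAction.stabilizer H (g v)))
    have hε : ∀ x, ((ε x : ↥(MulAction.stabilizer H (g v))) : H) = f x := fun x => rfl
    have h1 := hC.P2 (g v) (fun x => χ (ε.symm x))
      (Blocks.CliffordCentral.isIrrCharacter_comp hχ ε.symm.toMonoidHom ε.symm.surjective) (by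
        intro n hn hn'
        have hn1 : f.symm n ∈ N.comap f.toMonoidHom := by
          change f (f.symm n) ∈ N
          rwa [f.apply_symm_apply]
        have hn2 : f.symm n ∈ MulAction.stabilizer H' v := by
          rw [stab_eq f g hs v]
          change f (f.symm n) ∈ MulAction.stabilizer H (g v)
          rwa [f.apply_symm_apply]
        have h2 := hl (f.symm n) hn1 hn2
        have h3 : ε.symm ⟨n, hn'⟩ = ⟨f.symm n, hn2⟩ := by
          rw [MulEquiv.symm_apply_eq]
          apply Subtype.ext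
          rw [hε]
          exact (f.apply_symm_apply n).symm
        change χ (ε.symm ⟨n, hn'⟩) = χ (ε.symm 1) * φ ⟨n, hn⟩
        have h5 : comapEquiv f N ⟨f.symm n, hn1⟩ = ⟨n, hn⟩ := Subtype.ext (f.apply_symm_apply n)
        rw [h3, map_one, h2]
        change χ 1 * ((φ (comapEquiv f N ⟨f.symm n, hn1⟩) : ℂˣ) : ℂ) = _
        rw [h5])
    have h4 : charDegree (fun x : ↥(MulAction.stabilizer H (g v)) => χ (ε.symm x)) = charDegree χ := by
      change ⌊(χ (ε.symm 1)).re⌋₊ = ⌊(χ 1).re⌋₊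
      rw [map_one]
    rwa [h4] at h1

end stab

theorem exists_copy {H : Type u} {V : Type u} [Group H] [Finite H] [AddCommGroup V] [Finite V]
    [DistribMulAction H V] : ∃ (H' V' : Type v) (_ : Group H') (_ : Finite H') (_ : AddCommGroup V')
      (_ : Finite V') (_ : DistribMulAction H' V') (f : H' ≃* H) (g : V' ≃+ V),
      ∀ (h : H') (v : V'), g (h • v) = f h • g v := by
  have s1 : Small.{v, u} H := Countable.toSmall.{v, u} H
  have s2 : Small.{v, u} V := Countable.toSmall.{v, u} V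
  let f : Shrink.{v, u} H ≃* H := Shrink.mulEquiv
  let g : Shrink.{v, u} V ≃+ V := Shrink.addEquiv
  let A : DistribMulAction (Shrink.{v, u} H) (Shrink.{v, u} V) :=
    { smul := fun h v => g.symm (f h • g v)
      one_smul := fun v => by
        change g.symm (f 1 • g v) = v
        rw [map_one, one_smul, g.symm_apply_apply]
      mul_smul := fun a b v => by
        change g.symm (f (a * b) • g v) = g.symm (f a • g (g.symm (f b • g v)))
        rw [map_mul, mul_smul, g.apply_symm_apply]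
      smul_zero := fun a => by
        change g.symm (f a • g 0) = 0
        rw [map_zero, smul_zero, map_zero]
      smul_add := fun a v w => by
        change g.symm (f a • g (v + w)) = g.symm (f a • g v) + g.symm (f a • g w)
        rw [map_add, smul_add, map_add] }
  exact ⟨Shrink.{v, u} H, Shrink.{v, u} V, inferInstance, Finite.of_equiv H (equivShrink.{v, u} H),
    inferInstance, Finite.of_equiv V (equivShrink.{v, u} V), A, f, g, fun h v => g.apply_symm_apply _⟩

/-- Rows on the module side may be proved for an isomorphic group, in any universe. -/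
theorem EK.congr {S : Type u} [Group S] {T : Type v} [Group T] (e : S ≃* T) (h : EK.{v} p T) : EK.{u} p S := by
  intro H V _ _ _ _ _ K N φ π hC hπ hK hN
  obtain ⟨H', V', _, _, _, _, _, f, g, hs⟩ := exists_copy.{u, v} (H := H) (V := V)
  have hC' := CoreP.congr f g hs hC
  refine h H' V' _ _ _ (e.toMonoidHom.comp (π.comp f.toMonoidHom)) hC'
    ((e.surjective.comp hπ).comp f.surjective) ?_ ?_
  · ext x
    rw [card_ker_congr e f π, hK]
    rfl
  · intro k hk x
    change f ⁅k, x⁆ ∈ N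
    rw [map_commutatorElement]
    exact hN _ hk _

theorem Kill.congr {S : Type u} [Group S] {T : Type v} [Group T] (e : S ≃* T) (h : Kill.{v} p T) : Kill.{u} p S :=
  h.imp (NBall.congr e) (EK.congr e)

end Cfsg.Agent.H325.RIM
end

-- part: H795/RIM/Tool
section
set_option linter.all false
open scoped Cfsg.Agent.FastGrp

/-!
# S4816: the counting tools with a model of the simple group (helper795)

* `nball_of_cyclic` : `NBall p S` from the divisors of the order of a cyclic multiplier;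
* `nb_cent_model`, `nb_dz_model` : the counting tools of helper620 for `S ≃* A`, with a list of elements of `A`.
-/

set_option autoImplicit false
set_option linter.unusedSectionVars false

namespace Cfsg.Agent.H795.RIM

open Cfsg Subgroup
open Cfsg.Agent.H620.RIM Cfsg.Agent.H665.RIM
open Cfsg.Agent.H713 Cfsg.Agent.H713.Count

universe u v

/-- Only the divisors of the order of the multiplier. -/
theorem nball_of_cyclic {S : Type u} [Group S] {T : Type v} [Group T] {n p : ℕ} (e : S ≃* T)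
    (hT : Cfsg.HasCyclicSchurMultiplier T n) (h : ∀ m : ℕ, 2 ≤ m → m ∣ n → ¬ p ∣ m → NB p m S) : NBall p S := by
  intro m hm hpm E _ _ π hs hc hperf hk l hl
  have h1 : H51.Mult.PCE (e.toMonoidHom.comp π) := ⟨e.surjective.comp hs, by
    intro x hx
    have h2 : e (π x) = 1 := hx
    rw [e.map_eq_one_iff] at h2
    exact hc h2, hperf⟩
  have h2 := (H68.Bounds.ker_of_hasCyclic hT h1).2
  have h3 : (e.toMonoidHom.comp π).ker = π.ker := by
    ext x
    exact e.map_eq_one_iff
  rw [h3, hk] at h2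
  exact h m hm h2 hpm E π hs hc hperf hk l hl

/-- The multiplier has prime order. -/
theorem nball_of_prime {S : Type u} [Group S] {T : Type v} [Group T] {q p : ℕ} (hq : q.Prime) (e : S ≃* T)
    (hT : Cfsg.HasCyclicSchurMultiplier T q) (h : NB p q S) : NBall p S :=
  nball_of_cyclic e hT fun m hm hd _ => by
    rcases (Nat.dvd_prime hq).1 hd with h1 | h1
    · omega
    · rw [h1]; exact h

theorem not_isConj_map {S : Type u} [Group S] {A : Type v} [Group A] (e : A ≃* S) {a b : A} (h : ¬ IsConj a b) :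
    ¬ IsConj (e a) (e b) := by
  intro h1
  apply h
  obtain ⟨c, hc⟩ := isConj_iff.1 h1
  refine isConj_iff.2 ⟨e.symm c, ?_⟩
  have h2 := congrArg e.symm hc
  simpa using h2

theorem orderOf_map {S : Type u} [Group S] {A : Type v} [Group A] (e : A ≃* S) (a : A) : orderOf (e a) = orderOf a :=
  orderOf_injective e.toMonoidHom e.injective a

/-- Lists of elements of a model. -/
theorem exists_finset_model {m : ℕ} {S : Type u} [Group S] {A : Type v} [Group A] (e : A ≃* S) (L : List A)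
    (hL : L.Pairwise fun a b => ¬ IsConj a b) (hM : ∀ g ∈ L, MGood m g) :
    ∃ F : Finset (ConjClasses S), F.card = L.length ∧ ∀ C ∈ F, ∃ g : S, ConjClasses.mk g = C ∧ MGood m g := by
  obtain ⟨F, h1, h2⟩ := exists_finset (MGood (S := S) m) (L.map e) (by
    rw [List.pairwise_map]
    exact hL.imp fun h => not_isConj_map e h) (by
    intro g hg
    obtain ⟨a, ha, rfl⟩ := List.mem_map.1 hg
    exact (hM a ha).mulEquiv e)
  rw [List.length_map] at h1
  exact ⟨F, h1, h2⟩

/-- **The centralizer count with a model.** -/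
theorem nb_cent_model {p m : ℕ} (hp : p.Prime) (hpm : ¬ p ∣ m) {S : Type u} [Group S] {A : Type v} [Group A]
    (e : A ≃* S) {y : A} {n : ℕ} (hy : orderOf y = p ^ n) (L : List A) (hL : L.Pairwise fun a b => ¬ IsConj a b)
    (hM : ∀ g ∈ L, MGood m g) (hlt : Nat.card (centralizer ({y} : Set A)) < L.length) : NB p m S := by
  obtain ⟨F, h1, h2⟩ := exists_finset_model e L hL hM
  exact nb_of_cent hp hpm (y := e y) (n := n) (by rw [orderOf_map, hy]) F h2
    (by rwa [card_centralizer_congr, h1])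

/-- **The defect zero count with a model.**  `w` is the number of fusion exponents. -/
theorem nb_dz_model {p m : ℕ} [hp : Fact p.Prime] (hpm : ¬ p ∣ m) {S : Type u} [Group S] {A : Type v} [Group A] [Finite A]
    (e : A ≃* S) (hsq : ¬ p ^ 2 ∣ Nat.card A) {y : A} (hy : orderOf y = p) {k w k' : ℕ}
    (hC : Nat.card (centralizer ({y} : Set A)) = p * k) (hw : (fus (p := p) y).card = w)
    (hk' : ∀ C₀ : Subgroup A, C₀ ≤ centralizer {y} → Nat.card C₀ = k → Nat.card (ConjClasses C₀) ≤ k')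
    (L : List A) (hL : L.Pairwise fun a b => ¬ IsConj a b) (hM : ∀ g ∈ L, MGood m g)
    (hlt : k' * (w ^ 2 + (p - 1)) < w * L.length) : NB p m S := by
  obtain ⟨F, h1, h2⟩ := exists_finset_model e L hL hM
  refine nb_of_dz hp.out hpm (y := e y) (k := k) (w := w) (k' := k') ?_ ?_ ?_ ?_ ?_ F h2 (by rwa [h1])
  · rwa [← Nat.card_congr e.toEquiv]
  · rw [orderOf_map, hy]
  · rw [card_centralizer_congr, hC]
  · rw [card_normalizer_congr, card_normalizer_zpowers hy, hw, hC]
  · intro C₀ hC₀ hcard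
    have h3 : C₀.map e.symm.toMonoidHom ≤ centralizer {y} := by
      rintro _ ⟨x, hx, rfl⟩
      have h2 := hC₀ hx
      rw [mem_centralizer_singleton_iff] at h2 ⊢
      have h3 := congrArg e.symm h2
      rw [map_mul, map_mul, e.symm_apply_apply] at h3
      exact h3
    have h4 : Nat.card (C₀.map e.symm.toMonoidHom) = k := by
      rw [← hcard]
      exact (Nat.card_congr (C₀.equivMapOfInjective e.symm.toMonoidHom e.symm.injective).toEquiv).symm
    refine le_trans ?_ (hk' _ h3 h4)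
    have h6 : Finite (ConjClasses (C₀.map e.symm.toMonoidHom)) :=
      Finite.of_surjective _ (ConjClasses.mk_surjective (α := C₀.map e.symm.toMonoidHom))
    exact Nat.card_le_card_of_surjective _
      (ConjClasses.map_surjective (f := (C₀.equivMapOfInjective e.symm.toMonoidHom e.symm.injective).symm.toMonoidHom)
        (C₀.equivMapOfInjective e.symm.toMonoidHom e.symm.injective).symm.surjective)

/-- The number of fusion exponents by Sylow's theorem. -/
theorem fus_eq {p : ℕ} [hp : Fact p.Prime] {A : Type v} [Group A] [Finite A] (hsq : ¬ p ^ 2 ∣ Nat.card A) {y : A}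
    (hy : orderOf y = p) {k w : ℕ} (hC : Nat.card (centralizer ({y} : Set A)) = p * k)
    (hw : ∀ j ∈ Finset.Icc 1 (p - 1), j * k % p = Nat.card A / p % p → j = w) : (fus (p := p) y).card = w := by
  have hd : p ∣ Nat.card A := hy ▸ _root_.orderOf_dvd_natCard y
  have hf : (Nat.card A).factorization p = 1 := by
    refine le_antisymm ?_ ((hp.out.dvd_iff_one_le_factorization Nat.card_pos.ne').1 hd)
    by_contra hcon
    push Not at hcon
    exact hsq ((hp.out.pow_dvd_iff_le_factorization Nat.card_pos.ne').2 hcon)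
  have hyp : y ^ p = 1 := by rw [← hy]; exact pow_orderOf_eq_one y
  have h1 := card_fus_mul_card_sing (p := p) hyp
  have h2 := hp.out.one_lt
  refine hw _ ?_ (card_fus_mul hf hy hC)
  rw [Finset.mem_Icc]
  constructor
  · rcases Nat.eq_zero_or_pos (fus (p := p) y).card with h3 | h3
    · rw [h3, zero_mul] at h1; omega
    · exact h3
  · exact Nat.le_of_dvd (by omega) ⟨_, h1.symm⟩

/-- The case `C(y) = ⟨y⟩`. -/
theorem nb_dz_self {p m : ℕ} [hp : Fact p.Prime] (hpm : ¬ p ∣ m) {S : Type u} [Group S] {A : Type v} [Group A] [Finite A]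
    (e : A ≃* S) (hsq : ¬ p ^ 2 ∣ Nat.card A) {y : A} (hy : orderOf y = p) {w : ℕ}
    (hC : Nat.card (centralizer ({y} : Set A)) = p)
    (hw : ∀ j ∈ Finset.Icc 1 (p - 1), j * 1 % p = Nat.card A / p % p → j = w)
    (L : List A) (hL : L.Pairwise fun a b => ¬ IsConj a b) (hM : ∀ g ∈ L, MGood m g)
    (hlt : w ^ 2 + (p - 1) < w * L.length) : NB p m S := by
  have hC' : Nat.card (centralizer ({y} : Set A)) = p * 1 := by rw [hC, mul_one]
  refine nb_dz_model hpm e hsq hy (k := 1) (k' := 1) hC' (fus_eq hsq hy hC' hw) ?_ L hL hM (by rwa [one_mul])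
  intro C₀ _ hcard
  have h1 : Subsingleton C₀ := (Nat.card_eq_one_iff_unique.1 hcard).1
  have h2 : Subsingleton (ConjClasses C₀) := by
    refine ⟨fun a b => ?_⟩
    obtain ⟨a, rfl⟩ := ConjClasses.mk_surjective a
    obtain ⟨b, rfl⟩ := ConjClasses.mk_surjective b
    rw [Subsingleton.elim a b]
  have : Nat.card (ConjClasses C₀) = 1 := Nat.card_eq_one_iff_unique.2 ⟨h2, ⟨ConjClasses.mk 1⟩⟩
  exact this.le

end Cfsg.Agent.H795.RIM
end

-- part: H354/RIM/AltEight
section
prune_inst 0x220080000000000000080000000000001c010002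
set_option linter.all false
open scoped Cfsg.Agent.FastGrp

/-!
# S4816, module side of `A_8` at `p = 5` (helper354)

`ek_alt8`: `EK 5 S` for `S ≃* alternatingGroup (Fin 8)`.

Two Sylow `5`-subgroups generate `A_8` (Jordan), there are fewer than `5 ^ 4` of them, so `|V| ≤ 5 ^ 6`; the elementary
abelian group of order `8` and the element of order `7` normalising it give `|V| ≥ 5 ^ 7`.
-/

set_option autoImplicit false

namespace Cfsg.Agent.H354.RIM

open Cfsg Cfsg.Agent.H88.RIM Cfsg.Agent.H665.RIM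
open scoped Pointwise commutatorElement

universe u v

/-! ### permutations of eight points -/

/-- a five-cycle -/
def g1 : Equiv.Perm (Fin 8) := ⟨![1, 2, 3, 4, 0, 5, 6, 7], ![4, 0, 1, 2, 3, 5, 6, 7], by decide, by decide⟩

/-- a five-cycle -/
def g2 : Equiv.Perm (Fin 8) := ⟨![0, 1, 2, 4, 5, 6, 7, 3], ![0, 1, 2, 7, 3, 4, 5, 6], by decide, by decide⟩

/-- conjugates `g1` to `g2` -/
def hh : Equiv.Perm (Fin 8) := ⟨![3, 4, 5, 6, 7, 1, 0, 2], ![6, 5, 7, 0, 1, 2, 3, 4], by decide, by decide⟩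

/-- the three-cycle commuting with `g1` -/
def uu : Equiv.Perm (Fin 8) := ⟨![0, 1, 2, 3, 4, 6, 7, 5], ![0, 1, 2, 3, 4, 7, 5, 6], by decide, by decide⟩

/-- order seven -/
def yy : Equiv.Perm (Fin 8) := ⟨![0, 2, 4, 6, 3, 1, 7, 5], ![0, 5, 1, 4, 2, 7, 3, 6], by decide, by decide⟩

/-- the translations of `F_2^3` -/
def tr (a : Fin 8) : Equiv.Perm (Fin 8) := ⟨fun x => x ^^^ a, fun x => x ^^^ a, by
  revert a; decide, by revert a; decide⟩

theorem block_aux : ∀ B : Finset (Fin 8), (B.image g1 = B ∨ Disjoint (B.image g1) B) →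
    (B.image g2 = B ∨ Disjoint (B.image g2) B) →
    (B.image (g2 * g1 * g1 * g2) = B ∨ Disjoint (B.image (g2 * g1 * g1 * g2)) B) → B.card ≤ 1 ∨ B = Finset.univ := by
  decide +kernel

theorem trans_aux : ∀ x : Fin 8, ∃ a b : Fin 5, (g2 ^ (b : ℕ) * g1 ^ (a : ℕ)) 0 = x := by decide +kernel

theorem isPreprimitive_of {G : Subgroup (Equiv.Perm (Fin 8))} (h1 : g1 ∈ G) (h2 : g2 ∈ G) :
    MulAction.IsPreprimitive G (Fin 8) := by
  have h0 : ∀ x : Fin 8, ∃ g : G, g • (0 : Fin 8) = x := by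
    intro x
    obtain ⟨a, b, h⟩ := trans_aux x
    exact ⟨⟨g2 ^ (b : ℕ) * g1 ^ (a : ℕ), G.mul_mem (G.pow_mem h2 _) (G.pow_mem h1 _)⟩, h⟩
  have htr : MulAction.IsPretransitive G (Fin 8) := by
    refine ⟨fun x y => ?_⟩
    obtain ⟨a, ha⟩ := h0 x
    obtain ⟨b, hb⟩ := h0 y
    exact ⟨b * a⁻¹, by rw [← ha, ← hb, smul_smul, inv_mul_cancel_right]⟩
  refine { isTrivialBlock_of_isBlock := ?_ }
  intro B hB
  classical
  have key : ∀ g ∈ G, B.toFinset.image g = B.toFinset ∨ Disjoint (B.toFinset.image g) B.toFinset := by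
    intro g hg
    have h3 := hB.smul_eq_or_disjoint ⟨g, hg⟩
    have h4 : ((B.toFinset.image g : Finset (Fin 8)) : Set (Fin 8)) = (⟨g, hg⟩ : G) • B := by
      rw [Finset.coe_image, Set.coe_toFinset]
      rfl
    rcases h3 with h3 | h3
    · left
      apply Finset.coe_injective
      rw [h4, h3, Set.coe_toFinset]
    · right
      rw [← Finset.disjoint_coe, h4, Set.coe_toFinset]
      exact h3
  rcases block_aux B.toFinset (key g1 h1) (key g2 h2)
    (key _ (G.mul_mem (G.mul_mem (G.mul_mem h2 h1) h1) h2)) with h | h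
  · left
    rw [Finset.card_le_one_iff_subsingleton_coe] at h
    intro x hx y hy
    have := h.elim ⟨x, by simpa using hx⟩ ⟨y, by simpa using hy⟩
    exact congrArg Subtype.val this
  · right
    rw [← Set.coe_toFinset B, h, Finset.coe_univ]

theorem g1_isCycle : g1.IsCycle := by
  refine ⟨0, by decide, ?_⟩
  intro y hy
  have : ∀ y : Fin 8, g1 y ≠ y → ∃ i : Fin 5, (g1 ^ (i : ℕ)) 0 = y := by decide +kernel
  obtain ⟨i, hi⟩ := this y hy
  exact ⟨(i : ℕ), by rw [zpow_natCast]; exact hi⟩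

/-- two five-cycles generate -/
theorem alt_le {G : Subgroup (Equiv.Perm (Fin 8))} (h1 : g1 ∈ G) (h2 : g2 ∈ G) : alternatingGroup (Fin 8) ≤ G :=
  Cfsg.Agent.S0713.result G (isPreprimitive_of h1 h2) (p := 5) (by norm_num) (by norm_num) (by norm_num)
    g1_isCycle (by decide +kernel) h1

abbrev A8 := alternatingGroup (Fin 8)

def a1 : A8 := ⟨g1, by rw [Equiv.Perm.mem_alternatingGroup]; decide +kernel⟩
def a2 : A8 := ⟨g2, by rw [Equiv.Perm.mem_alternatingGroup]; decide +kernel⟩
def ah : A8 := ⟨hh, by rw [Equiv.Perm.mem_alternatingGroup]; decide +kernel⟩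
def au : A8 := ⟨uu, by rw [Equiv.Perm.mem_alternatingGroup]; decide +kernel⟩
def ay : A8 := ⟨yy, by rw [Equiv.Perm.mem_alternatingGroup]; decide +kernel⟩

theorem card_A8 : Nat.card A8 = 20160 := by
  have h : 2 * Nat.card A8 = Nat.card (Equiv.Perm (Fin 8)) := two_mul_nat_card_alternatingGroup (α := Fin 8)
  rw [Nat.card_perm, Nat.card_fin] at h
  have h8 : Nat.factorial 8 = 40320 := by decide
  omega

instance factFive : Fact (Nat.Prime 5) := ⟨by norm_num⟩

/-- the Sylow subgroup -/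
theorem orderOf_a1 : orderOf a1 = 5 :=
  orderOf_eq_prime (Subtype.ext (show g1 ^ 5 = 1 by decide +kernel)) (fun h => absurd (congrArg Subtype.val h)
    (show g1 ≠ 1 by decide +kernel))

theorem card_z1 : Nat.card (Subgroup.zpowers a1) = 5 := by rw [Nat.card_zpowers, orderOf_a1]

theorem isPGroup_z1 : IsPGroup 5 (Subgroup.zpowers a1) :=
  IsPGroup.of_card (n := 1) (by rw [card_z1, pow_one])

theorem index_z1 : (Subgroup.zpowers a1).index = 4032 := by
  have h := (Subgroup.zpowers a1).card_mul_index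
  rw [card_z1, card_A8] at h
  omega

def P5 : Sylow 5 A8 := isPGroup_z1.toSylow (by rw [index_z1]; norm_num)

theorem card_sylow_lt : Nat.card (Sylow 5 A8) < 625 := by
  have h1 := Sylow.card_eq_index_normalizer P5
  have h2 := card_sylow_modEq_one 5 A8
  set N : Subgroup A8 := Subgroup.normalizer ((P5 : Subgroup A8) : Set A8) with hN
  have h3 : a1 * au ∈ N := by
    have h4 : au * a1 = a1 * au := by
      apply Subtype.ext
      show uu * g1 = g1 * uu
      decide +kernel
    refine N.mul_mem (Subgroup.le_normalizer (Subgroup.mem_zpowers a1)) ?_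
    refine Subgroup.mem_normalizer_fintype fun n hn => ?_
    obtain ⟨i, rfl⟩ := Subgroup.mem_zpowers_iff.1 (show n ∈ Subgroup.zpowers a1 from hn)
    have h5 : au * a1 ^ i * au⁻¹ = a1 ^ i := by
      have : Commute au (a1 ^ i) := Commute.zpow_right h4 i
      rw [this.eq, mul_inv_cancel_right]
    rw [h5]
    exact hn
  have h5 : orderOf (⟨a1 * au, h3⟩ : N) = 15 := by
    rw [Subgroup.orderOf_mk]
    have h6 : orderOf (a1 * au) = orderOf (g1 * uu) := (Subgroup.orderOf_coe (a1 * au)).symm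
    rw [h6, orderOf_eq_iff (by norm_num)]
    refine ⟨by decide +kernel, ?_⟩
    intro m hm hm0
    have : ∀ m : Fin 15, 0 < (m : ℕ) → (g1 * uu) ^ (m : ℕ) ≠ 1 := by decide +kernel
    exact this ⟨m, hm⟩ hm0
  have h6 : 15 ∣ Nat.card N := h5 ▸ orderOf_dvd_natCard _
  have h7 := N.card_mul_index
  rw [card_A8] at h7
  obtain ⟨k, hk⟩ := h6
  have h8 : N.index ∣ 1344 := by
    refine ⟨k, ?_⟩
    rw [hk] at h7
    have h9 : 15 * (N.index * k) = 15 * 1344 := by
      rw [← show 15 * k * N.index = 15 * (N.index * k) by ring, h7]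
    exact (Nat.eq_of_mul_eq_mul_left (by norm_num) h9).symm
  rw [h1] at h2 ⊢
  have h9 : ∀ n ∈ Nat.divisors 1344, n ≡ 1 [MOD 5] → n < 625 := by (rewrite [Cfsg.Agent.Lib.DivFast.divisors_eq]; decide +kernel)
  exact h9 _ (Nat.mem_divisors.2 ⟨h8, by norm_num⟩) h2

/-- two Sylow subgroups generate -/
theorem sup_eq_top : (P5 : Subgroup A8) ⊔ MulAut.conj ah • (P5 : Subgroup A8) = ⊤ := by
  set D : Subgroup A8 := (P5 : Subgroup A8) ⊔ MulAut.conj ah • (P5 : Subgroup A8) with hD
  have h1 : a1 ∈ D := (le_sup_left : (P5 : Subgroup A8) ≤ D) (Subgroup.mem_zpowers a1)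
  have h2 : a2 ∈ D := by
    apply (le_sup_right : MulAut.conj ah • (P5 : Subgroup A8) ≤ D)
    refine ⟨a1, Subgroup.mem_zpowers a1, ?_⟩
    apply Subtype.ext
    show hh * g1 * hh⁻¹ = g2
    decide +kernel
  have h3 := alt_le (G := D.map (alternatingGroup (Fin 8)).subtype) ⟨a1, h1, rfl⟩ ⟨a2, h2, rfl⟩
  rw [Subgroup.eq_top_iff']
  intro x
  obtain ⟨y, hy, hyx⟩ := h3 x.2
  have : y = x := Subtype.ext hyx
  exact this ▸ hy

/-- the elementary abelian group of order eight -/
def EE : Subgroup A8 where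
  carrier := {g | ∃ a : Fin 8, (g : Equiv.Perm (Fin 8)) = tr a}
  one_mem' := ⟨0, by show (1 : Equiv.Perm (Fin 8)) = tr 0; decide +kernel⟩
  mul_mem' := by
    rintro x y ⟨a, ha⟩ ⟨b, hb⟩
    refine ⟨a ^^^ b, ?_⟩
    rw [Subgroup.coe_mul, ha, hb]
    clear ha hb
    revert a b
    decide +kernel
  inv_mem' := by
    rintro x ⟨a, ha⟩
    refine ⟨a, ?_⟩
    rw [Subgroup.coe_inv, ha]
    clear ha
    revert a
    decide +kernel

theorem isPGroup_EE : IsPGroup 2 EE := by
  rintro ⟨x, a, ha⟩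
  refine ⟨1, ?_⟩
  apply Subtype.ext
  apply Subtype.ext
  show (x : Equiv.Perm (Fin 8)) ^ 2 ^ 1 = 1
  rw [ha]
  clear ha
  revert a
  decide +kernel

theorem not_dvd_EE : ¬ 5 ∣ Nat.card EE := by
  intro h
  obtain ⟨n, hn⟩ := IsPGroup.iff_card.1 isPGroup_EE
  rw [hn] at h
  exact absurd ((by norm_num : Nat.Prime 5).dvd_of_dvd_pow h) (by norm_num)

section mod

variable {V : Type v} [AddCommGroup V] [Finite V]

theorem card_pow (hV : ∀ v : V, 5 • v = 0) : ∃ d, Nat.card V = 5 ^ d := by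
  let _ : Module (ZMod 5) V := AddCommGroup.zmodModule hV
  refine ⟨Module.finrank (ZMod 5) V, ?_⟩
  rw [Module.natCard_eq_pow_finrank (K := ZMod 5), Nat.card_zmod]

variable [DistribMulAction A8 V]

/-- the lower bound -/
theorem seven_le {d : ℕ} (hV : ∀ v : V, 5 • v = 0) (hd : Nat.card V = 5 ^ d)
    (hf : ∀ h : A8, (∀ v : V, h • v = v) → h = 1) : 7 ≤ d := by
  have hy7 : ay ^ 7 = 1 := Subtype.ext (show yy ^ 7 = 1 by decide +kernel)
  have hy1 : ay ≠ 1 := fun h => absurd (congrArg Subtype.val h) (show yy ≠ 1 by decide +kernel)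
  obtain ⟨v, hv0, hv⟩ := exists_fixed (V := V) (p := 5) (s := 7) (by norm_num) (by norm_num) hy7 EE
    (by
      rintro x ⟨a, ha⟩
      refine ⟨yy a, ?_⟩
      show yy * (x : Equiv.Perm (Fin 8)) * yy⁻¹ = _
      rw [ha]
      clear ha
      revert a
      decide +kernel)
    (by
      rintro x ⟨a, ha⟩ y ⟨b, hb⟩
      apply Subtype.ext
      show (x : Equiv.Perm (Fin 8)) * y = y * x
      rw [ha, hb]
      clear ha hb
      revert a b
      decide +kernel) not_dvd_EE hV (fun h _ => hf h)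
    ⟨⟨tr 1, by rw [Equiv.Perm.mem_alternatingGroup]; decide +kernel⟩, ⟨1, rfl⟩, fun h =>
      absurd (congrArg Subtype.val h) (show yy * tr 1 * yy⁻¹ ≠ tr 1 by decide +kernel)⟩
  have hp7 : Fact (Nat.Prime 7) := ⟨by norm_num⟩
  have ho : orderOf ay = 7 := orderOf_eq_prime hy7 hy1
  have hpg : IsPGroup 7 (Subgroup.zpowers ay) := IsPGroup.of_card (n := 1) (by rw [Nat.card_zpowers, ho, pow_one])
  have h1 := hpg.card_modEq_card_fixedPoints V
  have h2 : Nat.card (MulAction.fixedPoints (Subgroup.zpowers ay) V) = Nat.card (fxV V (Subgroup.zpowers ay)) := by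
    refine Nat.card_congr (Equiv.setCongr ?_)
    ext w
    constructor
    · intro h g hg
      exact h ⟨g, hg⟩
    · intro h g
      exact h g g.2
  have h3 : Nat.card (fxV V (Subgroup.zpowers ay)) ∣ 5 ^ d := hd ▸ AddSubgroup.card_addSubgroup_dvd_card _
  obtain ⟨c, hcd, hc⟩ := (Nat.dvd_prime_pow (by norm_num : Nat.Prime 5)).1 h3
  have h4 : c ≠ 0 := by
    rintro rfl
    rw [pow_zero] at hc
    have h5 := (Nat.card_eq_one_iff_unique.1 hc).1
    have h6 : v ∈ fxV V (Subgroup.zpowers ay) := by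
      intro g hg
      obtain ⟨i, rfl⟩ := Subgroup.mem_zpowers_iff.1 hg
      have h7 : Subgroup.zpowers ay ≤ MulAction.stabilizer A8 v := by
        rw [Subgroup.zpowers_le]
        exact hv
      exact h7 hg
    exact hv0 (congrArg Subtype.val (h5.elim ⟨v, h6⟩ 0))
  have h5 : c ≠ d := by
    rintro rfl
    apply hy1
    apply hf
    have h6 : fxV V (Subgroup.zpowers ay) = ⊤ := by
      apply AddSubgroup.eq_top_of_card_eq
      rw [hc, hd]
    intro w
    have h7 : w ∈ fxV V (Subgroup.zpowers ay) := by rw [h6]; exact AddSubgroup.mem_top w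
    exact h7 ay (Subgroup.mem_zpowers ay)
  rw [h2, hc, hd] at h1
  by_contra hcon
  push Not at hcon
  have key : ∀ c d : Fin 7, (c : ℕ) ≠ 0 → (c : ℕ) < d → ¬ 5 ^ (d : ℕ) ≡ 5 ^ (c : ℕ) [MOD 7] := by decide +kernel
  exact key ⟨c, by omega⟩ ⟨d, hcon⟩ h4 (show c < d by omega) h1

/-- **The module side.** -/
theorem core (hV : ∀ v : V, 5 • v = 0) (h0 : ∀ v : V, (∀ h : A8, h • v = v) → v = 0)
    (hf : ∀ h : A8, (∀ v : V, h • v = v) → h = 1)
    (horb : ∀ v : V, ¬ 5 ∣ (MulAction.stabilizer A8 v).index) : False := by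
  obtain ⟨d, hd⟩ := card_pow hV
  have h1 := seven_le hV hd hf
  have h2 := (index_le_card_sylow (V := V) P5 horb).trans_lt card_sylow_lt
  have h3 : (fxV V (P5 : Subgroup A8)).index ∣ 5 ^ d := hd ▸ AddSubgroup.index_dvd_card _
  obtain ⟨c, -, hc⟩ := (Nat.dvd_prime_pow (by norm_num : Nat.Prime 5)).1 h3
  rw [hc] at h2
  have h4 : c < 4 := (Nat.pow_lt_pow_iff_right (by norm_num : 1 < 5)).1 (h2.trans_eq (by norm_num))
  have h5 := card_le_pow (V := V) h0 (P5 : Subgroup A8) (k := 1) (fun _ => ah) (by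
    rw [ciSup_const]
    exact sup_eq_top)
  rw [hc, hd, ← pow_mul] at h5
  have h6 := (Nat.pow_le_pow_iff_right (by norm_num : 1 < 5)).1 h5
  omega

end mod

/-! ### the row -/

/-- **`EK` from the simple group**, if a perfect central extension has kernel of order at most two -/
theorem ek_of_two {S : Type u} [Group S] {p : ℕ}
    (h2 : ∀ (H : Type u) [Group H] [Finite H] (π : H →* S), Function.Surjective π → π.ker ≤ Subgroup.center H →
      commutator H = ⊤ → Nat.card π.ker ≤ 2)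
    (hno : ∀ (V : Type u) [AddCommGroup V] [Finite V] [DistribMulAction S V], (∀ v : V, p • v = 0) →
      (∀ v : V, (∀ h : S, h • v = v) → v = 0) → (∀ h : S, (∀ v : V, h • v = v) → h = 1) →
      (∀ v : V, ¬ p ∣ (MulAction.stabilizer S v).index) → False) : EK p S := by
  intro H V _ _ _ _ _ K N φ π hC hπ hker hcen
  have hperf : Group.IsPerfect H := ⟨hC.perf⟩
  have hKc : K ≤ Subgroup.center H := fun k hk =>
    Cfsg.Agent.H487.mem_center_of_commutator_mem_center hperf k fun h => hC.cen (hcen k hk h)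
  have hcard : Nat.card K ≤ 2 := by
    have := h2 H π hπ (by rw [hker]; exact hKc) hC.perf
    rwa [hker] at this
  have hNK : N = K := by
    apply Subgroup.eq_of_le_of_card_ge hC.NK
    have h6 : Nat.card N ≠ 1 := fun h => hC.Nne (Subgroup.card_eq_one.1 h)
    have h7 : 0 < Nat.card N := Nat.card_pos
    omega
  let e : H ⧸ π.ker ≃* S := QuotientGroup.quotientKerEquivOfSurjective π hπ
  let τ : H →* AddMonoid.End V := DistribMulAction.toAddMonoidEnd H V
  have hτk : π.ker ≤ τ.ker := by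
    intro x hx
    rw [hker, ← hNK] at hx
    rw [MonoidHom.mem_ker]
    apply AddMonoidHom.ext
    intro v
    exact (hC.ker x).2 hx v
  let ρ : S →* AddMonoid.End V := (QuotientGroup.lift π.ker τ hτk).comp e.symm.toMonoidHom
  have hρ : ∀ h : H, ρ (π h) = τ h := by
    intro h
    have : e.symm (π h) = (h : H ⧸ π.ker) := by
      rw [MulEquiv.symm_apply_eq]
      rfl
    change QuotientGroup.lift π.ker τ hτk (e.symm (π h)) = _
    rw [this]
    rfl
  let _ : DistribMulAction S V :=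
    { smul := fun g w => ρ g w
      one_smul := fun w => by change ρ 1 w = w; rw [map_one]; rfl
      mul_smul := fun a b w => by change ρ (a * b) w = ρ a (ρ b w); rw [map_mul]; rfl
      smul_zero := fun a => map_zero (ρ a)
      smul_add := fun a v w => map_add (ρ a) v w }
  have hsm : ∀ (h : H) (v : V), π h • v = h • v := by
    intro h v
    change ρ (π h) v = h • v
    rw [hρ]
    rfl
  refine hno V hC.exp ?_ ?_ ?_
  · intro v hv
    let W : AddSubgroup V :=
      { carrier := {w | ∀ h : H, h • w = w}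
        zero_mem' := fun h => smul_zero h
        add_mem' := fun {a b} ha hb h => by rw [smul_add, ha h, hb h]
        neg_mem' := fun {a} ha h => by rw [smul_neg, ha h] }
    have hW := hC.irr W (fun h w hw => by
      intro h'
      have h1 : h • w = w := hw h
      rw [h1]; exact hw h')
    have hvW : v ∈ W := fun h => by rw [← hsm]; exact hv (π h)
    rcases hW with hW | hW
    · rw [hW] at hvW
      exact AddSubgroup.mem_bot.1 hvW
    · exfalso
      apply hC.Kt
      rw [← hNK, Subgroup.eq_top_iff']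
      intro h
      rw [← hC.ker h]
      intro w
      have : w ∈ W := by rw [hW]; exact AddSubgroup.mem_top w
      exact this h
  · intro s hs
    obtain ⟨h, rfl⟩ := hπ s
    have h1 : h ∈ N := (hC.ker h).1 fun v => by rw [← hsm]; exact hs v
    rw [hNK, ← hker] at h1
    exact h1
  · intro v
    have h1 := hC.P1 v
    have h2 : MulAction.orbit S v = MulAction.orbit H v := by
      ext w
      constructor
      · rintro ⟨s, rfl⟩
        obtain ⟨h, rfl⟩ := hπ s
        exact ⟨h, (hsm h v).symm⟩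
      · rintro ⟨h, rfl⟩
        exact ⟨π h, hsm h v⟩
    rw [MulAction.index_stabilizer] at h1 ⊢
    rw [h2]
    exact h1

/-- **The module side of `A_8` at `5`** -/
theorem ek_alt8 {S : Type u} [Group S] (e : S ≃* alternatingGroup (Fin 8)) : EK 5 S := by
  apply ek_of_two
  · intro H _ _ π hπ hc hH
    exact Cfsg.Agent.S0892.result 8 (by norm_num) (by norm_num) (by norm_num) π.ker hc (by rw [hH]; exact le_top)
      ((QuotientGroup.quotientKerEquivOfSurjective π hπ).trans e)
  · intro V _ _ _ hV h0 hf horb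
    let _ : DistribMulAction A8 V := DistribMulAction.compHom V e.symm.toMonoidHom
    have hsm : ∀ (s : S) (v : V), e s • v = s • v := by
      intro s v
      change e.symm (e s) • v = s • v
      rw [e.symm_apply_apply]
    refine core hV ?_ ?_ ?_
    · intro v hv
      exact h0 v fun s => by rw [← hsm]; exact hv (e s)
    · intro g hg
      have h1 := hf (e.symm g) fun v => by rw [← hsm, e.apply_symm_apply]; exact hg v
      have h2 := congrArg e h1
      rwa [e.apply_symm_apply, map_one] at h2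
    · intro v
      have h1 := horb v
      have h2 : MulAction.orbit A8 v = MulAction.orbit S v := by
        ext w
        constructor
        · rintro ⟨g, rfl⟩
          exact ⟨e.symm g, rfl⟩
        · rintro ⟨s, rfl⟩
          exact ⟨e s, hsm s v⟩
      rw [MulAction.index_stabilizer] at h1 ⊢
      rw [h2]
      exact h1

end Cfsg.Agent.H354.RIM
end

-- part: H395/RIM/EKPsl
section
prune_inst 0x675503d653fc0100000040512d0005ef6e70005900048880008e60d440581ee620902a860bea0051a1808820c0039006817001cb4620000000a840400013d078918888606f1c9a01980009680028c61000220080000000000000080000000000401c410002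
set_option linter.all false
open scoped Cfsg.Agent.FastGrp

-- part: H395/RIM/SLFix
section
/-!
# `SL 2 F` acting on a group `V` such that every element is fixed by a conjugate of the unipotent group
(task 6184 of S4816, helper395)
-/

set_option autoImplicit false
set_option linter.unusedSimpArgs false
set_option linter.unusedTactic false
set_option linter.unreachableTactic false

namespace Cfsg.Agent.H395.RIM.SLFix

open Matrix
open scoped commutatorElement

universe u v

variable {F : Type v} [Field F]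

/-- upper unipotent -/
def uu (x : F) : _root_.Matrix.SpecialLinearGroup (Fin 2) F := ⟨!![1, x; 0, 1], by simp [Matrix.det_fin_two]⟩

/-- lower unipotent -/
def ll (x : F) : _root_.Matrix.SpecialLinearGroup (Fin 2) F := ⟨!![1, 0; x, 1], by simp [Matrix.det_fin_two]⟩

/-- the Weyl element -/
def ww : _root_.Matrix.SpecialLinearGroup (Fin 2) F := ⟨!![0, 1; -1, 0], by simp [Matrix.det_fin_two]⟩

/-- entries -/
def en (g : _root_.Matrix.SpecialLinearGroup (Fin 2) F) (i j : Fin 2) : F := (g : Matrix (Fin 2) (Fin 2) F) i j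

theorem ext2 {g h : _root_.Matrix.SpecialLinearGroup (Fin 2) F} (h00 : en g 0 0 = en h 0 0) (h01 : en g 0 1 = en h 0 1)
    (h10 : en g 1 0 = en h 1 0) (h11 : en g 1 1 = en h 1 1) : g = h := by
  apply Subtype.ext
  ext i j
  fin_cases i <;> fin_cases j
  · exact h00
  · exact h01
  · exact h10
  · exact h11

theorem en_mul (g h : _root_.Matrix.SpecialLinearGroup (Fin 2) F) (i j : Fin 2) :
    en (g * h) i j = en g i 0 * en h 0 j + en g i 1 * en h 1 j := by
  simp only [en, Matrix.mul_apply, Fin.sum_univ_two, _root_.Matrix.SpecialLinearGroup.coe_mul, _root_.Fin.isValue]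

theorem en_one00 : en (1 : _root_.Matrix.SpecialLinearGroup (Fin 2) F) 0 0 = 1 := by simp [en]
theorem en_one01 : en (1 : _root_.Matrix.SpecialLinearGroup (Fin 2) F) 0 1 = 0 := by simp [en]
theorem en_one10 : en (1 : _root_.Matrix.SpecialLinearGroup (Fin 2) F) 1 0 = 0 := by simp [en]
theorem en_one11 : en (1 : _root_.Matrix.SpecialLinearGroup (Fin 2) F) 1 1 = 1 := by simp [en]
theorem en_neg00 : en (-1 : _root_.Matrix.SpecialLinearGroup (Fin 2) F) 0 0 = -1 := by simp [en]
theorem en_neg01 : en (-1 : _root_.Matrix.SpecialLinearGroup (Fin 2) F) 0 1 = 0 := by simp [en]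
theorem en_neg10 : en (-1 : _root_.Matrix.SpecialLinearGroup (Fin 2) F) 1 0 = 0 := by simp [en]
theorem en_neg11 : en (-1 : _root_.Matrix.SpecialLinearGroup (Fin 2) F) 1 1 = -1 := by simp [en]
theorem en_uu00 (x : F) : en (uu x) 0 0 = 1 := rfl
theorem en_uu01 (x : F) : en (uu x) 0 1 = x := rfl
theorem en_uu10 (x : F) : en (uu x) 1 0 = 0 := rfl
theorem en_uu11 (x : F) : en (uu x) 1 1 = 1 := rfl
theorem en_ll00 (x : F) : en (ll x) 0 0 = 1 := rfl
theorem en_ll01 (x : F) : en (ll x) 0 1 = 0 := rfl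
theorem en_ll10 (x : F) : en (ll x) 1 0 = x := rfl
theorem en_ll11 (x : F) : en (ll x) 1 1 = 1 := rfl
theorem en_ww00 : en (ww : _root_.Matrix.SpecialLinearGroup (Fin 2) F) 0 0 = 0 := rfl
theorem en_ww01 : en (ww : _root_.Matrix.SpecialLinearGroup (Fin 2) F) 0 1 = 1 := rfl
theorem en_ww10 : en (ww : _root_.Matrix.SpecialLinearGroup (Fin 2) F) 1 0 = -1 := rfl
theorem en_ww11 : en (ww : _root_.Matrix.SpecialLinearGroup (Fin 2) F) 1 1 = 0 := rfl
theorem en_inv00 (g : _root_.Matrix.SpecialLinearGroup (Fin 2) F) : en (g⁻¹) 0 0 = en g 1 1 := by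
  simp [en, SpecialLinearGroup.coe_inv, Matrix.adjugate_fin_two]
theorem en_inv01 (g : _root_.Matrix.SpecialLinearGroup (Fin 2) F) : en (g⁻¹) 0 1 = - en g 0 1 := by
  simp [en, SpecialLinearGroup.coe_inv, Matrix.adjugate_fin_two]
theorem en_inv10 (g : _root_.Matrix.SpecialLinearGroup (Fin 2) F) : en (g⁻¹) 1 0 = - en g 1 0 := by
  simp [en, SpecialLinearGroup.coe_inv, Matrix.adjugate_fin_two]
theorem en_inv11 (g : _root_.Matrix.SpecialLinearGroup (Fin 2) F) : en (g⁻¹) 1 1 = en g 0 0 := by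
  simp [en, SpecialLinearGroup.coe_inv, Matrix.adjugate_fin_two]

theorem det_eq (g : _root_.Matrix.SpecialLinearGroup (Fin 2) F) : en g 0 0 * en g 1 1 - en g 0 1 * en g 1 0 = 1 := by
  have := g.2
  rwa [Matrix.det_fin_two] at this

theorem uu_add (x y : F) : uu (x + y) = uu x * uu y := by
  apply ext2 <;> simp only [en_mul, en_one00, en_one01, en_one10, en_one11, en_neg00, en_neg01, en_neg10, en_neg11,
    en_uu00, en_uu01, en_uu10, en_uu11, en_ll00, en_ll01, en_ll10, en_ll11, en_ww00, en_ww01, en_ww10, en_ww11,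
    en_inv00, en_inv01, en_inv10, en_inv11] <;> ring

theorem uu_zero : uu (0 : F) = 1 := by
  apply ext2 <;> simp only [en_mul, en_one00, en_one01, en_one10, en_one11, en_neg00, en_neg01, en_neg10, en_neg11,
    en_uu00, en_uu01, en_uu10, en_uu11, en_ll00, en_ll01, en_ll10, en_ll11, en_ww00, en_ww01, en_ww10, en_ww11,
    en_inv00, en_inv01, en_inv10, en_inv11]

theorem uu_neg (x : F) : (uu x)⁻¹ = uu (-x) := by
  rw [inv_eq_iff_mul_eq_one, ← uu_add, add_neg_cancel, uu_zero]

/-- an element with nonzero lower left entry is a product -/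
theorem eq_mul {g : _root_.Matrix.SpecialLinearGroup (Fin 2) F} (hc : en g 1 0 ≠ 0) :
    g = uu ((en g 0 0 - 1) / en g 1 0) * ll (en g 1 0) * uu ((en g 1 1 - 1) / en g 1 0) := by
  have hd := det_eq g
  apply ext2
  · simp only [en_mul, en_one00, en_one01, en_one10, en_one11, en_neg00, en_neg01, en_neg10, en_neg11,
    en_uu00, en_uu01, en_uu10, en_uu11, en_ll00, en_ll01, en_ll10, en_ll11, en_ww00, en_ww01, en_ww10, en_ww11,
    en_inv00, en_inv01, en_inv10, en_inv11]; field_simp; ring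
  · simp only [en_mul, en_one00, en_one01, en_one10, en_one11, en_neg00, en_neg01, en_neg10, en_neg11,
    en_uu00, en_uu01, en_uu10, en_uu11, en_ll00, en_ll01, en_ll10, en_ll11, en_ww00, en_ww01, en_ww10, en_ww11,
    en_inv00, en_inv01, en_inv10, en_inv11]; field_simp; linear_combination (-1 : F) * hd
  · simp only [en_mul, en_one00, en_one01, en_one10, en_one11, en_neg00, en_neg01, en_neg10, en_neg11,
    en_uu00, en_uu01, en_uu10, en_uu11, en_ll00, en_ll01, en_ll10, en_ll11, en_ww00, en_ww01, en_ww10, en_ww11,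
    en_inv00, en_inv01, en_inv10, en_inv11]; ring
  · simp only [en_mul, en_one00, en_one01, en_one10, en_one11, en_neg00, en_neg01, en_neg10, en_neg11,
    en_uu00, en_uu01, en_uu10, en_uu11, en_ll00, en_ll01, en_ll10, en_ll11, en_ww00, en_ww01, en_ww10, en_ww11,
    en_inv00, en_inv01, en_inv10, en_inv11]; field_simp; ring

/-- conjugates of the unipotent elements -/
theorem ll_eq {x : _root_.Matrix.SpecialLinearGroup (Fin 2) F} (hc : en x 1 0 ≠ 0) (y : F) :
    ll y = (uu (en x 0 0 / en x 1 0))⁻¹ * (x * uu (-y / (en x 1 0) ^ 2) * x⁻¹) * uu (en x 0 0 / en x 1 0) := by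
  have hd := det_eq x
  apply ext2
  · simp only [en_mul, en_one00, en_one01, en_one10, en_one11, en_neg00, en_neg01, en_neg10, en_neg11,
    en_uu00, en_uu01, en_uu10, en_uu11, en_ll00, en_ll01, en_ll10, en_ll11, en_ww00, en_ww01, en_ww10, en_ww11,
    en_inv00, en_inv01, en_inv10, en_inv11]; field_simp; linear_combination (-(en x 1 0) ^ 2) * hd
  · simp only [en_mul, en_one00, en_one01, en_one10, en_one11, en_neg00, en_neg01, en_neg10, en_neg11,
    en_uu00, en_uu01, en_uu10, en_uu11, en_ll00, en_ll01, en_ll10, en_ll11, en_ww00, en_ww01, en_ww10, en_ww11,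
    en_inv00, en_inv01, en_inv10, en_inv11]; field_simp; ring
  · simp only [en_mul, en_one00, en_one01, en_one10, en_one11, en_neg00, en_neg01, en_neg10, en_neg11,
    en_uu00, en_uu01, en_uu10, en_uu11, en_ll00, en_ll01, en_ll10, en_ll11, en_ww00, en_ww01, en_ww10, en_ww11,
    en_inv00, en_inv01, en_inv10, en_inv11]; field_simp; ring
  · simp only [en_mul, en_one00, en_one01, en_one10, en_one11, en_neg00, en_neg01, en_neg10, en_neg11,
    en_uu00, en_uu01, en_uu10, en_uu11, en_ll00, en_ll01, en_ll10, en_ll11, en_ww00, en_ww01, en_ww10, en_ww11,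
    en_inv00, en_inv01, en_inv10, en_inv11]; field_simp; linear_combination (-(en x 1 0) ^ 2) * hd

variable {V : Type u} [AddCommGroup V] (ρ : _root_.Matrix.SpecialLinearGroup (Fin 2) F →* AddMonoid.End V)

theorem act_mul (g h : _root_.Matrix.SpecialLinearGroup (Fin 2) F) (v : V) : ρ (g * h) v = ρ g (ρ h v) := by
  rw [map_mul]; rfl

theorem act_one (v : V) : ρ 1 v = v := by
  rw [map_one]; rfl

theorem act_inv {g : _root_.Matrix.SpecialLinearGroup (Fin 2) F} {v : V} (h : ρ g v = v) : ρ g⁻¹ v = v := by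
  have h1 : ρ g⁻¹ (ρ g v) = v := by rw [← act_mul, inv_mul_cancel, act_one]
  rwa [h] at h1

theorem act_inj (g : _root_.Matrix.SpecialLinearGroup (Fin 2) F) {v w : V} (h : ρ g v = ρ g w) : v = w := by
  have h1 := congrArg (ρ g⁻¹) h
  rwa [← act_mul, ← act_mul, inv_mul_cancel, act_one, act_one] at h1

/-- the upper and lower unipotent elements generate -/
theorem fix_all {v : V} (hu : ∀ x, ρ (uu x) v = v) (hl : ∀ x, ρ (ll x) v = v) (g : _root_.Matrix.SpecialLinearGroup (Fin 2) F) :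
    ρ g v = v := by
  have key : ∀ g : _root_.Matrix.SpecialLinearGroup (Fin 2) F, en g 1 0 ≠ 0 → ρ g v = v := by
    intro g hg
    rw [eq_mul hg, act_mul, act_mul, hu, hl, hu]
  by_cases hc : en g 1 0 = 0
  · have hd := det_eq g
    have ha : en g 0 0 ≠ 0 := by
      intro h
      rw [h, hc] at hd
      simp at hd
    have h1 : en (ll 1 * g) 1 0 ≠ 0 := by
      simp only [en_mul, en_one00, en_one01, en_one10, en_one11, en_neg00, en_neg01, en_neg10, en_neg11,
    en_uu00, en_uu01, en_uu10, en_uu11, en_ll00, en_ll01, en_ll10, en_ll11, en_ww00, en_ww01, en_ww10, en_ww11,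
    en_inv00, en_inv01, en_inv10, en_inv11]
      rw [hc]; simpa using ha
    have h2 := key _ h1
    rw [act_mul] at h2
    exact act_inj ρ (ll 1) (h2.trans (hl 1).symm)
  · exact key g hc

/-- an element fixed by the unipotent group and another conjugate is fixed by all -/
theorem fix_of_conj {v : V} {x : _root_.Matrix.SpecialLinearGroup (Fin 2) F} (hc : en x 1 0 ≠ 0) (hu : ∀ y, ρ (uu y) v = v)
    (hx : ∀ y, ρ (x * uu y * x⁻¹) v = v) (g : _root_.Matrix.SpecialLinearGroup (Fin 2) F) : ρ g v = v := by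
  refine fix_all ρ hu (fun y => ?_) g
  rw [ll_eq hc y, act_mul, act_mul, hu, hx, act_inv ρ (hu _)]

/-- normalizing element: if `t` fixes `v` and `g U g⁻¹` fixes `v` then `g⁻¹ t g` is upper triangular, unless `v` is
fixed by everything -/
theorem fix_or {v : V} {t g : _root_.Matrix.SpecialLinearGroup (Fin 2) F} (ht : ρ t v = v)
    (hg : ∀ y, ρ (g * uu y * g⁻¹) v = v) (hc : en (g⁻¹ * t * g) 1 0 ≠ 0) (k : _root_.Matrix.SpecialLinearGroup (Fin 2) F) :
    ρ k v = v := by
  have h1 : ∀ y, ρ (uu y) (ρ g⁻¹ v) = ρ g⁻¹ v := by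
    intro y
    have := congrArg (ρ g⁻¹) (hg y)
    rw [← act_mul] at this
    rw [← act_mul]
    have e : g⁻¹ * (g * uu y * g⁻¹) = uu y * g⁻¹ := by group
    rwa [e] at this
  have h2 : ∀ y, ρ ((g⁻¹ * t * g) * uu y * (g⁻¹ * t * g)⁻¹) (ρ g⁻¹ v) = ρ g⁻¹ v := by
    intro y
    rw [← act_mul]
    have e : (g⁻¹ * t * g) * uu y * (g⁻¹ * t * g)⁻¹ * g⁻¹ = g⁻¹ * (t * ((g * uu y * g⁻¹) * t⁻¹)) := by group
    rw [e, act_mul, act_mul, act_mul, act_inv ρ ht, hg, ht]
  have h3 := fix_of_conj ρ hc h1 h2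
  have h4 := h3 (g⁻¹ * k * g)
  rw [← act_mul] at h4
  have e : g⁻¹ * k * g * g⁻¹ = g⁻¹ * k := by group
  rw [e, act_mul] at h4
  exact act_inj ρ _ h4

theorem core (h2 : (2 : F) ≠ 0)
    (hs : ∀ v : V, ∃ g : _root_.Matrix.SpecialLinearGroup (Fin 2) F, ∀ x, ρ (g * uu x * g⁻¹) v = v)
    (h0 : ∀ v : V, (∀ g, ρ g v = v) → v = 0) (hn : ∀ v : V, ρ (-1) v = v) :
    ∃ x : _root_.Matrix.SpecialLinearGroup (Fin 2) F, x ≠ 1 ∧ x ≠ -1 ∧ ∀ v : V, ρ x v = v := by
  have fin : ∀ t : _root_.Matrix.SpecialLinearGroup (Fin 2) F, t * t = -1 → (∀ v : V, ρ t v = v → v = 0) →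
      ⁅t, uu (1 : F)⁆ ≠ 1 → ⁅t, uu (1 : F)⁆ ≠ -1 →
      ∃ x : _root_.Matrix.SpecialLinearGroup (Fin 2) F, x ≠ 1 ∧ x ≠ -1 ∧ ∀ v : V, ρ x v = v := by
    intro t ht hf h1 h1'
    have hneg : ∀ v : V, ρ t v = -v := by
      intro v
      have := hf (v + ρ t v) (by rw [map_add, ← act_mul, ht, hn, add_comm])
      exact eq_neg_of_add_eq_zero_right this
    have hneg' : ∀ v : V, ρ t⁻¹ v = -v := by
      intro v
      have h3 := hneg (ρ t⁻¹ v)
      rw [← act_mul, mul_inv_cancel, act_one] at h3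
      rw [h3, neg_neg]
      rw [← h3]
    refine ⟨⁅t, uu (1 : F)⁆, h1, h1', fun v => ?_⟩
    rw [commutatorElement_def, act_mul, act_mul, act_mul, hneg', map_neg, hneg, neg_neg, ← act_mul,
      mul_inv_cancel, act_one]
  by_cases hi : IsSquare (-1 : F)
  · obtain ⟨i, hi⟩ := hi
    have hi0 : i ≠ 0 := by
      rintro rfl
      simp at hi
    let t : _root_.Matrix.SpecialLinearGroup (Fin 2) F := ⟨!![i, 0; 0, -i], by simp [Matrix.det_fin_two, ← hi]⟩
    have t00 : en t 0 0 = i := rfl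
    have t01 : en t 0 1 = 0 := rfl
    have t10 : en t 1 0 = 0 := rfl
    have t11 : en t 1 1 = -i := rfl
    have ht : t * t = -1 := by
      apply ext2 <;> simp only [en_mul, en_one00, en_one01, en_one10, en_one11, en_neg00, en_neg01, en_neg10, en_neg11,
    en_uu00, en_uu01, en_uu10, en_uu11, en_ll00, en_ll01, en_ll10, en_ll11, en_ww00, en_ww01, en_ww10, en_ww11,
    en_inv00, en_inv01, en_inv10, en_inv11] <;> simp only [t00, t01, t10, t11] <;> first | ring1 | linear_combination (-1 : F) * hi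
    have hw : ww * t * ww⁻¹ = -1 * t := by
      apply ext2 <;> simp only [en_mul, en_one00, en_one01, en_one10, en_one11, en_neg00, en_neg01, en_neg10, en_neg11,
    en_uu00, en_uu01, en_uu10, en_uu11, en_ll00, en_ll01, en_ll10, en_ll11, en_ww00, en_ww01, en_ww10, en_ww11,
    en_inv00, en_inv01, en_inv10, en_inv11] <;> simp only [t00, t01, t10, t11] <;> ring
    -- both subgroups
    have hU : ∀ v : V, ρ t v = v → (∀ x, ρ (uu x) v = v) ∨ (∀ x, ρ (ww * uu x * ww⁻¹) v = v) := by
      intro v hv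
      obtain ⟨g, hg⟩ := hs v
      by_cases hc : en (g⁻¹ * t * g) 1 0 = 0
      · have hc' : en g 0 0 = 0 ∨ en g 1 0 = 0 := by
          simp only [en_mul, en_one00, en_one01, en_one10, en_one11, en_neg00, en_neg01, en_neg10, en_neg11,
    en_uu00, en_uu01, en_uu10, en_uu11, en_ll00, en_ll01, en_ll10, en_ll11, en_ww00, en_ww01, en_ww10, en_ww11,
    en_inv00, en_inv01, en_inv10, en_inv11] at hc
          simp only [t00, t01, t10, t11] at hc
          have h3 : 2 * i * en g 0 0 * en g 1 0 = 0 := by linear_combination (-1 : F) * hc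
          have h4 : (2 : F) * i ≠ 0 := mul_ne_zero h2 hi0
          rcases mul_eq_zero.1 h3 with h5 | h5
          · rcases mul_eq_zero.1 h5 with h6 | h6
            · exact absurd h6 h4
            · exact Or.inl h6
          · exact Or.inr h5
        have hd := det_eq g
        rcases hc' with hc' | hc'
        · right
          intro x
          -- g = ww * b
          rw [hc', zero_mul, zero_sub] at hd
          have hne : en g 1 0 ≠ 0 := by
            intro h; rw [h] at hd; simp at hd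
          have e : ww * uu x * ww⁻¹ = g * uu (x / (en g 1 0) ^ 2) * g⁻¹ := by
            apply ext2
            · simp only [en_mul, en_one00, en_one01, en_one10, en_one11, en_neg00, en_neg01, en_neg10, en_neg11,
    en_uu00, en_uu01, en_uu10, en_uu11, en_ll00, en_ll01, en_ll10, en_ll11, en_ww00, en_ww01, en_ww10, en_ww11,
    en_inv00, en_inv01, en_inv10, en_inv11]; try simp only [hc']
              field_simp
              first | fail | linear_combination (-(en g 1 0)) * hd | linear_combination (-(en g 0 0)) * hd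
            · simp only [en_mul, en_one00, en_one01, en_one10, en_one11, en_neg00, en_neg01, en_neg10, en_neg11,
    en_uu00, en_uu01, en_uu10, en_uu11, en_ll00, en_ll01, en_ll10, en_ll11, en_ww00, en_ww01, en_ww10, en_ww11,
    en_inv00, en_inv01, en_inv10, en_inv11]; try simp only [hc']
              field_simp
              first | ring1 | linear_combination (-(en g 1 0)) * hd | linear_combination (-(en g 0 0)) * hd
            · simp only [en_mul, en_one00, en_one01, en_one10, en_one11, en_neg00, en_neg01, en_neg10, en_neg11,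
    en_uu00, en_uu01, en_uu10, en_uu11, en_ll00, en_ll01, en_ll10, en_ll11, en_ww00, en_ww01, en_ww10, en_ww11,
    en_inv00, en_inv01, en_inv10, en_inv11]; try simp only [hc']
              field_simp
              first | ring1 | linear_combination (-(en g 1 0)) * hd | linear_combination (-(en g 0 0)) * hd
            · simp only [en_mul, en_one00, en_one01, en_one10, en_one11, en_neg00, en_neg01, en_neg10, en_neg11,
    en_uu00, en_uu01, en_uu10, en_uu11, en_ll00, en_ll01, en_ll10, en_ll11, en_ww00, en_ww01, en_ww10, en_ww11,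
    en_inv00, en_inv01, en_inv10, en_inv11]; try simp only [hc']
              field_simp
              first | fail | linear_combination (-(en g 1 0)) * hd | linear_combination (-(en g 0 0)) * hd
          rw [e]; exact hg _
        · left
          intro x
          rw [hc', mul_zero, sub_zero] at hd
          have hne : en g 0 0 ≠ 0 := by
            intro h; rw [h] at hd; simp at hd
          have e : uu x = g * uu (x / (en g 0 0) ^ 2) * g⁻¹ := by
            apply ext2
            · simp only [en_mul, en_one00, en_one01, en_one10, en_one11, en_neg00, en_neg01, en_neg10, en_neg11,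
    en_uu00, en_uu01, en_uu10, en_uu11, en_ll00, en_ll01, en_ll10, en_ll11, en_ww00, en_ww01, en_ww10, en_ww11,
    en_inv00, en_inv01, en_inv10, en_inv11]; try simp only [hc']
              field_simp
              first | fail | linear_combination (-(en g 1 0)) * hd | linear_combination (-(en g 0 0)) * hd
            · simp only [en_mul, en_one00, en_one01, en_one10, en_one11, en_neg00, en_neg01, en_neg10, en_neg11,
    en_uu00, en_uu01, en_uu10, en_uu11, en_ll00, en_ll01, en_ll10, en_ll11, en_ww00, en_ww01, en_ww10, en_ww11,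
    en_inv00, en_inv01, en_inv10, en_inv11]; try simp only [hc']
              field_simp
              first | ring1 | linear_combination (-(en g 1 0)) * hd | linear_combination (-(en g 0 0)) * hd
            · simp only [en_mul, en_one00, en_one01, en_one10, en_one11, en_neg00, en_neg01, en_neg10, en_neg11,
    en_uu00, en_uu01, en_uu10, en_uu11, en_ll00, en_ll01, en_ll10, en_ll11, en_ww00, en_ww01, en_ww10, en_ww11,
    en_inv00, en_inv01, en_inv10, en_inv11]; try simp only [hc']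
              field_simp
              first | ring1 | linear_combination (-(en g 1 0)) * hd | linear_combination (-(en g 0 0)) * hd
            · simp only [en_mul, en_one00, en_one01, en_one10, en_one11, en_neg00, en_neg01, en_neg10, en_neg11,
    en_uu00, en_uu01, en_uu10, en_uu11, en_ll00, en_ll01, en_ll10, en_ll11, en_ww00, en_ww01, en_ww10, en_ww11,
    en_inv00, en_inv01, en_inv10, en_inv11]; try simp only [hc']
              field_simp
              first | ring1 | linear_combination (-(en g 1 0)) * hd | linear_combination (-(en g 0 0)) * hd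
          rw [e]; exact hg _
      · have h3 := h0 v (fix_or ρ hv hg hc)
        left; intro x
        rw [h3, map_zero]
    have hone : ∀ v : V, ρ t v = v → (∀ x, ρ (uu x) v = v) → v = 0 := by
      intro v hv hv'
      have h1 : ρ t (ρ ww v) = ρ ww v := by
        have e : t * ww = -1 * (ww * t) := by
          rw [mul_inv_eq_iff_eq_mul] at hw
          rw [hw]
          rw [← mul_assoc, ← mul_assoc]
          simp
        rw [← act_mul, e, act_mul, act_mul, hv, hn]
      have h2' : ∀ x, ρ (ww * uu x * ww⁻¹) (ρ ww v) = ρ ww v := by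
        intro x
        rw [← act_mul, inv_mul_cancel_right, act_mul, hv']
      have hc : en (ww : _root_.Matrix.SpecialLinearGroup (Fin 2) F) 1 0 ≠ 0 := by
        rw [en_ww10]; simp
      rcases hU (v + ρ ww v) (by rw [map_add, hv, h1]) with h3 | h3
      · have h4 : ∀ x, ρ (uu x) (ρ ww v) = ρ ww v := by
          intro x
          have := h3 x
          rw [map_add, hv'] at this
          exact add_left_cancel this
        have h5 := h0 _ (fix_of_conj ρ hc h4 h2')
        exact act_inj ρ ww (by rw [h5, map_zero])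
      · have h4 : ∀ x, ρ (ww * uu x * ww⁻¹) v = v := by
          intro x
          have := h3 x
          rw [map_add, h2'] at this
          exact add_right_cancel this
        exact h0 _ (fix_of_conj ρ hc hv' h4)
    refine fin t ht (fun v hv => ?_) ?_ ?_
    · rcases hU v hv with h3 | h3
      · exact hone v hv h3
      · have h1 : ρ t (ρ ww⁻¹ v) = ρ ww⁻¹ v := by
          have e : t * ww⁻¹ = -1 * (ww⁻¹ * t) := by
            have : ww * t = -1 * t * ww := by rw [mul_inv_eq_iff_eq_mul] at hw; exact hw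
            have h4 : t = ww⁻¹ * (-1 * t * ww) := by rw [← this]; group
            nth_rewrite 1 [h4]
            simp only [mul_assoc, _root_.neg_mul, _root_.one_mul, _root_.mul_neg, _root_.mul_inv_cancel, _root_.mul_one]
          rw [← act_mul, e, act_mul, act_mul, hv, hn]
        have h2' : ∀ x, ρ (uu x) (ρ ww⁻¹ v) = ρ ww⁻¹ v := by
          intro x
          have := congrArg (ρ ww⁻¹) (h3 x)
          rw [← act_mul] at this
          rw [← act_mul]
          have e : ww⁻¹ * (ww * uu x * ww⁻¹) = uu x * ww⁻¹ := by group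
          rwa [e] at this
        have h5 := hone _ h1 h2'
        exact act_inj ρ ww⁻¹ (by rw [h5, map_zero])
    · intro h
      have := congrArg (fun g : _root_.Matrix.SpecialLinearGroup (Fin 2) F => en g 0 1) h
      simp only [commutatorElement_def] at this
      simp only [en_mul, en_one00, en_one01, en_one10, en_one11, en_neg00, en_neg01, en_neg10, en_neg11,
    en_uu00, en_uu01, en_uu10, en_uu11, en_ll00, en_ll01, en_ll10, en_ll11, en_ww00, en_ww01, en_ww10, en_ww11,
    en_inv00, en_inv01, en_inv10, en_inv11] at this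
      simp only [t00, t01, t10, t11] at this
      apply h2
      have h3 : i * i = -1 := hi.symm
      linear_combination (-1 : F) * this + 2 * h3
    · intro h
      have := congrArg (fun g : _root_.Matrix.SpecialLinearGroup (Fin 2) F => en g 0 0) h
      simp only [commutatorElement_def] at this
      simp only [en_mul, en_one00, en_one01, en_one10, en_one11, en_neg00, en_neg01, en_neg10, en_neg11,
    en_uu00, en_uu01, en_uu10, en_uu11, en_ll00, en_ll01, en_ll10, en_ll11, en_ww00, en_ww01, en_ww10, en_ww11,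
    en_inv00, en_inv01, en_inv10, en_inv11] at this
      simp only [t00, t01, t10, t11] at this
      apply h2
      have h3 : i * i = -1 := hi.symm
      linear_combination this + h3
  · refine fin ww ?_ (fun v hv => ?_) ?_ ?_
    · apply ext2 <;> simp only [en_mul, en_one00, en_one01, en_one10, en_one11, en_neg00, en_neg01, en_neg10, en_neg11,
    en_uu00, en_uu01, en_uu10, en_uu11, en_ll00, en_ll01, en_ll10, en_ll11, en_ww00, en_ww01, en_ww10, en_ww11,
    en_inv00, en_inv01, en_inv10, en_inv11] <;> ring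
    · obtain ⟨g, hg⟩ := hs v
      apply h0 v
      apply fix_or ρ hv hg
      intro hc
      simp only [en_mul, en_one00, en_one01, en_one10, en_one11, en_neg00, en_neg01, en_neg10, en_neg11,
    en_uu00, en_uu01, en_uu10, en_uu11, en_ll00, en_ll01, en_ll10, en_ll11, en_ww00, en_ww01, en_ww10, en_ww11,
    en_inv00, en_inv01, en_inv10, en_inv11] at hc
      have hd := det_eq g
      have h3 : en g 0 0 ^ 2 + en g 1 0 ^ 2 = 0 := by linear_combination (-1 : F) * hc
      by_cases h4 : en g 1 0 = 0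
      · have h5 : en g 0 0 = 0 := by
          rw [h4] at h3
          simpa using h3
        rw [h4, h5] at hd
        simp at hd
      · apply hi
        refine ⟨en g 0 0 / en g 1 0, ?_⟩
        field_simp
        linear_combination (-1 : F) * h3
    · intro h
      have := congrArg (fun g : _root_.Matrix.SpecialLinearGroup (Fin 2) F => en g 0 1) h
      simp only [commutatorElement_def] at this
      simp only [en_mul, en_one00, en_one01, en_one10, en_one11, en_neg00, en_neg01, en_neg10, en_neg11,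
    en_uu00, en_uu01, en_uu10, en_uu11, en_ll00, en_ll01, en_ll10, en_ll11, en_ww00, en_ww01, en_ww10, en_ww11,
    en_inv00, en_inv01, en_inv10, en_inv11] at this
      norm_num at this
    · intro h
      have := congrArg (fun g : _root_.Matrix.SpecialLinearGroup (Fin 2) F => en g 0 1) h
      simp only [commutatorElement_def] at this
      simp only [en_mul, en_one00, en_one01, en_one10, en_one11, en_neg00, en_neg01, en_neg10, en_neg11,
    en_uu00, en_uu01, en_uu10, en_uu11, en_ll00, en_ll01, en_ll10, en_ll11, en_ww00, en_ww01, en_ww10, en_ww11,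
    en_inv00, en_inv01, en_inv10, en_inv11] at this
      norm_num at this

end Cfsg.Agent.H395.RIM.SLFix
end

-- part: H395/RIM/EKPsl
section
/-!
# `EK p (PSL 2 F)` for `char F = p` odd (task 6184 of S4816, helper395)
-/

set_option autoImplicit false

namespace Cfsg.Agent.H395.RIM.EKPsl

open Cfsg Cfsg.Agent.H665.RIM Cfsg.Agent.H395.RIM.SLFix Matrix
open scoped commutatorElement

universe u v w

section Mult

variable {F : Type v} [Field F] [Fintype F]

theorem stem_comp {Γ : Type u} {G : Type v} {G' : Type w} [Group Γ] [Group G] [Group G'] {σ : Γ →* G}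
    (h : IsStemExtension σ) (e : G ≃* G') :
    IsStemExtension (e.toMonoidHom.comp σ) ∧ (e.toMonoidHom.comp σ).ker = σ.ker := by
  have hk : (e.toMonoidHom.comp σ).ker = σ.ker := by
    ext x
    rw [MonoidHom.mem_ker, MonoidHom.mem_ker, MonoidHom.comp_apply]
    exact map_eq_one_iff _ e.injective
  exact ⟨⟨e.surjective.comp h.1, by rw [hk]; exact h.2.1, by rw [hk]; exact h.2.2⟩, hk⟩

theorem card_dvd {n : ℕ} {Γ : Type u} [Group Γ] {G : Type v} [Group G] (h : HasCyclicSchurMultiplier G n)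
    {σ : Γ →* G} (hσ : IsStemExtension σ) : Nat.card σ.ker ∣ n := by
  obtain ⟨f, hf⟩ := Cfsg.Agent.H487.HasSchurMultiplier.exists_surj_ker h hσ
  have h1 := Subgroup.card_dvd_of_surjective f hf
  rwa [Nat.card_congr (Multiplicative.toAdd (α := ZMod n)), Nat.card_zmod] at h1

/-- the `p'`-part of the multiplier of `PSL 2 F` is at most two -/
theorem card_ker_dvd_two (p : ℕ) [hp : Fact p.Prime] [CharP F p] (h2 : p ≠ 2) (h4 : 4 ≤ Fintype.card F)
    {Γ : Type u} [Group Γ] {σ : Γ →* Matrix.ProjectiveSpecialLinearGroup (Fin 2) F} (hσ : IsStemExtension σ)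
    (hk : ¬ p ∣ Nat.card σ.ker) : Nat.card σ.ker ∣ 2 := by
  obtain ⟨n, -, hn⟩ := FiniteField.card F p
  by_cases h9 : Fintype.card F = 9
  · obtain ⟨e⟩ := S0254.result h9
    obtain ⟨h5, h6⟩ := stem_comp hσ e
    have h7 := card_dvd (S2116.result 6 (Or.inl rfl)) h5
    rw [h6] at h7
    have hp3 : p = 3 := by
      rw [h9] at hn
      have h8 : p ∣ 3 ^ 2 := by
        rw [show (3 : ℕ) ^ 2 = 9 by norm_num, hn]
        exact dvd_pow_self p n.2.ne'
      exact (Nat.prime_dvd_prime_iff_eq hp.1 Nat.prime_three).1 (hp.1.dvd_of_dvd_pow h8)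
    subst hp3
    have h8 : Nat.Coprime (Nat.card σ.ker) 3 := ((Nat.Prime.coprime_iff_not_dvd Nat.prime_three).2 hk).symm
    exact h8.dvd_of_dvd_mul_right (by simpa only [_root_.MonoidHom.mem_ker, _root_.Nat.reduceMul] using h7)
  · have h44 : Fintype.card F ≠ 4 := by
      intro h
      rw [h] at hn
      have h8 : p ∣ 2 ^ 2 := by
        rw [show (2 : ℕ) ^ 2 = 4 by norm_num, hn]
        exact dvd_pow_self p n.2.ne'
      exact h2 ((Nat.prime_dvd_prime_iff_eq hp.1 Nat.prime_two).1 (hp.1.dvd_of_dvd_pow h8))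
    have h5 := S2086.result (F := F) rfl 2 le_rfl (fun _ => h4) (by
      simp only [Set.mem_insert_iff, Set.mem_singleton_iff, Prod.mk.injEq]
      omega)
    exact (card_dvd h5 hσ).trans (Nat.gcd_dvd_left _ _)

end Mult

section Main

variable {F : Type v} [Field F] [Fintype F]

omit [Fintype F] in
theorem uu_pow (x : F) (n : ℕ) : uu x ^ n = uu (n * x) := by
  induction n with
  | zero => rw [pow_zero, Nat.cast_zero, zero_mul, uu_zero]
  | succ n ih => rw [pow_succ, ih, ← uu_add]; congr 1; push_cast; ring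

/-- the group of upper unipotent matrices -/
def UU (F : Type v) [Field F] : Subgroup (_root_.Matrix.SpecialLinearGroup (Fin 2) F) where
  carrier := {g | ∃ x : F, g = uu x}
  one_mem' := ⟨0, uu_zero.symm⟩
  mul_mem' := by
    rintro _ _ ⟨x, rfl⟩ ⟨y, rfl⟩
    exact ⟨x + y, (uu_add x y).symm⟩
  inv_mem' := by
    rintro _ ⟨x, rfl⟩
    exact ⟨-x, uu_neg x⟩

omit [Fintype F] in
theorem isPGroup_UU (p : ℕ) [CharP F p] : IsPGroup p (UU F) := by
  rintro ⟨_, x, rfl⟩
  refine ⟨1, ?_⟩
  apply Subtype.ext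
  change uu x ^ p ^ 1 = 1
  rw [pow_one, uu_pow, CharP.cast_eq_zero, zero_mul, uu_zero]

omit [Fintype F] in
theorem mem_center {x : _root_.Matrix.SpecialLinearGroup (Fin 2) F} (hx : x ∈ Subgroup.center (_root_.Matrix.SpecialLinearGroup (Fin 2) F)) :
    x = 1 ∨ x = -1 := by
  rw [Matrix.SpecialLinearGroup.mem_center_iff] at hx
  obtain ⟨r, hr, h⟩ := hx
  rw [Fintype.card_fin] at hr
  have h1 : r = 1 ∨ r = -1 := by
    have h0 : (r - 1) * (r + 1) = 0 := by linear_combination hr
    rcases mul_eq_zero.1 h0 with h1 | h1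
    · left; exact sub_eq_zero.1 h1
    · right; exact eq_neg_of_add_eq_zero_left h1
  have e00 : en x 0 0 = r := by rw [en, ← h]; simp
  have e01 : en x 0 1 = 0 := by rw [en, ← h]; simp
  have e10 : en x 1 0 = 0 := by rw [en, ← h]; simp
  have e11 : en x 1 1 = r := by rw [en, ← h]; simp
  rcases h1 with rfl | rfl
  · left; apply ext2 <;> simp only [e00, e01, e10, e11, en_one00, en_one01, en_one10, en_one11]
  · right; apply ext2 <;> simp only [e00, e01, e10, e11, en_neg00, en_neg01, en_neg10, en_neg11]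

theorem ek_psl2 {S : Type u} [Group S] (p : ℕ) [CharP F p] (h2 : p ≠ 2) (h4 : 4 ≤ Fintype.card F)
    (e : S ≃* Matrix.ProjectiveSpecialLinearGroup (Fin 2) F) : EK p S := by
  intro H V _ _ _ _ _ K N φ π hC hπ hker hcen
  have hp : Fact p.Prime := ⟨CharP.char_is_prime F p⟩
  have hperf : Group.IsPerfect H := ⟨hC.perf⟩
  have hKc : K ≤ Subgroup.center H := fun k hk =>
    Cfsg.Agent.H487.mem_center_of_commutator_mem_center hperf k fun h => hC.cen (hcen k hk h)
  let σ : H →* Matrix.ProjectiveSpecialLinearGroup (Fin 2) F := e.toMonoidHom.comp π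
  have hσs : Function.Surjective σ := e.surjective.comp hπ
  have hσk : σ.ker = K := by
    rw [← hker]
    ext x
    rw [MonoidHom.mem_ker, MonoidHom.mem_ker]
    exact map_eq_one_iff _ e.injective
  have hstem : IsStemExtension σ :=
    ⟨hσs, by rw [hσk]; exact hKc, by rw [hC.perf]; exact le_top⟩
  have hcard : Nat.card K ∣ 2 := by
    have := card_ker_dvd_two p h2 h4 hstem (by rw [hσk]; exact hC.pK)
    rwa [hσk] at this
  have hNK : N = K := by
    apply Subgroup.eq_of_le_of_card_ge hC.NK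
    have h5 : Nat.card K ≤ 2 := Nat.le_of_dvd (by norm_num) hcard
    have h6 : Nat.card N ≠ 1 := fun h => hC.Nne (Subgroup.card_eq_one.1 h)
    have h7 : 0 < Nat.card N := Nat.card_pos
    omega
  let τ : H →* AddMonoid.End V := DistribMulAction.toAddMonoidEnd H V
  have hτ : ∀ (h : H) (v : V), τ h v = h • v := fun _ _ => rfl
  have hτk : σ.ker ≤ τ.ker := by
    intro x hx
    rw [hσk, ← hNK] at hx
    rw [MonoidHom.mem_ker]
    apply AddMonoidHom.ext
    intro v
    exact (hC.ker x).2 hx v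
  let ρP : Matrix.ProjectiveSpecialLinearGroup (Fin 2) F →* AddMonoid.End V :=
    (QuotientGroup.lift σ.ker τ hτk).comp (QuotientGroup.quotientKerEquivOfSurjective σ hσs).symm.toMonoidHom
  have hρP : ∀ h : H, ρP (σ h) = τ h := by
    intro h
    have : (QuotientGroup.quotientKerEquivOfSurjective σ hσs).symm (σ h) = (h : H ⧸ σ.ker) := by
      rw [MulEquiv.symm_apply_eq]
      rfl
    change QuotientGroup.lift σ.ker τ hτk ((QuotientGroup.quotientKerEquivOfSurjective σ hσs).symm (σ h)) = _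
    rw [this]
    rfl
  let ρ : _root_.Matrix.SpecialLinearGroup (Fin 2) F →* AddMonoid.End V :=
    ρP.comp (QuotientGroup.mk' (Subgroup.center (_root_.Matrix.SpecialLinearGroup (Fin 2) F)))
  have hρ : ∀ g : _root_.Matrix.SpecialLinearGroup (Fin 2) F, ∃ h : H, ρ g = τ h ∧ (σ h = QuotientGroup.mk' _ g) := by
    intro g
    obtain ⟨h, hh⟩ := hσs (QuotientGroup.mk' _ g)
    refine ⟨h, ?_, hh⟩
    change ρP (QuotientGroup.mk' _ g) = _
    rw [← hh, hρP]
  have hρ' : ∀ h : H, ∃ g : _root_.Matrix.SpecialLinearGroup (Fin 2) F, ρ g = τ h := by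
    intro h
    obtain ⟨g, hg⟩ := QuotientGroup.mk'_surjective (Subgroup.center (_root_.Matrix.SpecialLinearGroup (Fin 2) F)) (σ h)
    refine ⟨g, ?_⟩
    change ρP (QuotientGroup.mk' _ g) = _
    rw [hg, hρP]
  have hF2 : (2 : F) ≠ 0 := by
    intro h
    have : ((2 : ℕ) : F) = 0 := by exact_mod_cast h
    rw [CharP.cast_eq_zero_iff F p] at this
    exact h2 ((Nat.prime_dvd_prime_iff_eq hp.1 Nat.prime_two).1 this)
  obtain ⟨x, hx1, hx2, hx⟩ := core ρ hF2 (by
    intro v
    let _ : MulAction (_root_.Matrix.SpecialLinearGroup (Fin 2) F) V :=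
      { smul := fun g w => ρ g w
        one_smul := act_one ρ
        mul_smul := act_mul ρ }
    have horb : MulAction.orbit (_root_.Matrix.SpecialLinearGroup (Fin 2) F) v = MulAction.orbit H v := by
      ext w
      constructor
      · rintro ⟨g, rfl⟩
        obtain ⟨h, hh, -⟩ := hρ g
        exact ⟨h, by change h • v = ρ g v; rw [hh]; rfl⟩
      · rintro ⟨h, rfl⟩
        obtain ⟨g, hg⟩ := hρ' h
        exact ⟨g, by change ρ g v = h • v; rw [hg]; rfl⟩
    have hnd : ¬ p ∣ Nat.card (MulAction.orbit (_root_.Matrix.SpecialLinearGroup (Fin 2) F) v) := by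
      rw [horb]
      have := hC.P1 v
      rwa [MulAction.index_stabilizer, ← Nat.card_coe_set_eq] at this
    obtain ⟨⟨w, hw⟩, hfix⟩ := (isPGroup_UU (F := F) p).nonempty_fixed_point_of_prime_not_dvd_card
      (α := MulAction.orbit (_root_.Matrix.SpecialLinearGroup (Fin 2) F) v) hnd
    obtain ⟨g, rfl⟩ := hw
    refine ⟨g⁻¹, fun x => ?_⟩
    have h5 := hfix ⟨uu x, x, rfl⟩
    have h6 : ρ (uu x) (ρ g v) = ρ g v := congrArg Subtype.val h5
    rw [inv_inv, act_mul, act_mul, h6, ← act_mul, inv_mul_cancel, act_one])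
    (by
    intro v hv
    let W : AddSubgroup V :=
      { carrier := {w | ∀ h : H, h • w = w}
        zero_mem' := fun h => smul_zero h
        add_mem' := fun {a b} ha hb h => by rw [smul_add, ha h, hb h]
        neg_mem' := fun {a} ha h => by rw [smul_neg, ha h] }
    have hW := hC.irr W (fun h w hw => by
      intro h'
      have h1 : h • w = w := hw h
      rw [h1]; exact hw h')
    have hvW : v ∈ W := by
      intro h
      obtain ⟨g, hg⟩ := hρ' h
      have := hv g
      rw [hg] at this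
      exact this
    rcases hW with hW | hW
    · rw [hW] at hvW
      exact AddSubgroup.mem_bot.1 hvW
    · exfalso
      apply hC.Kt
      rw [← hNK, Subgroup.eq_top_iff']
      intro h
      rw [← hC.ker h]
      intro w
      have : w ∈ W := by rw [hW]; exact AddSubgroup.mem_top w
      exact this h)
    (by
    intro v
    have h5 : QuotientGroup.mk' (Subgroup.center (_root_.Matrix.SpecialLinearGroup (Fin 2) F)) (-1) = 1 := by
      rw [QuotientGroup.mk'_apply, QuotientGroup.eq_one_iff, Subgroup.mem_center_iff]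
      intro g
      simp
    change ρP (QuotientGroup.mk' _ (-1)) v = v
    rw [h5, map_one]
    rfl)
  obtain ⟨h, hh, hh'⟩ := hρ x
  have h5 : h ∈ K := by
    rw [← hNK, ← hC.ker h]
    intro v
    have := hx v
    rw [hh] at this
    exact this
  rw [← hσk, MonoidHom.mem_ker, hh', QuotientGroup.mk'_apply, QuotientGroup.eq_one_iff] at h5
  rcases mem_center h5 with h6 | h6
  · exact hx1 h6
  · exact hx2 h6

end Main

end Cfsg.Agent.H395.RIM.EKPsl
end

private theorem dce_7cacc710f4c4 : _root_.True := by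
  try have : _root_.True := by simp only [_root_.Cfsg.Agent.H395.RIM.SLFix.en.eq_1]
  exact _root_.True.intro
end

-- part: H497/RIM/PSUThree
section
prune_inst 0x6d4707d245ba2100000180502d0005e72d200040000088800c0020e04078b3e620901a061b4a0090a1818004c203d006817001c84620000000a840400013d06891880940461c10019a20096000288600002200800000000000000800000041004018400002
set_option linter.all false
open scoped Cfsg.Agent.FastGrp

-- part: H497/RIM/Rank
section
/-!
# Cuspidal characters over a central linear character, rank one (helper497, S4816)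

`G` with `RankOneAbstract.Data H U w`, `K` central with `K ∩ U = 1`, `l : K →* ℂˣ`; if `|U| ^ 2` does not divide `|G : K|`
then some irreducible character over `l` has no fixed vectors under `U` (`exists_cusp`), so it vanishes on the elements
of `H` without fixed points on `U` and its degree is divisible by the primes which are orders of such elements.
-/

set_option autoImplicit false
set_option linter.unusedSectionVars false

namespace Cfsg.Agent.H497.RIM

open Cfsg Cfsg.Agent.Characters.Core Cfsg.Agent.Characters.DegreeBounds Module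
open Cfsg.Agent.H710.Cuspidal
open Cfsg.Agent.LieRecognition.RankOneAbstract (Data)
open scoped ComplexConjugate

variable {G : Type*} [Group G]

section rep

variable {V : Type*} [AddCommGroup V] [Module ℂ V] [FiniteDimensional ℂ V] (ρ : Representation ℂ G V)

theorem trace_Z (U : Subgroup G) [Fintype U] :
    ∑ u : U, ρ.character u = (Nat.card U : ℂ) * (finrank ℂ (LinearMap.range (Z ρ U)) : ℂ) := by
  have hc : (Nat.card U : ℂ) ≠ 0 := card_ne_zero_complex
  set P : Module.End ℂ V := (Nat.card U : ℂ)⁻¹ • Z ρ U with hP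
  have h1 : P * P = P := by
    rw [hP, smul_mul_smul_comm, Z_mul_Z, smul_smul]
    congr 1
    field_simp
  have h7 : (Nat.card U : ℂ) • P = Z ρ U := by
    rw [hP, smul_smul, mul_inv_cancel₀ hc, one_smul]
  have h2 : LinearMap.trace ℂ V (Z ρ U) = ∑ u : U, ρ.character u := by
    rw [Z, map_sum]
    rfl
  have h3 : IsIdempotentElem P := h1
  have h4 := LinearMap.IsProj.trace (LinearMap.IsIdempotentElem.isProj_range P h3)
  have h5 : LinearMap.range P = LinearMap.range (Z ρ U) := by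
    rw [← h7, LinearMap.range_smul _ _ hc]
  rw [← h2, ← h7, map_smul, h4, h5, smul_eq_mul, h7]

/-- **The degree is at most `|U|` times the dimension of the fixed space.** -/
theorem finrank_le [Finite G] [ρ.IsIrreducible] {H U : Subgroup G} {w : G} [Fintype U] (D : Data H U w)
    (hZ : Z ρ U ≠ 0) : finrank ℂ V ≤ Nat.card U * finrank ℂ (LinearMap.range (Z ρ U)) := by
  classical
  set W := LinearMap.range (Z ρ U) with hW
  have hWH : ∀ h ∈ H, ∀ x ∈ W, ρ h x ∈ W := by
    rintro h hh _ ⟨y, rfl⟩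
    have hn : ∀ u, u ∈ U ↔ h * u * h⁻¹ ∈ U := by
      intro u
      refine ⟨D.norm h hh u, fun hu => ?_⟩
      have := D.norm h⁻¹ (H.inv_mem hh) _ hu
      have h2 : h⁻¹ * (h * u * h⁻¹) * h⁻¹⁻¹ = u := by group
      rwa [h2] at this
    rw [← Module.End.mul_apply, rho_comm_Z ρ U hn]
    exact ⟨ρ h y, rfl⟩
  let A : U → W →ₗ[ℂ] V := fun u => if u = 1 then W.subtype else (ρ ((u : G) * w)).comp W.subtype
  let Φ : (U → W) →ₗ[ℂ] V := ∑ u : U, (A u).comp (LinearMap.proj u)
  set R := LinearMap.range Φ with hR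
  have hA : ∀ (u : U) (x : W), A u x ∈ R := by
    intro u x
    refine ⟨Pi.single u x, ?_⟩
    simp only [Φ, LinearMap.coe_sum, Finset.sum_apply, LinearMap.comp_apply, LinearMap.proj_apply]
    rw [Finset.sum_eq_single u]
    · rw [Pi.single_eq_same]
    · intro v _ hv
      rw [Pi.single_eq_of_ne hv, map_zero]
    · intro h
      exact absurd (Finset.mem_univ _) h
  have hWR : ∀ x ∈ W, x ∈ R := by
    intro x hx
    have := hA 1 ⟨x, hx⟩
    simpa [A] using this
  have hne : ∀ u : U, u ≠ 1 → ∀ x ∈ W, ρ ((u : G) * w) x ∈ R := by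
    intro u hu x hx
    have := hA u ⟨x, hx⟩
    simpa [A, hu] using this
  have hUR : ∀ u : U, ∀ x ∈ W, ρ ((u : G) * w) x ∈ R := by
    intro u x hx
    by_cases hu : u = 1
    · subst hu
      have h1 : Z ρ U (ρ w x) = ∑ v : U, ρ ((v : G) * w) x := by
        rw [Z, LinearMap.sum_apply]
        refine Finset.sum_congr rfl fun v _ => ?_
        rw [map_mul]
        rfl
      rw [← Finset.add_sum_erase Finset.univ (fun v : U => ρ ((v : G) * w) x) (Finset.mem_univ (1 : U))] at h1
      have h2 : ρ (((1 : U) : G) * w) x = Z ρ U (ρ w x) - ∑ v ∈ Finset.univ.erase (1 : U), ρ ((v : G) * w) x := by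
        rw [h1, add_sub_cancel_right]
      rw [h2]
      refine R.sub_mem (hWR _ ⟨_, rfl⟩) (R.sum_mem fun v hv => hne v (Finset.ne_of_mem_erase hv) x hx)
    · exact hne u hu x hx
  have htop : Submodule.span ℂ {y : V | ∃ g : G, ∃ x ∈ W, y = ρ g x} = ⊤ := by
    apply eq_top_of_stable ρ
    · intro g y hy
      induction hy using Submodule.span_induction with
      | mem y hy =>
        obtain ⟨k, x, hx, rfl⟩ := hy
        refine Submodule.subset_span ⟨g * k, x, hx, ?_⟩
        rw [map_mul]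
        rfl
      | zero => rw [map_zero]; exact Submodule.zero_mem _
      | add x y _ _ hx hy => rw [map_add]; exact Submodule.add_mem _ hx hy
      | smul a x _ hx => rw [map_smul]; exact Submodule.smul_mem _ _ hx
    · intro h
      apply hZ
      rw [← LinearMap.range_eq_bot, eq_bot_iff]
      intro x hx
      rw [← h]
      exact Submodule.subset_span ⟨1, x, hx, by rw [map_one]; rfl⟩
  have hRtop : R = ⊤ := by
    rw [eq_top_iff, ← htop, Submodule.span_le]
    rintro _ ⟨g, x, hx, rfl⟩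
    by_cases hg : g ∈ H
    · exact hWR _ (hWH g hg x hx)
    · obtain ⟨s, hs, h⟩ := D.bruhat g hg
      have h1 : g = (s * w) * ((s * w)⁻¹ * g) := by group
      have h2 : ρ g x = ρ (s * w) (ρ ((s * w)⁻¹ * g) x) := by
        conv_lhs => rw [h1, map_mul]
        rfl
      rw [h2]
      exact hUR ⟨s, hs⟩ _ (hWH _ h x hx)
  have h1 : finrank ℂ (LinearMap.range Φ) ≤ finrank ℂ (U → W) := LinearMap.finrank_range_le Φ
  rw [← hR, hRtop, finrank_top, Module.finrank_pi_fintype, Finset.sum_const, Finset.card_univ,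
    ← Nat.card_eq_fintype_card, smul_eq_mul] at h1
  exact h1

end rep

section count

variable [Finite G]

/-- column orthogonality over a central linear character -/
theorem sum_over [Fintype (IrrCharacter G)] (K : Subgroup G) [Fintype K] (hK : K ≤ Subgroup.center G) (l : K →* ℂˣ)
    [DecidablePred fun χ : IrrCharacter G => ∀ z : K, (χ : G → ℂ) z = (χ : G → ℂ) 1 * l z] (g : G) :
    (Nat.card K : ℂ) * ∑ χ ∈ Finset.univ.filter (fun χ : IrrCharacter G => ∀ z : K, (χ : G → ℂ) z = (χ : G → ℂ) 1 * l z),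
      (χ : G → ℂ) 1 * (χ : G → ℂ) g =
    ∑ z : K, ((l z)⁻¹ : ℂˣ) * ((Nat.card G : ℂ) * Cfsg.Agent.CharDeep.PowerDegrees.delta G (g * z)) := by
  have := Fintype.ofFinite G
  have hc : (Nat.card G : ℂ) ≠ 0 := card_ne_zero_complex
  have h1 : ∀ g : G, ∑ χ : IrrCharacter G, (χ : G → ℂ) 1 * (χ : G → ℂ) g =
      (Nat.card G : ℂ) * Cfsg.Agent.CharDeep.PowerDegrees.delta G g := by
    intro g
    rw [Cfsg.Agent.CharDeep.PowerDegrees.delta_eq_sum, Finset.sum_apply, Finset.mul_sum]
    refine Finset.sum_congr rfl fun χ _ => ?_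
    rw [Pi.smul_apply, smul_eq_mul]
    field_simp
  rw [Finset.sum_congr rfl fun (z : K) _ => by rw [← h1 (g * z)]]
  rw [Finset.sum_congr rfl fun (z : K) _ => Finset.mul_sum _ _ _, Finset.sum_comm, Finset.sum_filter,
    Finset.mul_sum]
  refine Finset.sum_congr rfl fun χ _ => ?_
  have hχ1 : (χ : G → ℂ) 1 ≠ 0 := isIrr_apply_one_ne_zero χ.2
  choose w hw1 hw using fun z : K => Cfsg.Agent.CharDeep.DegreeBound.exists_omega χ.2 (hK z.2)
  have hwz : ∀ z : K, (χ : G → ℂ) z = w z * (χ : G → ℂ) 1 := by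
    intro z
    have := hw z 1
    rwa [one_mul] at this
  have hwm : ∀ y z : K, w (y * z) = w y * w z := by
    intro y z
    have h2 : (χ : G → ℂ) ((y : G) * z) = w z * (χ : G → ℂ) y := hw z y
    rw [hwz y] at h2
    have h3 := hwz (y * z)
    rw [Subgroup.coe_mul, h2] at h3
    have h4 : w (y * z) * (χ : G → ℂ) 1 = w y * w z * (χ : G → ℂ) 1 := by linear_combination -h3
    exact mul_right_cancel₀ hχ1 h4
  rw [Finset.sum_congr rfl (g := fun z : K => ((((l z)⁻¹ : ℂˣ) : ℂ) * w z) * ((χ : G → ℂ) 1 * (χ : G → ℂ) g))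
    (fun z _ => by rw [hw z g]; ring), ← Finset.sum_mul]
  split_ifs with h
  · congr 1
    have h2 : ∀ z : K, (((l z)⁻¹ : ℂˣ) : ℂ) * w z = 1 := by
      intro z
      have h3 := h z
      rw [hwz z, mul_comm] at h3
      have h4 := mul_left_cancel₀ hχ1 h3
      rw [h4, ← Units.val_mul, inv_mul_cancel, Units.val_one]
    rw [Finset.sum_congr rfl fun z _ => h2 z, Finset.sum_const, Finset.card_univ, nsmul_eq_mul, mul_one,
      Nat.card_eq_fintype_card]
  · rw [mul_zero]
    symm
    push Not at h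
    obtain ⟨y, hy⟩ := h
    have hy' : (((l y)⁻¹ : ℂˣ) : ℂ) * w y ≠ 1 := by
      intro h2
      apply hy
      rw [hwz y, mul_comm]
      congr 1
      calc w y = ((l y) : ℂ) * ((((l y)⁻¹ : ℂˣ) : ℂ) * w y) := by
            rw [← mul_assoc, ← Units.val_mul, mul_inv_cancel, Units.val_one, one_mul]
        _ = _ := by rw [h2, mul_one]
    have h2 : ∑ z : K, (((l z)⁻¹ : ℂˣ) : ℂ) * w z =
        ((((l y)⁻¹ : ℂˣ) : ℂ) * w y) * ∑ z : K, (((l z)⁻¹ : ℂˣ) : ℂ) * w z := by
      conv_lhs => rw [← Fintype.sum_equiv (Equiv.mulLeft y)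
        (fun z => (((l (y * z))⁻¹ : ℂˣ) : ℂ) * w (y * z)) (fun z => (((l z)⁻¹ : ℂˣ) : ℂ) * w z) (fun z => rfl)]
      rw [Finset.mul_sum]
      refine Finset.sum_congr rfl fun z _ => ?_
      rw [map_mul, mul_inv, Units.val_mul, hwm]
      ring
    have h3 : (1 - (((l y)⁻¹ : ℂˣ) : ℂ) * w y) * ∑ z : K, (((l z)⁻¹ : ℂˣ) : ℂ) * w z = 0 := by
      linear_combination h2
    have h4 : (1 - (((l y)⁻¹ : ℂˣ) : ℂ) * w y) ≠ 0 := fun h => hy' (by linear_combination -h)
    rw [(mul_eq_zero.1 h3).resolve_left h4, zero_mul]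

/-- **Existence of cuspidal characters over `l`.** -/
theorem exists_cusp {H U : Subgroup G} {w : G} [Fintype U] (D : Data H U w) (K : Subgroup G)
    (hK : K ≤ Subgroup.center G) (hKU : ∀ u ∈ U, u ∈ K → u = 1) (l : K →* ℂˣ)
    (hnd : ¬ Nat.card U ^ 2 ∣ K.index) :
    ∃ χ : IrrCharacter G, (∀ z : K, (χ : G → ℂ) z = (χ : G → ℂ) 1 * l z) ∧ ∑ u : U, (χ : G → ℂ) u = 0 := by
  classical
  have := Fintype.ofFinite G
  have := Fintype.ofFinite K
  have := finite_irr (G := G)
  have := Fintype.ofFinite (IrrCharacter G)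
  by_contra hcon
  push Not at hcon
  have hcK : (Nat.card K : ℂ) ≠ 0 := card_ne_zero_complex
  have hGK : (Nat.card G : ℂ) = (Nat.card K : ℂ) * (K.index : ℂ) := by
    exact_mod_cast (Subgroup.card_mul_index K).symm
  choose m hm using fun χ : IrrCharacter G => exists_mult U χ.2
  set d : IrrCharacter G → ℕ := fun χ => charDegree (χ : G → ℂ) with hd
  have hd1 : ∀ χ : IrrCharacter G, (χ : G → ℂ) 1 = (d χ : ℂ) := fun χ =>
    Cfsg.Agent.Blocks.Basic.irr_one_eq_charDegree χ.2
  set X : Finset (IrrCharacter G) :=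
    Finset.univ.filter (fun χ : IrrCharacter G => ∀ z : K, (χ : G → ℂ) z = (χ : G → ℂ) 1 * l z) with hX
  have hle : ∀ χ ∈ X, d χ ≤ Nat.card U * m χ := by
    intro χ hχX
    have hχl : ∀ z : K, (χ : G → ℂ) z = (χ : G → ℂ) 1 * l z := by
      rw [hX, Finset.mem_filter] at hχX
      exact hχX.2
    obtain ⟨n, ρ, hρ, h⟩ := χ.2
    have h0 : Z ρ U ≠ 0 := by
      intro hZ
      apply hcon χ hχl
      rw [← h, trace_Z, hZ, LinearMap.range_zero, finrank_bot, Nat.cast_zero, mul_zero]
    have h1 := finrank_le ρ D h0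
    have h2 : (d χ : ℂ) = (finrank ℂ (Fin n → ℂ) : ℂ) := by
      rw [← hd1 χ, ← h, Representation.char_one]
    have h3 : d χ = finrank ℂ (Fin n → ℂ) := by exact_mod_cast h2
    have h4 : finrank ℂ (LinearMap.range (Z ρ U)) = m χ := by
      have h5 := hm χ
      rw [← h, trace_Z] at h5
      have hc : (Nat.card U : ℂ) ≠ 0 := card_ne_zero_complex
      exact_mod_cast mul_left_cancel₀ hc h5
    rw [h3, ← h4]
    exact h1
  -- the two sums
  have s0 : ∀ u : G, u ∈ U → ∑ χ ∈ X, (χ : G → ℂ) 1 * (χ : G → ℂ) u = if u = 1 then (K.index : ℂ) else 0 := by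
    intro u hu
    have h1 := sum_over K hK l u
    rw [← hX] at h1
    apply mul_left_cancel₀ hcK
    rw [h1]
    split_ifs with h
    · subst h
      rw [Finset.sum_eq_single (1 : K)]
      · rw [map_one, inv_one, Units.val_one, one_mul, OneMemClass.coe_one, one_mul,
          Cfsg.Agent.CharDeep.PowerDegrees.delta_one, mul_one, hGK]
      · intro z _ hz
        rw [Cfsg.Agent.CharDeep.PowerDegrees.delta_ne, mul_zero, mul_zero]
        rw [one_mul]
        exact fun h => hz (Subtype.ext h)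
      · intro h
        exact absurd (Finset.mem_univ _) h
    · rw [mul_zero]
      refine Finset.sum_eq_zero fun z _ => ?_
      rw [Cfsg.Agent.CharDeep.PowerDegrees.delta_ne, mul_zero, mul_zero]
      intro h2
      apply h
      apply hKU u hu
      rw [eq_inv_of_mul_eq_one_left h2]
      exact K.inv_mem z.2
  have e1 : ∑ χ ∈ X, d χ * d χ = K.index := by
    have h1 := s0 1 U.one_mem
    rw [if_pos rfl] at h1
    have h2 : ((∑ χ ∈ X, d χ * d χ : ℕ) : ℂ) = (K.index : ℂ) := by
      rw [← h1]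
      push_cast
      refine Finset.sum_congr rfl fun χ _ => ?_
      rw [hd1]
    exact_mod_cast h2
  have e2 : ∑ χ ∈ X, d χ * (Nat.card U * m χ) = K.index := by
    have h2 : ((∑ χ ∈ X, d χ * (Nat.card U * m χ) : ℕ) : ℂ) = (K.index : ℂ) := by
      push_cast
      calc ∑ χ ∈ X, (d χ : ℂ) * ((Nat.card U : ℂ) * (m χ : ℂ)) =
          ∑ χ ∈ X, ∑ u : U, (χ : G → ℂ) 1 * (χ : G → ℂ) u := by
            refine Finset.sum_congr rfl fun χ _ => ?_
            rw [← Finset.mul_sum, hm χ, hd1]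
        _ = ∑ u : U, ∑ χ ∈ X, (χ : G → ℂ) 1 * (χ : G → ℂ) u := Finset.sum_comm
        _ = ∑ u : U, if (u : G) = 1 then (K.index : ℂ) else 0 := Finset.sum_congr rfl fun u _ => s0 u u.2
        _ = (K.index : ℂ) := by
          rw [Finset.sum_eq_single (1 : U)]
          · rw [if_pos (OneMemClass.coe_one _)]
          · intro u _ hu
            rw [if_neg]
            exact fun h => hu (Subtype.ext h)
          · intro h
            exact absurd (Finset.mem_univ _) h
    exact_mod_cast h2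
  have e3 : ∀ χ ∈ X, d χ * d χ = d χ * (Nat.card U * m χ) := by
    apply (Finset.sum_eq_sum_iff_of_le (fun χ hχ => Nat.mul_le_mul_left _ (hle χ hχ))).1
    rw [e1, e2]
  apply hnd
  rw [← e1]
  refine Finset.dvd_sum fun χ hχ => ?_
  have h1 := e3 χ hχ
  have h2 : 0 < d χ := Cfsg.Agent.Blocks.Basic.charDegree_pos χ.2
  have h3 := Nat.eq_of_mul_eq_mul_left h2 h1
  rw [h3, pow_two]
  exact ⟨m χ * m χ, by ring⟩

/-- the degree is divisible by the primes which are orders of elements of `H` acting fixed point freely -/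
theorem exists_dvd {H U : Subgroup G} {w : G} (D : Data H U w) (K : Subgroup G)
    (hK : K ≤ Subgroup.center G) (hKU : ∀ u ∈ U, u ∈ K → u = 1) (l : K →* ℂˣ)
    (hnd : ¬ Nat.card U ^ 2 ∣ K.index) {p : ℕ} {x : G} (hx : x ∈ H) (hxp : orderOf x = p)
    (hreg : ∀ y ∈ Subgroup.zpowers x, y ≠ 1 → ∀ u ∈ U, y * u = u * y → u = 1) :
    ∃ χ : G → ℂ, IsIrrCharacter G χ ∧ (∀ z : K, χ z = χ 1 * l z) ∧ p ∣ charDegree χ := by
  classical
  have := Fintype.ofFinite U
  have := Fintype.ofFinite (Subgroup.zpowers x)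
  obtain ⟨χ, h1, h2⟩ := exists_cusp D K hK hKU l hnd
  refine ⟨χ, χ.2, h1, ?_⟩
  have h3 : ∀ y ∈ Subgroup.zpowers x, y ≠ 1 → (χ : G → ℂ) y = 0 := by
    intro y hy hy1
    obtain ⟨n, ρ, hρ, h⟩ := χ.2
    rw [← h] at h2 ⊢
    have hyH : y ∈ H := (Subgroup.zpowers_le.2 hx) hy
    refine zero_of_regular ρ U h2 (fun u => ⟨fun hu => D.norm y hyH u hu, fun hu => ?_⟩) (hreg y hy hy1)
    have := D.norm y⁻¹ (H.inv_mem hyH) _ hu
    have h2 : y⁻¹ * (y * u * y⁻¹) * y⁻¹⁻¹ = u := by group
    rwa [h2] at this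
  obtain ⟨m, hm⟩ := exists_mult (Subgroup.zpowers x) χ.2
  rw [Finset.sum_eq_single (1 : Subgroup.zpowers x)] at hm
  · rw [OneMemClass.coe_one, Cfsg.Agent.Blocks.Basic.irr_one_eq_charDegree χ.2, Nat.card_zpowers, hxp] at hm
    exact ⟨m, by exact_mod_cast hm⟩
  · intro u _ hu
    exact h3 u u.2 fun h => hu (Subtype.ext h)
  · intro h
    exact absurd (Finset.mem_univ _) h

end count

end Cfsg.Agent.H497.RIM
end

-- part: H497/RIM/PSUThree
section
/-!
# S4816, task RIM-L-PSU3: `NB p m (PSU 3 F q)` for odd primes `p` dividing `q - 1` (helper497)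

* `nb_of_data` : groups with a split BN pair of rank one: `NB p m S` if `p` is the order of an element of the torus whose
  nontrivial powers act fixed point freely on `U`, `m` prime to `p` and `|U|`;
* `nb_psu3` : `PSU 3 F q`, `q > 2`, `p` odd, `p ∣ q - 1`, `m` prime to `q` and `p` (in particular `m = 3`).
-/

set_option autoImplicit false

namespace Cfsg.Agent.H497.RIM

open Cfsg Cfsg.Agent.Characters.Core
open Cfsg.Agent.LieRecognition.RankOneAbstract (Data)
open Cfsg.Agent.H665.RIM (NB NBall)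

universe u

/-- the lift of a subgroup of order prime to the kernel of a central extension -/
theorem exists_lift {E S : Type*} [Group E] [Group S] [Finite E] (π : E →* S) (hπ : Function.Surjective π)
    (hK : π.ker ≤ Subgroup.center E) (U : Subgroup S) (hc : Nat.Coprime (Nat.card π.ker) (Nat.card U)) :
    ∃ C : Subgroup E, (∀ g, g ∈ C ↔ π g ∈ U ∧ g ^ Nat.card U = 1) ∧ (∀ u ∈ U, ∃ c ∈ C, π c = u) ∧
      Nat.card C = Nat.card U := by
  have hS : Finite S := Finite.of_surjective π hπ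
  set B : Subgroup E := U.comap π with hB
  set K' : Subgroup B := π.ker.subgroupOf B with hK'
  have hKB : π.ker ≤ B := by
    intro k hk
    rw [hB, Subgroup.mem_comap, MonoidHom.mem_ker.1 hk]
    exact U.one_mem
  have hcK : Nat.card K' = Nat.card π.ker := Nat.card_congr (Subgroup.subgroupOfEquivOfLe hKB).toEquiv
  have hiK : K'.index = Nat.card U := by
    change π.ker.relIndex B = Nat.card U
    rw [Subgroup.relIndex_ker, hB, Subgroup.map_comap_eq_self_of_surjective hπ]
  obtain ⟨C, hC⟩ := Subgroup.exists_right_complement'_of_coprime (N := K') (by rw [hcK, hiK]; exact hc)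
  have hcC : Nat.card C = Nat.card U := by
    rw [← hiK]
    exact hC.symm.index_eq_card.symm
  have hdec : ∀ g, π g ∈ U → ∃ k ∈ π.ker, ∃ c : B, c ∈ C ∧ g = k * c := by
    intro g hg
    obtain ⟨⟨k, c⟩, h⟩ := hC.2 ⟨g, hg⟩
    refine ⟨(k : B), k.2, c, c.2, ?_⟩
    exact (congrArg Subtype.val h).symm
  have hpow : ∀ c : B, c ∈ C → (c : E) ^ Nat.card U = 1 := by
    intro c hc
    have h1 : (⟨c, hc⟩ : C) ^ Nat.card C = 1 := pow_card_eq_one'
    rw [hcC] at h1
    have h2 := congrArg (fun t : C => ((t : B) : E)) h1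
    exact h2
  refine ⟨C.map B.subtype, ?_, ?_, ?_⟩
  · intro g
    constructor
    · rintro ⟨c, hc, rfl⟩
      exact ⟨c.2, hpow c hc⟩
    · rintro ⟨hg, hgn⟩
      obtain ⟨k, hk, c, hc', rfl⟩ := hdec g hg
      have hcomm : Commute k (c : E) := (Subgroup.mem_center_iff.1 (hK hk) c).symm
      rw [hcomm.mul_pow, hpow c hc', mul_one] at hgn
      have h1 : k ^ Nat.card π.ker = 1 := by
        have h1 : (⟨k, hk⟩ : π.ker) ^ Nat.card π.ker = 1 := pow_card_eq_one'
        exact congrArg Subtype.val h1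
      have h2 : orderOf k ∣ Nat.gcd (Nat.card π.ker) (Nat.card U) :=
        Nat.dvd_gcd (orderOf_dvd_of_pow_eq_one h1) (orderOf_dvd_of_pow_eq_one hgn)
      rw [hc] at h2
      have h3 : k = 1 := orderOf_eq_one_iff.1 (Nat.dvd_one.1 h2)
      rw [h3, one_mul]
      exact ⟨c, hc', rfl⟩
  · intro u hu
    obtain ⟨g, rfl⟩ := hπ u
    obtain ⟨k, hk, c, hc', rfl⟩ := hdec g hu
    refine ⟨c, ⟨c, hc', rfl⟩, ?_⟩
    rw [map_mul, MonoidHom.mem_ker.1 hk, one_mul]
  · rw [← hcC]
    exact (Nat.card_congr (C.equivMapOfInjective B.subtype B.subtype_injective).toEquiv).symm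

/-- **Groups with a split BN pair of rank one.** -/
theorem nb_of_data {S : Type u} [Group S] [Finite S] {H U : Subgroup S} {w : S} (D : Data H U w)
    (hU : ¬ Nat.card U ^ 2 ∣ Nat.card S) {p m : ℕ} (hp : p.Prime) {x : S} (hx : x ∈ H) (hxp : orderOf x = p)
    (hreg : ∀ y ∈ Subgroup.zpowers x, y ≠ 1 → ∀ u ∈ U, y * u = u * y → u = 1) (hmU : Nat.Coprime m (Nat.card U))
    (hpm : ¬ p ∣ m) : NB p m S := by
  intro E _ _ π hπ hker _ hcard l _
  have hpf := Fact.mk hp
  obtain ⟨C, hC, hCU, hcC⟩ := exists_lift π hπ hker U (by rw [hcard]; exact hmU)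
  have hcop : Nat.Coprime p m := (Nat.Prime.coprime_iff_not_dvd hp).2 hpm
  have hkm : ∀ k ∈ π.ker, k ^ m = 1 := by
    intro k hk
    have h1 : (⟨k, hk⟩ : π.ker) ^ Nat.card π.ker = 1 := pow_card_eq_one'
    rw [hcard] at h1
    exact congrArg Subtype.val h1
  have hCK : ∀ u ∈ C, u ∈ π.ker → u = 1 := by
    intro u hu hk
    have h2 : orderOf u ∣ Nat.gcd m (Nat.card U) :=
      Nat.dvd_gcd (orderOf_dvd_of_pow_eq_one (hkm u hk)) (orderOf_dvd_of_pow_eq_one ((hC u).1 hu).2)
    rw [hmU] at h2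
    exact orderOf_eq_one_iff.1 (Nat.dvd_one.1 h2)
  obtain ⟨w', hw'⟩ := hπ w
  have D' : Data (H.comap π) C w' :=
    { w_not_mem := by
        intro h
        rw [Subgroup.mem_comap, hw'] at h
        exact D.w_not_mem h
      le := fun c hc => D.le ((hC c).1 hc).1
      norm := by
        intro h hh s hs
        rw [hC] at hs ⊢
        refine ⟨?_, ?_⟩
        · rw [map_mul, map_mul, map_inv]
          exact D.norm _ hh _ hs.1
        · rw [conj_pow, hs.2, mul_one, mul_inv_cancel]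
      bruhat := by
        intro g hg
        obtain ⟨s, hs, h⟩ := D.bruhat (π g) hg
        obtain ⟨c, hc, rfl⟩ := hCU s hs
        refine ⟨c, hc, ?_⟩
        rw [Subgroup.mem_comap, map_mul, map_inv, map_mul, hw']
        exact h
      inter := by
        intro s hs h
        rw [Subgroup.mem_comap, map_mul, map_mul, map_inv, hw'] at h
        exact hCK s hs (D.inter _ ((hC s).1 hs).1 h) }
  -- the lift of `x`
  obtain ⟨g, hg⟩ := hπ x
  obtain ⟨k, hk1, hk2⟩ := Nat.chineseRemainder hcop 1 0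
  have hmk : m ∣ k := (Nat.modEq_zero_iff_dvd).1 hk2
  have hxp' : x ^ p = 1 := by rw [← hxp]; exact pow_orderOf_eq_one x
  have hx' : π (g ^ k) = x := by
    rw [map_pow, hg]
    have : x ^ k = x ^ 1 := by
      rw [pow_eq_pow_iff_modEq, hxp]
      exact hk1
    rw [this, pow_one]
  have hx1 : x ≠ 1 := by
    rintro rfl
    rw [orderOf_one] at hxp
    exact hp.ne_one hxp.symm
  have hgk : (g ^ k) ^ p = 1 := by
    obtain ⟨j, hj⟩ := hmk
    have h1 : g ^ p ∈ π.ker := by rw [MonoidHom.mem_ker, map_pow, hg, hxp']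
    rw [← pow_mul, mul_comm k p, pow_mul, hj, pow_mul, hkm _ h1, one_pow]
  have hord : orderOf (g ^ k) = p := by
    apply orderOf_eq_prime hgk
    intro h
    rw [h, map_one] at hx'
    exact hx1 hx'.symm
  refine exists_dvd D' π.ker hker hCK l ?_ (x := g ^ k) ?_ hord ?_
  · rw [hcC, Subgroup.index_ker, MonoidHom.range_eq_top.2 hπ, Subgroup.card_top]
    exact hU
  · rw [Subgroup.mem_comap, hx']
    exact hx
  · intro y hy hy1 u hu hyu
    apply hCK u hu
    rw [MonoidHom.mem_ker]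
    refine hreg (π y) ?_ ?_ (π u) ((hC u).1 hu).1 ?_
    · obtain ⟨i, rfl⟩ := hy
      refine ⟨i, ?_⟩
      change x ^ i = π ((g ^ k) ^ i)
      rw [map_zpow, hx']
    · intro h
      apply hy1
      have h2 : y ^ p = 1 := by
        obtain ⟨i, rfl⟩ := hy
        change ((g ^ k) ^ i) ^ p = 1
        rw [← zpow_natCast, ← zpow_mul, mul_comm, zpow_mul, zpow_natCast, hgk, one_zpow]
      have h3 : orderOf y ∣ Nat.gcd p m :=
        Nat.dvd_gcd (orderOf_dvd_of_pow_eq_one h2) (orderOf_dvd_of_pow_eq_one (hkm y h))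
      rw [hcop] at h3
      exact orderOf_eq_one_iff.1 (Nat.dvd_one.1 h3)
    · rw [← map_mul, hyu, map_mul]

section PSU

open Cfsg.Agent.H904.PVU Cfsg.Agent.UThreeGen.MatGroup
open Cfsg.Agent.HKS.EndU (tor tor_mem)

variable {F : Type u} [Field F] [Fintype F] {q : ℕ}

/-- **`PSU₃(q)`, `p` odd, `p ∣ q - 1`.** -/
theorem nb_psu3 (hF : Fintype.card F = q ^ 2) (hq : 2 < q) {p m : ℕ} (hp : p.Prime) (hp2 : p ≠ 2)
    (hd : p ∣ q - 1) (hmq : Nat.Coprime m q) (hpm : ¬ p ∣ m) : NB p m (Cfsg.PSU 3 F q) := by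
  obtain ⟨σ, hσ, π, S⟩ := exists_setup hF hq
  have hqq : q ^ 2 - 1 = (q + 1) * (q - 1) := by
    have := Nat.sq_sub_sq q 1
    rwa [one_pow] at this
  obtain ⟨a, ha⟩ := exists_order hF (n := p) (by rw [hqq]; exact Dvd.dvd.mul_left hd _)
  have hap : a ^ p = 1 := by rw [← ha]; exact pow_orderOf_eq_one a
  have hd1 : ¬ p ∣ q + 1 := by
    intro h
    have h1 : p ∣ (q + 1) - (q - 1) := Nat.dvd_sub h hd
    have h2 : (q + 1) - (q - 1) = 2 := by omega
    rw [h2] at h1
    exact hp2 ((Nat.prime_dvd_prime_iff_eq hp Nat.prime_two).1 h1)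
  have hnorm : ∀ b : Fˣ, b ^ p = 1 → b ≠ 1 → (b : F) * σ (b : F) ≠ 1 := by
    intro b hbp hb1 h
    rw [S.hs] at h
    have h1 : b ^ (q + 1) = 1 := by
      apply Units.ext
      rw [Units.val_pow_eq_pow_val, pow_succ', Units.val_one]
      exact h
    have h2 := orderOf_dvd_of_pow_eq_one h1
    rw [orderOf_eq_prime (hp := ⟨hp⟩) hbp hb1] at h2
    exact hd1 h2
  have ha1 : a ≠ 1 := by
    rintro rfl
    rw [orderOf_one] at ha
    exact hp.ne_one ha.symm
  have hl := hnorm a hap ha1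
  have hxp : orderOf (π (tor σ a)) = p := by
    have := Fact.mk hp
    refine orderOf_eq_prime ?_ (S.tor_ne hl)
    rw [← map_pow, ← map_pow, hap, map_one, map_one]
  refine nb_of_data S.data ?_ hp (S.tor_mem' a) hxp ?_ ?_ hpm
  · obtain ⟨r, hr, Q, hQ⟩ := S.exists_sylow
    rw [← hQ]
    obtain ⟨k, hk⟩ := IsPGroup.iff_card.1 Q.isPGroup'
    intro h
    have hk0 : k ≠ 0 := by
      rintro rfl
      rw [pow_zero, Subgroup.card_eq_one, hQ] at hk
      exact S.U_ne_bot hk
    have h1 : r ^ (k + 1) ∣ Nat.card (Cfsg.PSU 3 F q) := by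
      refine dvd_trans ?_ h
      rw [hk, ← pow_mul]
      exact pow_dvd_pow r (by omega)
    have h2 : r ^ k * r ∣ Nat.card (Q : Subgroup (Cfsg.PSU 3 F q)) * (Q : Subgroup (Cfsg.PSU 3 F q)).index := by
      rw [Subgroup.card_mul_index, ← pow_succ]
      exact h1
    rw [hk] at h2
    exact Q.not_dvd_index (Nat.dvd_of_mul_dvd_mul_left (pow_pos hr.out.pos k) h2)
  · rintro _ ⟨i, rfl⟩ hy1 u hu hyu
    have e : π (tor σ a) ^ i = π (tor σ (a ^ i)) := by rw [map_zpow, map_zpow]
    change π (tor σ a) ^ i ≠ 1 at hy1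
    change π (tor σ a) ^ i * u = u * π (tor σ a) ^ i at hyu
    rw [e] at hy1 hyu
    refine S.reg (hnorm (a ^ i) ?_ ?_) u hu hyu
    · rw [← zpow_natCast, ← zpow_mul, mul_comm, zpow_mul, zpow_natCast, hap, one_zpow]
    · intro h
      apply hy1
      rw [h, map_one, map_one]
  · rw [S.card_U]
    exact Nat.Coprime.pow_right 3 hmq

end PSU

end Cfsg.Agent.H497.RIM
end
end

-- part: H655/RIM/St81
section
set_option linter.all false
open scoped Cfsg.Agent.FastGrp

/-!
# S4816: the Steinberg character of degree 81 of `U4(2) = PSp4(3)` (helper655)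

* `card_su4` : `|SU_4(2)| = 25920`; `exists_eightyone` : an irreducible character of degree 81 of `SU 4 F 2`, `|F| = 4`.
-/

set_option autoImplicit false

namespace Cfsg.Agent.H655.RIM

open Cfsg

theorem card_su4 {F : Type*} [Field F] [Fintype F] (hF : Fintype.card F = 4) : Nat.card (SU 4 F 2) = 25920 := by
  rw [H948.UProd.card_SU (q := 2) (by rw [hF]; norm_num) (by norm_num)]
  have h3 : ¬ Even 3 := by decide
  simp [H948.UProd.ph, Finset.prod_range_succ, h3]

theorem card_psu4 {F : Type*} [Field F] [Fintype F] (hF : Fintype.card F = 4) : Nat.card (PSU 4 F 2) = 25920 := by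
  have h1 := Subgroup.card_mul_index (Subgroup.center (SU 4 F 2))
  rw [S0279.result (q := 2) (by rw [hF]; norm_num) 4 (by norm_num), card_su4 hF] at h1
  norm_num at h1
  exact h1

theorem fact_num : (25920 : ℕ).factorization 3 = 4 := by
  rw [show (25920 : ℕ) = 3 ^ 4 * 320 by norm_num, Nat.factorization_mul (by norm_num) (by norm_num),
    Nat.Prime.factorization_pow Nat.prime_three, Finsupp.add_apply, Finsupp.single_eq_same,
    Nat.factorization_eq_zero_of_not_dvd (by norm_num)]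

/-- **an irreducible character of degree 81** -/
theorem exists_eightyone {F : Type*} [Field F] [Fintype F] (hF : Fintype.card F = 4) :
    ∃ χ : SU 4 F 2 → ℂ, IsIrrCharacter (SU 4 F 2) χ ∧ charDegree χ = 81 := by
  obtain ⟨e⟩ := S0822.result (F := F) (K := ZMod 3) hF (by rw [ZMod.card])
  obtain ⟨χ, hχ, hχ1⟩ := S2545.result (F := ZMod 3) 3 2 (by norm_num)
  obtain ⟨h1, -⟩ := hχ1 default
  let f : SU 4 F 2 →* PSp 2 (ZMod 3) := e.toMonoidHom.comp (QuotientGroup.mk' (Subgroup.center (SU 4 F 2)))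
  have hf : Function.Surjective f := e.surjective.comp (QuotientGroup.mk'_surjective _)
  refine ⟨χ ∘ f, Characters.Core.isIrr_comp f hf hχ, Blocks.Basic.charDegree_of_eq ?_⟩
  show χ (f 1) = _
  rw [map_one, h1, Sylow.card_eq_multiplicity, ← Nat.card_congr e.toEquiv, card_psu4 hF, fact_num]
  norm_num

end Cfsg.Agent.H655.RIM

private theorem dce_99d292f1f10b : _root_.True := by
  try have : _root_.True := by simp only [_root_.Cfsg.Agent.H948.UProd.ph.eq_1]
  exact _root_.True.intro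
end

-- part: H229/RIM/PChar
section
set_option linter.all false
open scoped Cfsg.Agent.FastGrp

/-!
# S4816, case B: product characters of central products (helper229)
-/

set_option autoImplicit false
set_option linter.unusedSectionVars false
set_option linter.style.haveILetI false

open Cfsg
open scoped commutatorElement

namespace Cfsg.Agent.H229.RIM

open Cfsg.Agent.Characters.Core

universe u v w

theorem exists_irr_of_ker {A : Type v} [Group A] [Finite A] {B : Type w} [Group B] (f : A →* B)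
    (hf : Function.Surjective f) {χ : A → ℂ} (hχ : IsIrrCharacter A χ) (hker : ∀ z : A, f z = 1 → χ z = χ 1) :
    ∃ χ' : B → ℂ, IsIrrCharacter B χ' ∧ ∀ g, χ g = χ' (f g) := by
  classical
  have := Fintype.ofFinite f.ker
  obtain ⟨χ', hχ'⟩ := Cfsg.Agent.Blocks.Deflate.exists_deflation f.ker χ hχ (by
    rw [Finset.sum_congr rfl fun n _ => show χ ((n : f.ker) : A) = χ 1 from hker n n.2, Finset.sum_const,
      nsmul_eq_mul]
    refine mul_ne_zero ?_ (isIrr_apply_one_ne_zero hχ)
    exact Nat.cast_ne_zero.2 (Finset.card_ne_zero.2 ⟨1, Finset.mem_univ _⟩))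
  let e := QuotientGroup.quotientKerEquivOfSurjective f hf
  refine ⟨(χ' : A ⧸ f.ker → ℂ) ∘ e.symm, isIrr_comp e.symm.toMonoidHom e.symm.surjective χ'.2, fun g => ?_⟩
  refine (congrFun hχ' g).trans ?_
  have h1 : e.symm (f g) = (g : A ⧸ f.ker) := by
    rw [MulEquiv.symm_apply_eq]
    rfl
  exact congrArg (χ' : A ⧸ f.ker → ℂ) h1.symm

section

variable {G : Type u} [Group G] [Finite G] {Z : Subgroup G} {ι : Type v} [Fintype ι]

theorem exists_prod_mem (l : Z →* ℂˣ) (k : ι → G) (hk : ∀ i, k i ∈ Z) (s : Finset ι)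
    (hc : (s : Set ι).Pairwise fun i j => Commute (k i) (k j)) :
    ∃ h : s.noncommProd k hc ∈ Z, (l ⟨_, h⟩ : ℂ) = ∏ i ∈ s, (l ⟨k i, hk i⟩ : ℂ) := by
  classical
  induction s using Finset.induction_on with
  | empty =>
    refine ⟨by rw [Finset.noncommProd_empty]; exact Z.one_mem, ?_⟩
    rw [Finset.prod_empty]
    have : l ⟨(∅ : Finset ι).noncommProd k hc, by rw [Finset.noncommProd_empty]; exact Z.one_mem⟩ = l 1 :=
      congrArg l (Subtype.ext (show (∅ : Finset ι).noncommProd k hc = 1 from Finset.noncommProd_empty k hc))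
    rw [this, map_one, Units.val_one]
  | @insert a s ha ih =>
    obtain ⟨h1, h2⟩ := ih (hc.mono (by simp))
    have h3 := Finset.noncommProd_insert_of_notMem s a k hc ha
    have h4 : (insert a s).noncommProd k hc ∈ Z := by
      rw [h3]
      exact Z.mul_mem (hk a) h1
    refine ⟨h4, ?_⟩
    rw [Finset.prod_insert ha, ← h2, ← Units.val_mul, ← map_mul]
    exact congrArg (fun x => (l x : ℂ)) (Subtype.ext h3)

/-- **Product characters.** -/
theorem exists_prodChar (l : Z →* ℂˣ) (L : ι → Subgroup G)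
    (hcomm : Pairwise fun i j => ∀ x y : G, x ∈ L i → y ∈ L j → Commute x y)
    (hcen : ∀ i, ∀ x ∈ L i, (∀ y ∈ L i, x * y = y * x) → x ∈ Z)
    (ψ : ∀ i, L i → ℂ) (hψ : ∀ i, IsIrrCharacter (L i) (ψ i))
    (hov : ∀ i (x : G) (hx : x ∈ L i) (hz : x ∈ Z), ψ i ⟨x, hx⟩ = ψ i 1 * l ⟨x, hz⟩)
    {Y : Subgroup G} (hY : Y = ⨆ i, L i) :
    ∃ χ : Y → ℂ, IsIrrCharacter Y χ ∧ χ 1 = ∏ i, ψ i 1 ∧
      ∀ i (x : G) (hx : x ∈ L i) (hxY : x ∈ Y), χ ⟨x, hxY⟩ * ψ i 1 = χ 1 * ψ i ⟨x, hx⟩ := by
  classical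
  let Φ : (∀ i, L i) →* G := Subgroup.noncommPiCoprod hcomm
  have hΦr : Φ.range = Y := by rw [hY]; exact Subgroup.noncommPiCoprod_range
  have hΦs : ∀ i (y : L i), Φ (Pi.mulSingle i y) = y := fun i y => Subgroup.noncommPiCoprod_mulSingle i y
  let f : (∀ i, L i) →* Y := Φ.codRestrict Y (fun x => by rw [← hΦr]; exact ⟨x, rfl⟩)
  have hfc : ∀ x, (f x : G) = Φ x := fun _ => rfl
  have hf : Function.Surjective f := by
    rintro ⟨y, hy⟩
    rw [← hΦr] at hy
    obtain ⟨x, hx⟩ := hy
    exact ⟨x, Subtype.ext hx⟩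
  have hF := Cfsg.Agent.H793.PC.isIrr_pi hψ
  have hker : ∀ k, f k = 1 → (∏ i, ψ i (k i)) = ∏ i, ψ i ((1 : ∀ i, L i) i) := by
    intro k hk
    have hk' : Φ k = 1 := congrArg Subtype.val hk
    have hkZ : ∀ i, (k i : G) ∈ Z := by
      intro i
      refine hcen i _ (k i).2 fun y hy => ?_
      have h1 : k * Pi.mulSingle i ⟨y, hy⟩ * k⁻¹ * (Pi.mulSingle i ⟨y, hy⟩)⁻¹ =
          Pi.mulSingle i (k i * ⟨y, hy⟩ * (k i)⁻¹ * (⟨y, hy⟩ : L i)⁻¹) := by
        funext j
        by_cases hj : j = i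
        · subst hj
          simp
        · simp [Pi.mulSingle_eq_of_ne hj]
      have h2 := congrArg Φ h1
      rw [hΦs, map_mul, map_mul, map_mul, map_inv, map_inv, hk', hΦs, one_mul, inv_one, mul_one,
        mul_inv_cancel] at h2
      have h3 : (k i : G) * y * (k i : G)⁻¹ * y⁻¹ = 1 := h2.symm
      rw [mul_inv_eq_one, mul_inv_eq_iff_eq_mul] at h3
      exact h3
    have h1 : ∀ i, ψ i (k i) = ψ i ((1 : ∀ i, L i) i) * l ⟨k i, hkZ i⟩ := fun i =>
      hov i _ (k i).2 (hkZ i)
    rw [Finset.prod_congr rfl fun i _ => h1 i, Finset.prod_mul_distrib]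
    have h2 := Subgroup.noncommPiCoprod_apply hcomm k
    obtain ⟨h3, h4⟩ := exists_prod_mem l (fun i => (k i : G)) hkZ Finset.univ
      (fun i _ j _ h => hcomm h _ _ (k i).2 (k j).2)
    rw [← h4]
    have h5 : l ⟨_, h3⟩ = l 1 := congrArg l (Subtype.ext (h2.symm.trans hk'))
    rw [h5, map_one, Units.val_one, mul_one]
  obtain ⟨χ, hχ, hχf⟩ := exists_irr_of_ker f hf hF hker
  have h1 : χ 1 = ∏ i, ψ i 1 := by
    have h2 := hχf 1
    rw [map_one] at h2
    exact h2.symm
  refine ⟨χ, hχ, h1, fun i x hx hxY => ?_⟩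
  have h2 : χ ⟨x, hxY⟩ = ψ i ⟨x, hx⟩ * ∏ j ∈ Finset.univ.erase i, ψ j 1 := by
    have h3 : f (Pi.mulSingle i ⟨x, hx⟩) = ⟨x, hxY⟩ := Subtype.ext (hΦs i ⟨x, hx⟩)
    rw [← h3, ← hχf, ← Finset.mul_prod_erase Finset.univ _ (Finset.mem_univ i), Pi.mulSingle_eq_same]
    congr 1
    refine Finset.prod_congr rfl fun j hj => ?_
    rw [Pi.mulSingle_eq_of_ne (Finset.ne_of_mem_erase hj)]
  rw [h2, h1, ← Finset.mul_prod_erase Finset.univ _ (Finset.mem_univ i)]
  ring

end

end Cfsg.Agent.H229.RIM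
end

-- part: H696/RIM/Cen
section
prune_inst 0x220080000000000000080000000000001c410002
set_option linter.all false
open scoped Cfsg.Agent.FastGrp

/-!
# S4816: reduction to faithful characters of central `p'`-subgroups (helper696)
-/

set_option autoImplicit false
set_option linter.style.haveILetI false
set_option linter.unusedSectionVars false
open Cfsg

namespace Cfsg.Agent.H696.RIM

open Cfsg.Agent.Characters.Core Cfsg.Agent.Characters.Clifford Cfsg.Agent.H672
open Cfsg.Agent.H595.Triple Cfsg.Agent.H595.Central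
open Cfsg.Agent.H672.RM (over_lin_iff TSet)
open Cfsg.Agent.H586.GW
open scoped ComplexConjugate commutatorElement

universe u

/-- The goal for the normal subgroups of index `n`. -/
def Gl (p n : ℕ) : Prop :=
  ∀ {G : Type u} [Group G] [Finite G] (N : Subgroup G) [N.Normal] (θ : N → ℂ),
    IsIrrCharacter N θ → N.index = n → RelP p N.subtype θ → AbP p N

/-- The goal for faithful characters of central `p'`-subgroups of index `n`. -/
def CG (p n : ℕ) : Prop :=
  ∀ {G : Type u} [Group G] [Finite G] (Z : Subgroup G) (_ : Z ≤ Subgroup.center G)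
    (l : Z →* ℂˣ), Function.Injective l → ¬ p ∣ Nat.card Z → Z.index = n →
      RelP p Z.subtype (lf l) → AbP p Z

section
variable {p : ℕ} [hp : Fact p.Prime] {G : Type u} [Group G] [Finite G]

/-- Multiplication by a linear character of `G`. -/
theorem relP_mul (Z : Subgroup G) (hZ : Z ≤ Subgroup.center G) (l : Z →* ℂˣ) (μ : G →* ℂˣ)
    (h : RelP p Z.subtype (lf l)) : RelP p Z.subtype (lf (l * μ.comp Z.subtype)) := by
  intro χ hχ hov hd
  rw [over_lin_iff Z.subtype (fun z => hZ z.2) hχ] at hov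
  have h1 : IsIrrCharacter G (fun g => ((μ⁻¹ g : ℂˣ) : ℂ) * χ g) := by
    obtain ⟨n, ρ, hirr, hρ⟩ := hχ
    refine ⟨n, CharDeep.Twist.twist μ⁻¹ ρ, CharDeep.Twist.twist_irreducible _ _ hirr, ?_⟩
    funext g
    rw [CharDeep.Twist.twist_character, hρ]
  refine h _ h1 ?_ ?_
  · rw [over_lin_iff Z.subtype (fun z => hZ z.2) h1]
    intro z
    have h2 := hov z
    simp only [map_one, Units.val_one, one_mul]
    rw [h2, MonoidHom.mul_apply, MonoidHom.comp_apply, Units.val_mul, MonoidHom.inv_apply]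
    have h3 : (((μ (Z.subtype z))⁻¹ : ℂˣ) : ℂ) * ((μ (Z.subtype z) : ℂˣ) : ℂ) = 1 := by
      rw [← Units.val_mul, inv_mul_cancel, Units.val_one]
    linear_combination (χ 1 * (l z : ℂ)) * h3
  · have h2 : charDegree (fun g => ((μ⁻¹ g : ℂˣ) : ℂ) * χ g) = charDegree χ := by
      rw [Blocks.Basic.charDegree_def, Blocks.Basic.charDegree_def]
      simp
    rw [h2, charDegree_lf]
    rwa [charDegree_lf] at hd

/-- A twist of `p'`-order. -/
theorem exists_twist (Z : Subgroup G) (hZ : Z ≤ Subgroup.center G) (l : Z →* ℂˣ)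
    (h : RelP p Z.subtype (lf l)) : ∃ (μ : G →* ℂˣ) (m : ℕ), ¬ p ∣ m ∧
      ∀ z : Z, (l * μ.comp Z.subtype) z ^ m = 1 := by
  classical
  letI := Fintype.ofFinite G
  letI := Fintype.ofFinite Z
  haveI := center_normal Z hZ
  obtain ⟨χ, hχ, hov⟩ := exists_over_subtype Z (isIrr_lf l)
  have hd : ¬ p ∣ charDegree χ := by
    have := h χ hχ hov
    rwa [charDegree_lf, mul_one] at this
  have hz := (over_lin_iff Z.subtype (fun z => hZ z.2) hχ l).1 hov
  obtain ⟨n, ρ, hirr, hρ⟩ := hχ
  have hn : charDegree χ = n := by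
    apply charDegree_of_eq
    rw [← hρ]
    simp
  rw [hn] at hd
  -- the determinant of `ρ` on `Z`
  have hdet : ∀ z : Z, CharDeep.Twist.detHom ρ z = l z ^ n := by
    intro z
    obtain ⟨c, hc⟩ := Cfsg.Agent.CharactersDeep.Extraspecial.exists_central_hom_rep ρ hirr
    have h1 := hc ⟨z, hZ z.2⟩
    change ρ (z : G) = _ at h1
    have hn0 : (n : ℂ) ≠ 0 := by
      intro h0
      apply hd
      rw [Nat.cast_eq_zero.1 h0]
      exact dvd_zero p
    have h2 : ((c ⟨z, hZ z.2⟩ : ℂˣ) : ℂ) = l z := by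
      have h3 := hz z
      rw [← hρ] at h3
      change LinearMap.trace ℂ _ (ρ (z : G)) = LinearMap.trace ℂ _ (ρ 1) * _ at h3
      rw [h1, map_one, map_smul, LinearMap.trace_id, Module.End.one_eq_id, LinearMap.trace_id, Module.finrank_fin_fun, smul_eq_mul,
        mul_comm] at h3
      exact mul_left_cancel₀ hn0 h3
    apply Units.ext
    rw [CharDeep.Twist.detHom_apply, h1, LinearMap.det_smul, LinearMap.det_id, mul_one, h2,
      Module.finrank_fin_fun, Units.val_pow_eq_pow_val]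
  obtain ⟨a, m, hm, hcard⟩ := Nat.exists_eq_pow_mul_and_not_dvd (n := Nat.card Z) Nat.card_pos.ne' p hp.out.ne_one
  obtain ⟨j, hj⟩ : ∃ j : ℕ, n * j ≡ 1 [MOD p ^ a] := by
    have hcop : Nat.Coprime n (p ^ a) :=
      Nat.Coprime.pow_right _ ((Nat.Prime.coprime_iff_not_dvd hp.out).2 hd).symm
    rcases Nat.eq_zero_or_pos a with rfl | ha
    · exact ⟨0, by rw [pow_zero]; exact Nat.modEq_one⟩
    · have h1 : 1 < p ^ a := Nat.one_lt_pow ha.ne' hp.out.one_lt
      obtain ⟨j, -, hj⟩ := Nat.exists_mul_mod_eq_one_of_coprime hcop h1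
      exact ⟨j, by rw [Nat.ModEq, hj, Nat.mod_eq_of_lt h1]⟩
  refine ⟨((CharDeep.Twist.detHom ρ)⁻¹) ^ j, m, hm, fun z => ?_⟩
  have h1 : l z ^ (p ^ a * m) = 1 := by
    rw [← hcard, ← map_pow]
    rw [pow_card_eq_one', map_one]
  rw [MonoidHom.mul_apply, MonoidHom.comp_apply, MonoidHom.pow_apply, MonoidHom.inv_apply]
  change (l z * ((CharDeep.Twist.detHom ρ (z : G))⁻¹) ^ j) ^ m = 1
  rw [hdet]
  -- `l z` to the power `m (1 - n j)`
  have h2 : (l z ^ m) ^ (n * j) = l z ^ m := by
    have h3 : orderOf (l z ^ m) ∣ p ^ a := by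
      apply orderOf_dvd_of_pow_eq_one
      rw [← pow_mul, mul_comm m, h1]
    have h4 : n * j ≡ 1 [MOD orderOf (l z ^ m)] := hj.of_dvd h3
    rw [pow_eq_pow_iff_modEq.2 h4, pow_one]
  have h5 : (l z * ((l z ^ n)⁻¹) ^ j) ^ m = l z ^ m * ((l z ^ m) ^ (n * j))⁻¹ := by
    rw [mul_pow, inv_pow, inv_pow, ← pow_mul, ← pow_mul, ← pow_mul]
    congr 3
    ring
  rw [h5, h2, mul_inv_cancel]

/-- The central case for all linear characters. -/
theorem CG.all {n : ℕ} (h : CG.{u} p n) (Z : Subgroup G)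
    (hZ : Z ≤ Subgroup.center G) (l₀ : Z →* ℂˣ)
    (hn : Z.index = n) (hrel₀ : RelP p Z.subtype (lf l₀)) : AbP p Z := by
  classical
  obtain ⟨μ, m, hm, hpow⟩ := exists_twist Z hZ l₀ hrel₀
  obtain ⟨l, hl⟩ : ∃ l, l = l₀ * μ.comp Z.subtype := ⟨_, rfl⟩
  have hrel : RelP p Z.subtype (lf l) := hl ▸ relP_mul Z hZ l₀ μ hrel₀
  rw [← hl] at hpow
  let K : Subgroup G := l.ker.map Z.subtype
  have hKZ : K ≤ Z := by
    rintro _ ⟨z, -, rfl⟩
    exact z.2
  haveI hK : K.Normal := center_normal K (hKZ.trans hZ)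
  let q : G →* G ⧸ K := QuotientGroup.mk' K
  have hq : Function.Surjective q := QuotientGroup.mk'_surjective K
  have hkq : q.ker = K := QuotientGroup.ker_mk' K
  let Z' : Subgroup (G ⧸ K) := Z.map q
  have hcomap : Z'.comap q = Z := by
    rw [Subgroup.comap_map_eq, hkq, sup_eq_left.2 hKZ]
  have hZ' : Z' ≤ Subgroup.center (G ⧸ K) := by
    rintro _ ⟨z, hz, rfl⟩
    rw [Subgroup.mem_center_iff]
    intro x
    obtain ⟨x, rfl⟩ := hq x
    rw [← map_mul, ← map_mul, Subgroup.mem_center_iff.1 (hZ hz) x]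
  let f : Z →* Z' := (q.comp Z.subtype).codRestrict Z' (fun z => ⟨z, z.2, rfl⟩)
  have hf : Function.Surjective f := by
    rintro ⟨_, z, hz, rfl⟩
    exact ⟨⟨z, hz⟩, rfl⟩
  have hkf : f.ker ≤ l.ker := by
    intro z hz
    have h1 : q (z : G) = 1 := congrArg Subtype.val (MonoidHom.mem_ker.1 hz)
    have h2 : (z : G) ∈ K := by rw [← hkq]; exact MonoidHom.mem_ker.2 h1
    obtain ⟨w, hw, hwz⟩ := h2
    have : w = z := Subtype.ext hwz
    rwa [← this]
  let l' : Z' →* ℂˣ := f.liftOfSurjective hf ⟨l, hkf⟩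
  have hl' : ∀ z, l' (f z) = l z := fun z => MonoidHom.liftOfRightInverse_comp_apply _ _ _ _ _
  have hinj : Function.Injective l' := by
    rw [injective_iff_map_eq_one]
    intro z hz
    obtain ⟨z, rfl⟩ := hf z
    rw [hl'] at hz
    apply Subtype.ext
    change q (z : G) = 1
    rw [← MonoidHom.mem_ker, hkq]
    exact ⟨z, hz, rfl⟩
  have hcard : ¬ p ∣ Nat.card Z' := by
    intro hd
    obtain ⟨z, hz⟩ := exists_prime_orderOf_dvd_card' p hd
    obtain ⟨z₀, rfl⟩ := hf z
    have h1 : f z₀ ^ m = 1 := by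
      apply hinj
      rw [map_pow, hl', hpow, map_one]
    exact hm (hz ▸ orderOf_dvd_of_pow_eq_one h1)
  have hab : AbP p Z' := by
    refine h Z' hZ' l' hinj hcard ?_ ?_
    · rw [← hn]
      exact Subgroup.index_map_eq Z hq (by rw [hkq]; exact hKZ)
    · intro χ hχ hov hd
      have h1 : IsIrrCharacter G (χ ∘ q) := isIrr_comp q hq hχ
      refine hrel (χ ∘ q) h1 ?_ ?_
      · rw [over_lin_iff Z.subtype (fun z => hZ z.2) h1]
        rw [over_lin_iff Z'.subtype (fun z => hZ' z.2) hχ] at hov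
        intro z
        have h2 := hov (f z)
        rw [hl'] at h2
        change χ (q z) = χ (q 1) * _
        rw [map_one]
        exact h2
      · rw [charDegree_comp_one, charDegree_lf]
        rwa [charDegree_lf] at hd
  rw [← hcomap]
  exact hab.comap q hq

end

/-- **Reduction to the central case.** -/
theorem gl_of_cg {p : ℕ} [hp : Fact p.Prime] {n : ℕ} (ih : ∀ k < n, Gl.{u} p k)
    (hc : CG.{u} p n) : Gl.{u} p n := by
  intro G _ _ N _ θ hθ hn hrel
  have hidx := hrel.not_dvd_index N hθ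
  have hNT : N ≤ inertia N θ := le_inertia (isIrr_isClassFunction hθ)
  by_cases hT : inertia N θ = ⊤
  · obtain ⟨Δ, Q, _, _, _, π, m, Z, l, hπ, hm, hcomap, hZ, h1, -⟩ :=
      exists_triple (p := p) N hθ hT
    apply AbP.of_comap π hπ
    rw [hcomap]
    refine AbP.comap m hm (hc.all Z hZ l ?_ (h1 hrel))
    rw [← hn, ← Subgroup.index_comap_of_surjective N hπ, hcomap,
      Subgroup.index_comap_of_surjective Z hm]
  · apply AbP.of_index N hp.out hNT hidx
    have h1 := hrel.inertia N hθ _ rfl hNT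
    have h2 := relP_equiv _ (Subgroup.subgroupOfEquivOfLe hNT) h1
    have h3 : (N.subgroupOf (inertia N θ)).index < n := by
      rw [← hn]
      have h4 : N.relIndex (inertia N θ) * (inertia N θ).index = N.index :=
        Subgroup.relIndex_mul_index hNT
      have h5 : (inertia N θ).index ≠ 1 := fun h => hT (Subgroup.index_eq_one.1 h)
      have h6 : (inertia N θ).index ≠ 0 := Subgroup.index_ne_zero_of_finite
      have h7 : N.relIndex (inertia N θ) ≠ 0 := Subgroup.index_ne_zero_of_finite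
      change N.relIndex (inertia N θ) < N.index
      rw [← h4]
      have h8 : 2 ≤ (inertia N θ).index := by omega
      nlinarith [Nat.pos_of_ne_zero h7]
    refine ih _ h3 (N.subgroupOf (inertia N θ)) _ ?_ rfl h2
    exact isIrr_comp (Subgroup.subgroupOfEquivOfLe hNT).toMonoidHom
        (Subgroup.subgroupOfEquivOfLe hNT).surjective hθ

/-- **S4816 from the central case.** -/
theorem main_of {p : ℕ} [hp : Fact p.Prime] (h : ∀ n : ℕ, (∀ k < n, Gl.{u} p k) → CG.{u} p n)
    {G : Type u} [Group G] [Fintype G] (N : Subgroup G) [N.Normal] [Fintype N] (θ : Cfsg.IrrCharacter N)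
    (hdeg : ∀ χ : Cfsg.IrrCharacter G, Cfsg.classInner (fun n : N => (χ : G → ℂ) n) (θ : N → ℂ) ≠ 0 →
      (Cfsg.charDegree (χ : G → ℂ)).factorization p = (Cfsg.charDegree (θ : N → ℂ)).factorization p)
    (Q : Sylow p (G ⧸ N)) : IsMulCommutative (Q : Subgroup (G ⧸ N)) := by
  classical
  have hall : ∀ n, Gl.{u} p n := by
    intro n
    induction n using Nat.strong_induction_on with
    | _ n ih => exact gl_of_cg ih (h n ih)
  have hrel : RelP p N.subtype (θ : N → ℂ) := by
    intro χ hχ hov hd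
    have h1 := hdeg ⟨χ, hχ⟩ (by
      rw [over_iff] at hov
      convert hov
      rfl)
    have h2 : charDegree χ ≠ 0 := (charDegree_pos hχ).ne'
    have h3 : charDegree (θ : N → ℂ) ≠ 0 := (charDegree_pos θ.2).ne'
    have h4 := (Nat.factorization_le_iff_dvd (mul_ne_zero hp.out.ne_zero h3) h2).2 hd p
    rw [Nat.factorization_mul hp.out.ne_zero h3, Finsupp.add_apply, hp.out.factorization_self] at h4
    change (charDegree χ).factorization p = _ at h1
    omega
  have hab : AbP p N := hall _ N θ θ.2 rfl hrel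
  refine ⟨⟨fun a b => ?_⟩⟩
  obtain ⟨a', ha'⟩ := QuotientGroup.mk'_surjective N (a : G ⧸ N)
  obtain ⟨b', hb'⟩ := QuotientGroup.mk'_surjective N (b : G ⧸ N)
  have hQ := Q.isPGroup'
  obtain ⟨k, hk⟩ := IsPGroup.iff_card.1 hQ
  have h1 := hab ((Q : Subgroup (G ⧸ N)).comap (QuotientGroup.mk' N)) (by
    intro n hn
    rw [Subgroup.mem_comap, QuotientGroup.mk'_apply, (QuotientGroup.eq_one_iff n).2 hn]
    exact one_mem _) ⟨k, by
      have h2 := Subgroup.relIndex_comap (⊥ : Subgroup (G ⧸ N)) (QuotientGroup.mk' N)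
        ((Q : Subgroup (G ⧸ N)).comap (QuotientGroup.mk' N))
      have h3 : (⊥ : Subgroup (G ⧸ N)).comap (QuotientGroup.mk' N) = N := by
        rw [MonoidHom.comap_bot, QuotientGroup.ker_mk']
      rw [h3, Subgroup.map_comap_eq_self_of_surjective (QuotientGroup.mk'_surjective N),
        Subgroup.relIndex_bot_left] at h2
      rw [h2, hk]⟩ a' (by rw [Subgroup.mem_comap, ha']; exact a.2) b'
    (by rw [Subgroup.mem_comap, hb']; exact b.2)
  have h2 : QuotientGroup.mk' N ⁅a', b'⁆ = 1 := (QuotientGroup.eq_one_iff _).2 h1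
  rw [map_commutatorElement, ha', hb', commutatorElement_eq_one_iff_mul_comm] at h2
  exact Subtype.ext h2

end Cfsg.Agent.H696.RIM
end

-- part: H696/RIM/RowR
section
set_option linter.all false
open scoped Cfsg.Agent.FastGrp

/-!
# S4816: bad quasi-simple groups and the rows `NBall` (helper696)

* `exists_ext_hom` : linear characters of subgroups of finite abelian groups extend;
* `not_qBad` : if `E / Z(E) ≅ S` and `NBall p S`, then `E` is not bad;
* `rowR_of` : `RowR` from the rows.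
-/

set_option autoImplicit false
set_option linter.unusedSectionVars false
set_option linter.style.haveILetI false
open Cfsg

namespace Cfsg.Agent.H696.RIM

open Cfsg.Agent.Characters.Core Cfsg.Agent.Characters.Clifford Cfsg.Agent.H672
open Cfsg.Agent.H229.RIM Cfsg.Agent.H665.RIM
open Cfsg.Agent.H586.GW (center_normal)
open scoped commutatorElement

universe u v

/-- Linear characters of subgroups of a central subgroup extend. -/
theorem exists_ext_cen {E : Type u} [Group E] [Finite E] {N C : Subgroup E} (hC : C ≤ Subgroup.center E)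
    (hNC : N ≤ C) (φ : N →* ℂˣ) : ∃ l : C →* ℂˣ, ∀ n (hn : n ∈ N), l ⟨n, hNC hn⟩ = φ ⟨n, hn⟩ := by
  classical
  letI : CommGroup C :=
    { (inferInstance : Group C) with
      mul_comm := fun a b => Subtype.ext (Subgroup.mem_center_iff.1 (hC b.2) (a : E)) }
  let φ' : N.subgroupOf C →* ℂˣ := φ.comp (Subgroup.subgroupOfEquivOfLe hNC).toMonoidHom
  obtain ⟨l, hl⟩ := MonoidHom.domRestrict_surjective ℂ (N.subgroupOf C) φ'
  refine ⟨l, fun n hn => ?_⟩
  have := DFunLike.congr_fun hl ⟨⟨n, hNC hn⟩, hn⟩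
  exact this

/-- **The row `NBall` excludes bad quasi-simple groups.** -/
theorem not_qBad {p : ℕ} {E : Type u} [Group E] [Finite E] {N : Subgroup E} {φ : N →* ℂˣ}
    (h : NBall.{u} p (E ⧸ Subgroup.center E)) (B : QBad p N φ) : False := by
  classical
  let C : Subgroup E := Subgroup.center E
  haveI : C.Normal := center_normal C le_rfl
  obtain ⟨l, hl⟩ := exists_ext_cen (C := C) le_rfl B.cen φ
  let K : Subgroup E := l.ker.map C.subtype
  have hKC : K ≤ C := Subgroup.map_subtype_le _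
  haveI hK : K.Normal := center_normal K hKC
  let q : E →* E ⧸ K := QuotientGroup.mk' K
  have hq : Function.Surjective q := QuotientGroup.mk'_surjective K
  have hq1 : ∀ x, q x = 1 ↔ x ∈ K := fun x => QuotientGroup.eq_one_iff x
  let π : E ⧸ K →* E ⧸ Subgroup.center E := QuotientGroup.lift K (QuotientGroup.mk' C)
    (fun k hk => (QuotientGroup.eq_one_iff k).2 (hKC hk))
  have hπq : ∀ x, π (q x) = QuotientGroup.mk' C x := fun _ => rfl
  have hπ : Function.Surjective π := by
    intro y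
    obtain ⟨x, rfl⟩ := QuotientGroup.mk'_surjective C y
    exact ⟨q x, rfl⟩
  have hker : ∀ x, q x ∈ π.ker ↔ x ∈ C := by
    intro x
    rw [MonoidHom.mem_ker, hπq]
    exact QuotientGroup.eq_one_iff x
  have hcen : π.ker ≤ Subgroup.center (E ⧸ K) := by
    intro y hy
    obtain ⟨x, rfl⟩ := hq y
    rw [hker] at hy
    rw [Subgroup.mem_center_iff]
    intro z
    obtain ⟨z, rfl⟩ := hq z
    rw [← map_mul, ← map_mul, Subgroup.mem_center_iff.1 hy z]
  have hperf : commutator (E ⧸ K) = ⊤ := by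
    have h1 : (commutator E).map q = commutator (E ⧸ K) := by
      rw [commutator_def, Subgroup.map_commutator, commutator_def]
      congr 1 <;> exact Subgroup.map_top_of_surjective _ hq
    rw [← h1, B.perf]
    exact Subgroup.map_top_of_surjective _ hq
  let f : C →* π.ker := (q.comp C.subtype).codRestrict π.ker (fun z => (hker z).2 z.2)
  have hf : Function.Surjective f := by
    rintro ⟨y, hy⟩
    obtain ⟨x, rfl⟩ := hq y
    exact ⟨⟨x, (hker x).1 hy⟩, rfl⟩
  have hkf : f.ker ≤ l.ker := by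
    intro z hz
    have h1 : q (z : E) = 1 := congrArg Subtype.val (MonoidHom.mem_ker.1 hz)
    obtain ⟨w, hw, hwz⟩ := (hq1 _).1 h1
    have : w = z := Subtype.ext hwz
    rwa [← this]
  let l' : π.ker →* ℂˣ := f.liftOfSurjective hf ⟨l, hkf⟩
  have hl' : ∀ z, l' (f z) = l z := fun z => MonoidHom.liftOfRightInverse_comp_apply _ _ _ _ _
  have hinj : Function.Injective l' := by
    rw [injective_iff_map_eq_one]
    intro z hz
    obtain ⟨z, rfl⟩ := hf z
    rw [hl'] at hz
    apply Subtype.ext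
    exact (hq1 _).2 ⟨z, hz, rfl⟩
  have hcard : ¬ p ∣ Nat.card π.ker := fun hd => B.pZ (hd.trans (Subgroup.card_dvd_of_surjective f hf))
  have htwo : 2 ≤ Nat.card π.ker := by
    obtain ⟨n, hn⟩ : ∃ n : N, n ≠ 1 := by
      by_contra hcon
      push Not at hcon
      apply B.Nne
      rw [eq_bot_iff]
      intro n hn
      have := hcon ⟨n, hn⟩
      exact congrArg Subtype.val this
    have h1 : f ⟨n, B.cen n.2⟩ ≠ 1 := by
      intro h2
      have h3 : (⟨n, B.cen n.2⟩ : C) ∈ l.ker := hkf (MonoidHom.mem_ker.2 h2)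
      rw [MonoidHom.mem_ker, hl n n.2] at h3
      apply hn
      apply B.inj
      rw [map_one]
      exact h3
    haveI : Nontrivial π.ker := ⟨⟨_, _, h1⟩⟩
    have := Finite.one_lt_card (α := π.ker)
    omega
  obtain ⟨χ, hχ, hov, hd⟩ := h (Nat.card π.ker) htwo hcard (E ⧸ K) π hπ hcen hperf rfl l' hinj
  refine B.bad (χ ∘ q) (isIrr_comp q hq hχ) ?_ ?_
  · intro n
    have h1 := hov (f ⟨n, B.cen n.2⟩)
    rw [hl', hl n n.2] at h1
    change χ (q n) = χ (q 1) * _
    rw [map_one]
    exact h1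
  · rw [charDegree_comp_one]
    exact hd

section
variable {p : ℕ} {E : Type u} [Group E] [Finite E] {N : Subgroup E} {φ : N →* ℂˣ}

theorem qBad_dvd (hp : p.Prime) (B : QBad p N φ) : p ∣ Nat.card (E ⧸ Subgroup.center E) := by
  have h1 := B.pE
  rw [Subgroup.card_eq_card_quotient_mul_card_subgroup (Subgroup.center E)] at h1
  exact (hp.dvd_mul.1 h1).resolve_right B.pZ

/-- The Sylow `p`-subgroups of a bad quasi-simple group are those of the simple group. -/
theorem qBad_comm (B : QBad p N φ) (hab : AbSyl p (E ⧸ Subgroup.center E)) {P : Subgroup E}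
    (hP : IsPGroup p P) (hp : p.Prime) : ∀ a ∈ P, ∀ b ∈ P, a * b = b * a := by
  haveI : Fact p.Prime := ⟨hp⟩
  intro a ha b hb
  have h1 := hab (P.map (QuotientGroup.mk' (Subgroup.center E))) (hP.map _) _ ⟨a, ha, rfl⟩ _ ⟨b, hb, rfl⟩
  rw [← commutatorElement_eq_one_iff_mul_comm, ← map_commutatorElement] at h1
  have h2 : ⁅a, b⁆ ∈ Subgroup.center E := (QuotientGroup.eq_one_iff _).1 h1
  have h3 : ⁅a, b⁆ ∈ P := P.mul_mem (P.mul_mem (P.mul_mem ha hb) (P.inv_mem ha)) (P.inv_mem hb)
  obtain ⟨k, hk⟩ := hP ⟨_, h3⟩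
  have h4 : ⁅a, b⁆ ^ p ^ k = 1 := congrArg Subtype.val hk
  have h5 : ⁅a, b⁆ ^ Nat.card (Subgroup.center E) = 1 := by
    rw [← orderOf_dvd_iff_pow_eq_one]
    exact Subgroup.orderOf_dvd_natCard _ h2
  have h6 := pow_gcd_eq_one.2 ⟨h4, h5⟩
  have h7 : Nat.Coprime (p ^ k) (Nat.card (Subgroup.center E)) :=
    Nat.Coprime.pow_left _ ((Nat.Prime.coprime_iff_not_dvd hp).2 B.pZ)
  rw [h7.gcd_eq_one, pow_one] at h6
  exact commutatorElement_eq_one_iff_mul_comm.1 h6

end

end Cfsg.Agent.H696.RIM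
end

-- part: H521/RIM/Arith
section
set_option linter.all false
open scoped Cfsg.Agent.FastGrp

/-!
# S4816 (RIM), orthogonal groups: degree arithmetic and the choice of `J` (helper521)

`S` (or a cover of it) generated by a root group datum of type `B_m`, `|X_i| = q` for `i + 1 < m`, `|X_{m-1}| = q ^ s`:
`s = 1` for `Ω_{2m+1}(q)`, `s = 2` for `Ω⁻_{2m+2}(q)`; or of type `D_m`, `m = n + 2`, `|X_i| = q` : `Ω⁺_{2m}(q)`.

* `num_B`, `num_D` : the numbers;
* `arith_B` : `p` divides `|S : P_J| ∏_{i < m - 1} (q^(i+1) - 1)` for `J = {j | j + 1 ≠ m}` (`SL_m(q)`), except if the order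
  of `q` modulo `p` is `m`, odd: then `p` divides `|S : P_J|` for every `J` which misses a node `j`, `j + 1 < m`;
* `arith_odd`, `arith_minus` : the same with the order of the group as hypothesis;
* `arith_D` : the same for `J = {j | j + 1 ≠ n + 2}`; exception: the order of `q` is `m = n + 2`, odd: then `p` divides
  `|S : P_J|` for every `J` which misses a node `j < n`.
-/

set_option autoImplicit false
set_option linter.unusedSectionVars false

namespace Cfsg.Agent.H521.RIM

/-! ### numbers -/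

section Num

variable {q m p : ℕ}

theorem pow_two_mul (hq : 1 ≤ q) (i : ℕ) : q ^ (2 * i) - 1 = (q ^ i - 1) * (q ^ i + 1) := by
  have h1 : 1 ≤ q ^ i := Nat.one_le_pow _ _ hq
  obtain ⟨x, hx⟩ := Nat.exists_eq_add_of_le h1
  have h2 : q ^ (2 * i) = (q ^ i) ^ 2 := by rw [mul_comm, pow_mul]
  rw [h2, hx]
  have h3 : (1 + x) ^ 2 = x * (x + 2) + 1 := by ring
  rw [h3, Nat.add_sub_cancel, Nat.add_sub_cancel_left]
  ring

/-- the numbers, types `B_m` -/
theorem num_B (hp : p.Prime) (hq : 1 ≤ q) {s : ℕ} (hs : s = 1 ∨ s = 2) (hm : 3 ≤ m)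
    (hd : (s = 2 ∧ p ∣ q ^ (m + 1) + 1) ∨ ∃ i, 1 ≤ i ∧ i ≤ m ∧ p ∣ q ^ (2 * i) - 1) :
    p ∣ (∏ i ∈ Finset.range m, (1 + q ^ i * q ^ s)) * ∏ i ∈ Finset.range (m - 1), (q ^ (i + 1) - 1) ∨
      (Odd m ∧ p ∣ q ^ m - 1 ∧ ∀ i, 1 ≤ i → i < m → ¬ p ∣ q ^ i - 1) := by
  by_cases hA : ∃ j, 1 ≤ j ∧ j < m ∧ p ∣ q ^ j - 1
  · obtain ⟨j, hj1, hjm, hj⟩ := hA
    refine Or.inl (Dvd.dvd.mul_left (hj.trans ?_) _)
    obtain ⟨i, rfl⟩ : ∃ i, j = i + 1 := ⟨j - 1, by omega⟩
    exact Finset.dvd_prod_of_mem (fun i => q ^ (i + 1) - 1) (Finset.mem_range.2 (by omega))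
  push Not at hA
  by_cases hB : ∃ j, s ≤ j ∧ j < m + s ∧ p ∣ q ^ j + 1
  · obtain ⟨j, hj1, hjm, hj⟩ := hB
    refine Or.inl (Dvd.dvd.mul_right (hj.trans ?_) _)
    obtain ⟨i, rfl⟩ : ∃ i, j = i + s := ⟨j - s, by omega⟩
    have e : q ^ (i + s) + 1 = 1 + q ^ i * q ^ s := by rw [pow_add, add_comm]
    rw [e]
    exact Finset.dvd_prod_of_mem (fun i => 1 + q ^ i * q ^ s) (Finset.mem_range.2 (by omega))
  push Not at hB
  right
  have key : ∀ i, 1 ≤ i → i ≤ m → p ∣ q ^ (2 * i) - 1 → p ∣ q ^ i - 1 := by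
    intro i hi him h
    rw [pow_two_mul hq] at h
    rcases hp.dvd_mul.1 h with h | h
    · exact h
    · exfalso
      by_cases hsi : s ≤ i
      · exact hB i hsi (by omega) h
      · -- `i = 1`, `s = 2`
        have hi1 : i = 1 := by omega
        subst hi1
        refine hA 2 (by omega) (by omega) ?_
        have := pow_two_mul hq 1
        rw [mul_one] at this
        rw [this]
        exact Dvd.dvd.mul_left h _
  rcases hd with ⟨hs2, hd⟩ | ⟨i, hi1, him, hi⟩
  · exact absurd hd (hB (m + 1) (by omega) (by omega))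
  · have h1 := key i hi1 him hi
    have him' : i = m := by
      by_contra hne
      exact hA i hi1 (by omega) h1
    subst him'
    refine ⟨?_, h1, fun j hj hji => hA j hj hji⟩
    rw [← Nat.not_even_iff_odd]
    rintro ⟨k, hk⟩
    have hk2 : i = 2 * k := by omega
    have h3 := key k (by omega) (by omega) (by rwa [← hk2])
    exact hA k (by omega) (by omega) h3

/-- the numbers, type `D_m` -/
theorem num_D (hp : p.Prime) (hq : 1 ≤ q) (hm : 2 ≤ m)
    (hd : p ∣ q ^ m - 1 ∨ ∃ i, 1 ≤ i ∧ i < m ∧ p ∣ q ^ (2 * i) - 1) :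
    p ∣ (∏ i ∈ Finset.range (m - 1), (1 + q ^ (i + 1))) * ∏ i ∈ Finset.range (m - 1), (q ^ (i + 1) - 1) ∨
      (Odd m ∧ p ∣ q ^ m - 1 ∧ ∀ i, 1 ≤ i → i < m → ¬ p ∣ q ^ i - 1) := by
  by_cases hA : ∃ j, 1 ≤ j ∧ j < m ∧ p ∣ q ^ j - 1
  · obtain ⟨j, hj1, hjm, hj⟩ := hA
    refine Or.inl (Dvd.dvd.mul_left (hj.trans ?_) _)
    obtain ⟨i, rfl⟩ : ∃ i, j = i + 1 := ⟨j - 1, by omega⟩
    exact Finset.dvd_prod_of_mem (fun i => q ^ (i + 1) - 1) (Finset.mem_range.2 (by omega))
  push Not at hA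
  by_cases hB : ∃ j, 1 ≤ j ∧ j < m ∧ p ∣ q ^ j + 1
  · obtain ⟨j, hj1, hjm, hj⟩ := hB
    refine Or.inl (Dvd.dvd.mul_right (hj.trans ?_) _)
    obtain ⟨i, rfl⟩ : ∃ i, j = i + 1 := ⟨j - 1, by omega⟩
    rw [add_comm]
    exact Finset.dvd_prod_of_mem (fun i => 1 + q ^ (i + 1)) (Finset.mem_range.2 (by omega))
  push Not at hB
  right
  have key : ∀ i, 1 ≤ i → i < m → ¬ p ∣ q ^ (2 * i) - 1 := by
    intro i hi him h
    rw [pow_two_mul hq] at h
    rcases hp.dvd_mul.1 h with h | h
    · exact hA i hi him h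
    · exact hB i hi him h
  rcases hd with hd | ⟨i, hi1, him, hi⟩
  · refine ⟨?_, hd, fun j hj hji => hA j hj hji⟩
    rw [← Nat.not_even_iff_odd]
    rintro ⟨k, hk⟩
    have hk2 : m = 2 * k := by omega
    rw [hk2] at hd
    exact key k (by omega) (by omega) hd
  · exact absurd hi (key i hi1 him)

end Num

open CoxeterSystem Cfsg.Agent.ChevalleyStructure.CoxeterGeom Cfsg.Agent.Tits.Roots Cfsg.Agent.Tits.Core
  Cfsg.Agent.Tits.RootComb Cfsg.Agent.Tits.Exchange Cfsg.Agent.Nodes.Comb Cfsg.Agent.Nodes.Reps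
  Cfsg.Agent.Nodes.BNOf Cfsg.Agent.Nodes.StabComb Cfsg.Agent.Nodes.Bruhat Cfsg.Agent.Nodes.OppDec
  Cfsg.Agent.Nodes.LeviDec Cfsg.Agent.Nodes.NormalForm Cfsg.Agent.ChevalleyStructure.WeylAbstract
  Cfsg.Agent.H35.Poin Cfsg.Agent.H965.XZ

theorem gs_mul {q : ℕ} (hq : 1 ≤ q) (n : ℕ) : gs q n * (q - 1) = q ^ n - 1 := by
  unfold gs
  obtain ⟨x, rfl⟩ := Nat.exists_eq_add_of_le hq
  have h2 : (∑ i ∈ Finset.range n, (1 + x) ^ i) * x + 1 = (1 + x) ^ n := by
    induction n with
    | zero => simp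
    | succ n ih =>
      rw [Finset.sum_range_succ, add_mul, add_right_comm, ih, pow_succ]
      ring
  rw [Nat.add_sub_cancel_left]
  omega

theorem not_dvd_gs {q m p : ℕ} (hq : 1 ≤ q) (h : ∀ i, 1 ≤ i → i < m → ¬ p ∣ q ^ i - 1) {i : ℕ} (hi : 1 ≤ i) (him : i < m) :
    ¬ p ∣ gs q i := fun h1 => h i hi him (by
  rw [← gs_mul hq i]
  exact Dvd.dvd.mul_right h1 _)

theorem dvd_gs {q m p : ℕ} (hp : p.Prime) (hq : 1 ≤ q) (hm : 2 ≤ m) (h1 : p ∣ q ^ m - 1)
    (h : ∀ i, 1 ≤ i → i < m → ¬ p ∣ q ^ i - 1) : p ∣ gs q m := by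
  rw [← gs_mul hq m] at h1
  rcases hp.dvd_mul.1 h1 with h2 | h2
  · exact h2
  · exfalso
    refine h 1 le_rfl (by omega) ?_
    rwa [pow_one]

/-! ### type `B_m` -/

section B

variable {m : ℕ} {W Y : Type*} [Group W] [Group Y] {cs : CoxeterSystem (CoxeterMatrix.B m) W}
  {A : Fin m → Fin m → ℤ} {h : IsCartan (CoxeterMatrix.B m) A} {r : ℕ} {T : Subgroup Y} {n : Fin m → Y}
  {X : (Fin m → ℤ) → Subgroup Y} (R : RGD cs h r T n X)

include R

/-- the index of the parabolic subgroup of type `A_{m-1}` -/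
theorem index_A [Finite W] [Finite Y] (hG : GG cs h T X = ⊤) {y z : ℕ}
    (hy : ∀ i : Fin m, (i : ℕ) + 1 < m → Nat.card (X (sr i)) = y)
    (hz : ∀ i : Fin m, (i : ℕ) + 1 = m → Nat.card (X (sr i)) = z) (hm : 1 ≤ m) :
    (PJ cs h T X {j | (j : ℕ) + 1 ≠ m}).index = ∏ i ∈ Finset.range m, (1 + y ^ i * z) := by
  have h1 := index_B R hG hy hz hm le_rfl
  rw [Nat.sub_self] at h1
  simp only [Nat.zero_add] at h1
  rw [Finset.prod_mul_distrib, mul_comm] at h1
  exact Nat.eq_of_mul_eq_mul_left (Finset.prod_pos fun i _ => gs_pos y i) h1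

/-- the exceptional case -/
theorem dvd_index_exc [Finite W] [Finite Y] (hG : GG cs h T X = ⊤) {q z : ℕ} (hq : 1 ≤ q)
    (hy : ∀ i : Fin m, (i : ℕ) + 1 < m → Nat.card (X (sr i)) = q)
    (hz : ∀ i : Fin m, (i : ℕ) + 1 = m → Nat.card (X (sr i)) = z) {p : ℕ} (hp : p.Prime) (h1 : p ∣ q ^ m - 1)
    (h2 : ∀ i, 1 ≤ i → i < m → ¬ p ∣ q ^ i - 1) {J : Set (Fin m)} {j : Fin m} (hj : (j : ℕ) + 1 < m) (hjJ : j ∉ J) :
    p ∣ (PJ cs h T X J).index := by
  refine dvd_index_mono R (J' := {i | (i : ℕ) + 1 ≠ (j : ℕ) + 1}) (fun i hi e => hjJ ?_) ?_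
  · have e1 : i = j := Fin.ext (Nat.succ_injective e)
    rwa [← e1]
  · have h3 := index_B R hG hy hz (a := (j : ℕ) + 1) (by omega) (by omega)
    have h4 : p ∣ ∏ i ∈ Finset.range ((j : ℕ) + 1),
        gs q (m - ((j : ℕ) + 1) + i + 1) * (1 + q ^ (m - ((j : ℕ) + 1) + i) * z) := by
      refine Dvd.dvd.trans ?_ (Finset.dvd_prod_of_mem _ (Finset.mem_range.2 (Nat.lt_succ_self (j : ℕ))))
      refine Dvd.dvd.mul_right ?_ _
      have e : m - ((j : ℕ) + 1) + (j : ℕ) + 1 = m := by omega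
      rw [e]
      exact dvd_gs hp hq (by omega) h1 h2
    rw [← h3] at h4
    rcases hp.dvd_mul.1 h4 with h5 | h5
    · exact h5
    · exfalso
      obtain ⟨i, hi, hpi⟩ := (hp.prime.dvd_finsetProd_iff _).1 h5
      exact not_dvd_gs hq h2 (by omega) (by have := Finset.mem_range.1 hi; omega) hpi

/-- **degree arithmetic in type `B_m`** -/
theorem arith_B [Finite W] [Finite Y] (hG : GG cs h T X = ⊤) {q s : ℕ} (hq : 1 ≤ q) (hs : s = 1 ∨ s = 2) (hm : 3 ≤ m)
    (hy : ∀ i : Fin m, (i : ℕ) + 1 < m → Nat.card (X (sr i)) = q)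
    (hz : ∀ i : Fin m, (i : ℕ) + 1 = m → Nat.card (X (sr i)) = q ^ s) {p : ℕ} (hp : p.Prime)
    (hd : (s = 2 ∧ p ∣ q ^ (m + 1) + 1) ∨ ∃ i, 1 ≤ i ∧ i ≤ m ∧ p ∣ q ^ (2 * i) - 1) :
    p ∣ (PJ cs h T X {j | (j : ℕ) + 1 ≠ m}).index * ∏ i ∈ Finset.range (m - 1), (q ^ (i + 1) - 1) ∨
      (Odd m ∧ p ∣ q ^ m - 1 ∧ (∀ i, 1 ≤ i → i < m → ¬ p ∣ q ^ i - 1) ∧
        ∀ (J : Set (Fin m)) (j : Fin m), (j : ℕ) + 1 < m → j ∉ J → p ∣ (PJ cs h T X J).index) := by
  rw [index_A R hG hy hz (by omega)]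
  rcases num_B hp hq hs hm hd with h1 | ⟨h1, h2, h3⟩
  · exact Or.inl h1
  · exact Or.inr ⟨h1, h2, h3, fun J j hj hjJ => dvd_index_exc R hG hq hy hz hp h2 h3 hj hjJ⟩

/-- **`Ω_{2m+1}(q)`** -/
theorem arith_odd [Finite W] [Finite Y] (hG : GG cs h T X = ⊤) {q : ℕ} (hq : 1 ≤ q) (hm : 3 ≤ m)
    (hy : ∀ i : Fin m, Nat.card (X (sr i)) = q) {p : ℕ} (hp : p.Prime)
    (hd : p ∣ ∏ i ∈ Finset.range m, (q ^ (2 * (i + 1)) - 1)) :
    p ∣ (PJ cs h T X {j | (j : ℕ) + 1 ≠ m}).index * ∏ i ∈ Finset.range (m - 1), (q ^ (i + 1) - 1) ∨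
      (Odd m ∧ p ∣ q ^ m - 1 ∧ (∀ i, 1 ≤ i → i < m → ¬ p ∣ q ^ i - 1) ∧
        ∀ (J : Set (Fin m)) (j : Fin m), (j : ℕ) + 1 < m → j ∉ J → p ∣ (PJ cs h T X J).index) := by
  refine arith_B R hG hq (Or.inl rfl) hm (fun i _ => hy i) (fun i _ => by rw [pow_one]; exact hy i) hp (Or.inr ?_)
  obtain ⟨i, hi, hpi⟩ := (hp.prime.dvd_finsetProd_iff _).1 hd
  exact ⟨i + 1, by omega, by have := Finset.mem_range.1 hi; omega, hpi⟩

/-- **`Ω⁻_{2m+2}(q)`** -/
theorem arith_minus [Finite W] [Finite Y] (hG : GG cs h T X = ⊤) {q : ℕ} (hq : 1 ≤ q) (hm : 3 ≤ m)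
    (hy : ∀ i : Fin m, (i : ℕ) + 1 < m → Nat.card (X (sr i)) = q)
    (hz : ∀ i : Fin m, (i : ℕ) + 1 = m → Nat.card (X (sr i)) = q ^ 2) {p : ℕ} (hp : p.Prime)
    (hd : p ∣ (q ^ (m + 1) + 1) * ∏ i ∈ Finset.range m, (q ^ (2 * (i + 1)) - 1)) :
    p ∣ (PJ cs h T X {j | (j : ℕ) + 1 ≠ m}).index * ∏ i ∈ Finset.range (m - 1), (q ^ (i + 1) - 1) ∨
      (Odd m ∧ p ∣ q ^ m - 1 ∧ (∀ i, 1 ≤ i → i < m → ¬ p ∣ q ^ i - 1) ∧
        ∀ (J : Set (Fin m)) (j : Fin m), (j : ℕ) + 1 < m → j ∉ J → p ∣ (PJ cs h T X J).index) := by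
  refine arith_B R hG hq (Or.inr rfl) hm hy hz hp ?_
  rcases hp.dvd_mul.1 hd with h1 | h1
  · exact Or.inl ⟨rfl, h1⟩
  · obtain ⟨i, hi, hpi⟩ := (hp.prime.dvd_finsetProd_iff _).1 h1
    exact Or.inr ⟨i + 1, by omega, by have := Finset.mem_range.1 hi; omega, hpi⟩

end B

/-! ### type `D_m`, `m = n + 2` -/

section D

variable {n : ℕ} {W Y : Type*} [Group W] [Group Y] {cs : CoxeterSystem (Cfsg.Agent.Nodes.TypeD.M n) W}
  {A : Fin (n + 2) → Fin (n + 2) → ℤ} {h : IsCartan (Cfsg.Agent.Nodes.TypeD.M n) A} {r : ℕ} {T : Subgroup Y}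
  {n' : Fin (n + 2) → Y} {X : (Fin (n + 2) → ℤ) → Subgroup Y} (R : RGD cs h r T n' X)

include R

/-- the exceptional case -/
theorem dvd_index_excD [Finite W] [Finite Y] (hG : GG cs h T X = ⊤) {q : ℕ} (hq : 1 ≤ q)
    (hy : ∀ i : Fin (n + 2), Nat.card (X (sr i)) = q) {p : ℕ} (hp : p.Prime) (h1 : p ∣ q ^ (n + 2) - 1)
    (h2 : ∀ i, 1 ≤ i → i < n + 2 → ¬ p ∣ q ^ i - 1) {J : Set (Fin (n + 2))} {j : Fin (n + 2)} (hj : (j : ℕ) < n)
    (hjJ : j ∉ J) : p ∣ (PJ cs h T X J).index := by
  refine dvd_index_monoD R (J' := {i | (i : ℕ) + 1 ≠ (j : ℕ) + 1}) (fun i hi e => hjJ ?_) ?_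
  · have e1 : i = j := Fin.ext (Nat.succ_injective e)
    rwa [← e1]
  · have h3 := index_D R hG hy (a := (j : ℕ) + 1) (by omega) (by omega)
    have h4 : p ∣ ∏ i ∈ Finset.range ((j : ℕ) + 1),
        gs q (n + 2 - ((j : ℕ) + 1) + i + 1) * (1 + q ^ (n + 2 - ((j : ℕ) + 1) + i)) := by
      refine Dvd.dvd.trans ?_ (Finset.dvd_prod_of_mem _ (Finset.mem_range.2 (Nat.lt_succ_self (j : ℕ))))
      refine Dvd.dvd.mul_right ?_ _
      have e : n + 2 - ((j : ℕ) + 1) + (j : ℕ) + 1 = n + 2 := by omega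
      rw [e]
      exact dvd_gs hp hq (by omega) h1 h2
    rw [← h3] at h4
    rcases hp.dvd_mul.1 h4 with h5 | h5
    · exact h5
    · exfalso
      obtain ⟨i, hi, hpi⟩ := (hp.prime.dvd_finsetProd_iff _).1 h5
      exact not_dvd_gs hq h2 (by omega) (by have := Finset.mem_range.1 hi; omega) hpi

/-- **`Ω⁺_{2m}(q)`**, `m = n + 2` -/
theorem arith_D [Finite W] [Finite Y] (hG : GG cs h T X = ⊤) {q : ℕ} (hq : 1 ≤ q)
    (hy : ∀ i : Fin (n + 2), Nat.card (X (sr i)) = q) {p : ℕ} (hp : p.Prime)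
    (hd : p ∣ (q ^ (n + 2) - 1) * ∏ i ∈ Finset.range (n + 1), (q ^ (2 * (i + 1)) - 1)) :
    p ∣ (PJ cs h T X {j | (j : ℕ) + 1 ≠ n + 2}).index * ∏ i ∈ Finset.range (n + 1), (q ^ (i + 1) - 1) ∨
      (Odd (n + 2) ∧ p ∣ q ^ (n + 2) - 1 ∧ (∀ i, 1 ≤ i → i < n + 2 → ¬ p ∣ q ^ i - 1) ∧
        ∀ (J : Set (Fin (n + 2))) (j : Fin (n + 2)), (j : ℕ) < n → j ∉ J → p ∣ (PJ cs h T X J).index) := by
  rw [index_spin R hG hy]
  have hd' : p ∣ q ^ (n + 2) - 1 ∨ ∃ i, 1 ≤ i ∧ i < n + 2 ∧ p ∣ q ^ (2 * i) - 1 := by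
    rcases hp.dvd_mul.1 hd with h1 | h1
    · exact Or.inl h1
    · obtain ⟨i, hi, hpi⟩ := (hp.prime.dvd_finsetProd_iff _).1 h1
      exact Or.inr ⟨i + 1, by omega, by have := Finset.mem_range.1 hi; omega, hpi⟩
  rcases num_D hp hq (by omega) hd' with h1 | ⟨h1, h2, h3⟩
  · exact Or.inl h1
  · exact Or.inr ⟨h1, h2, h3, fun J j hj hjJ => dvd_index_excD R hG hq hy hp h2 h3 hj hjJ⟩

end D

end Cfsg.Agent.H521.RIM
end

-- part: H175/RIM/AltSeven
section
prune_inst 0x6c5706c655be2120000000512f00078b65700059000230801d8e60c44010ffb200902af4044a01d0a180806083005006006101cf4600000000a84000000250709182890049108a11122009900328e180002200800000000000000800000041004018400002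
set_option linter.all false
open scoped Cfsg.Agent.FastGrp

-- part: H698/RIM/AltB
section
/-!
# S4816, RIM-ALT, part B: a label whose number of shifted tableaux is divisible by `p` (helper698)
-/

set_option autoImplicit false

namespace Cfsg.Agent.H698.RIM

open Finset Cfsg.Agent.H614.Spin

theorem X_mul' (n : ℕ) {L : List ℤ} (hL : Strict L) (hsum : L.sum = n) :
    X (Multiset.replicate n 1) L * ((df L : ℤ) * dp L) = (n.factorial : ℤ) * dm L := by
  have h1 := X_ones n hL hsum
  change _ = n.factorial / fden L * ratio L at h1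
  rw [ratio_eq hL, ← cast_df] at h1
  have hdp' : (dp L : ℚ) ≠ 0 := by exact_mod_cast (dp_pos hL).ne'
  have hdf' : ((df L : ℕ) : ℚ) ≠ 0 := by exact_mod_cast df_ne L
  rw [div_mul_div_comm, eq_div_iff (mul_ne_zero hdf' hdp')] at h1
  exact_mod_cast h1

theorem strict_two {a b : ℤ} (h : b < a) (hb : 0 < b) : Strict [a, b] := by
  refine ⟨by simpa using h, ?_⟩
  intro x hx
  simp only [List.mem_cons, List.not_mem_nil, or_false] at hx
  rcases hx with rfl | rfl
  · omega
  · exact hb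

theorem strict_three {a b c : ℤ} (h : b < a) (h' : c < b) (hc : 0 < c) : Strict [a, b, c] := by
  refine ⟨?_, ?_⟩
  · simp only [List.pairwise_cons, List.mem_cons, List.not_mem_nil, or_false, forall_eq_or_imp, forall_eq,
      IsEmpty.forall_iff, implies_true, List.Pairwise.nil, and_true]
    exact ⟨⟨h, by omega⟩, h'⟩
  · intro x hx
    simp only [List.mem_cons, List.not_mem_nil, or_false] at hx
    rcases hx with rfl | rfl | rfl
    · omega
    · omega
    · exact hc

/-- two rows -/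
theorem X_two {n k : ℕ} (hk : 1 ≤ k) (hkn : 2 * k < n) :
    X (Multiset.replicate n 1) [((n - k : ℕ) : ℤ), (k : ℤ)] * n = (n.choose k : ℤ) * ((n : ℤ) - 2 * k) := by
  have hs : Strict [((n - k : ℕ) : ℤ), (k : ℤ)] := strict_two (by omega) (by omega)
  have h1 := X_mul' n hs (by
    simp only [List.sum_cons, List.sum_nil]
    push_cast [Nat.cast_sub (show k ≤ n by omega)]
    ring)
  simp only [df, dp, dm, List.map_cons, List.map_nil, List.prod_cons, List.prod_nil, Int.toNat_natCast] at h1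
  have h2 := Nat.choose_mul_factorial_mul_factorial (show k ≤ n by omega)
  have h3 : ((n - k : ℕ) : ℤ) = (n : ℤ) - k := by push_cast [Nat.cast_sub (show k ≤ n by omega)]; ring
  have h4 : (n.factorial : ℤ) = n.choose k * k.factorial * (n - k).factorial := by exact_mod_cast h2.symm
  rw [h4] at h1
  have h5 : ((k.factorial : ℤ) * ((n - k).factorial : ℤ)) ≠ 0 := by positivity
  apply mul_right_cancel₀ h5
  rw [h3] at h1
  rw [h3]
  push_cast at h1 ⊢
  linear_combination h1

theorem dvd_two {p n k : ℕ} (hp : p.Prime) (hpn : ¬ p ∣ n) (hk : 1 ≤ k) (hkn : 2 * k < n)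
    (h : (p : ℤ) ∣ (n.choose k : ℤ) * ((n : ℤ) - 2 * k)) :
    ∃ L : List ℤ, Strict L ∧ L.sum = n ∧ (p : ℤ) ∣ X (Multiset.replicate n 1) L := by
  refine ⟨[((n - k : ℕ) : ℤ), (k : ℤ)], strict_two (by omega) (by omega), ?_, ?_⟩
  · simp only [List.sum_cons, List.sum_nil]
    push_cast [Nat.cast_sub (show k ≤ n by omega)]
    ring
  · rw [← X_two hk hkn] at h
    rcases (Nat.prime_iff_prime_int.1 hp).dvd_or_dvd h with h1 | h1
    · exact h1
    · exact absurd (by exact_mod_cast h1) hpn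

/-- `(n - 3, 2, 1)` -/
theorem X_three_a {n : ℕ} (hn : 6 ≤ n) :
    X (Multiset.replicate n 1) [((n - 3 : ℕ) : ℤ), 2, 1] * 6 = (n : ℤ) * ((n : ℤ) - 4) * ((n : ℤ) - 5) := by
  obtain ⟨m, rfl⟩ : ∃ m, n = m + 3 := ⟨n - 3, by omega⟩
  have hs : Strict [((m + 3 - 3 : ℕ) : ℤ), 2, 1] := strict_three (by omega) (by omega) (by omega)
  have h1 := X_mul' (m + 3) hs (by
    simp only [List.sum_cons, List.sum_nil]
    push_cast
    ring_nf)
  have e : m + 3 - 3 = m := by omega
  rw [e] at h1 ⊢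
  have e1 : (2 : ℤ).toNat = 2 := rfl
  have e2 : (1 : ℤ).toNat = 1 := rfl
  simp only [df, dp, dm, List.map_cons, List.map_nil, List.prod_cons, List.prod_nil, Int.toNat_natCast, e1, e2,
    Nat.factorial_succ, Nat.factorial_zero] at h1
  have h5 : ((m.factorial : ℤ) * ((m : ℤ) + 2) * ((m : ℤ) + 1)) ≠ 0 := by positivity
  apply mul_right_cancel₀ h5
  push_cast at h1 ⊢
  linear_combination h1

end Cfsg.Agent.H698.RIM
end

-- part: H175/RIM/AltSeven
section
/-!
# S4816: `NBall 3 A₇` (helper175)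

The double cover of `A₇` has a faithful irreducible character of degree `36` (label `(5,2)`).
-/

set_option autoImplicit false

namespace Cfsg.Agent.H175.RIM

open Finset Cfsg Cfsg.Agent.H614.Spin Cfsg.Agent.Characters.Core Cfsg.Agent.H665.RIM
open Cfsg.Agent.SporadicRecognition.AltCover Cfsg.Agent.H686.Spin Cfsg.Agent.H600.RIM

universe u

/-- a perfect central extension of `A_n` with kernel of order two, over the faithful character: a label whose degree is
divisible by `p` gives a character -/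
theorem nb_two_alt {S : Type u} [Group S] {n : ℕ} (hn : 5 ≤ n) (e : S ≃* alternatingGroup (Fin n)) {p : ℕ}
    (hp : p.Prime) (hp2 : p ≠ 2)
    (hlab : ∃ L : List ℤ, Strict L ∧ L.sum = n ∧ (p : ℤ) ∣ X (Multiset.replicate n 1) L) : NB p 2 S := by
  intro E _ _ π hsurj hcen hperf hcard l hl
  -- the generator of the kernel
  obtain ⟨z, hz1, hz⟩ := (Nat.card_eq_two_iff' (1 : π.ker)).1 hcard
  have hall : ∀ x : π.ker, x = 1 ∨ x = z := fun x => by
    by_cases hx : x = 1
    · exact Or.inl hx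
    · exact Or.inr (hz x hx)
  have hzz : (z : E) * z = 1 := by
    rcases hall (z * z) with h | h
    · exact congrArg Subtype.val h
    · exact absurd (mul_eq_left.1 h) hz1
  have hz1' : (z : E) ≠ 1 := fun h => hz1 (Subtype.ext h)
  have hzc : ∀ x, x * (z : E) = z * x := fun x => Subgroup.mem_center_iff.1 (hcen z.2) x
  let π' : E →* alternatingGroup (Fin n) := e.toMonoidHom.comp π
  have hπ' : ∀ x, π' x = 1 ↔ π x = 1 := fun x => MulEquiv.map_eq_one_iff e
  have hker' : π'.ker = π.ker := by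
    ext x
    exact hπ' x
  have hcov : IsCover π' (z : E) :=
    { z_ne := hz1'
      z_mul := hzz
      z_comm := hzc
      surj := e.surjective.comp hsurj
      ker := by
        intro x
        rw [hπ']
        constructor
        · intro h
          rcases hall ⟨x, MonoidHom.mem_ker.2 h⟩ with h1 | h1
          · exact Or.inl (congrArg Subtype.val h1)
          · exact Or.inr (congrArg Subtype.val h1)
        · rintro (rfl | rfl)
          · exact map_one π
          · exact z.2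
      nonsplit := fun s => nonsplit_of_perfect (hker'.le.trans hcen) hperf ((hπ' _).2 z.2) hz1' s }
  obtain ⟨L, hL, hs, hd⟩ := hlab
  obtain ⟨χ, hχ, hχz, hpd⟩ := exists_alt_char hn hcov hL hs hp hp2 hd
  refine ⟨χ, hχ, fun x => ?_, hpd⟩
  rcases hall x with rfl | rfl
  · rw [map_one, OneMemClass.coe_one, Units.val_one, mul_one]
  · have h1 : l x * l x = 1 := by
      rw [← map_mul]
      have : x * x = 1 := Subtype.ext hzz
      rw [this, map_one]
    have h2 : ((l x : ℂˣ) : ℂ) * (l x : ℂˣ) = 1 := by rw [← Units.val_mul, h1, Units.val_one]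
    have h3 : ((l x : ℂˣ) : ℂ) = -1 := by
      rcases mul_self_eq_one_iff.1 h2 with h | h
      · exfalso
        apply hz1
        apply hl
        rw [map_one]
        exact Units.ext h
      · exact h
    rw [hχz, h3, mul_neg, mul_one]

/-- kernels of perfect central extensions of `A₆`, `A₇` -/
theorem card_ker_dvd_six {S : Type u} [Group S] {n : ℕ} (hn : n = 6 ∨ n = 7) (e : S ≃* alternatingGroup (Fin n))
    {E : Type u} [Group E] [Finite E] (π : E →* S) (hπ : Function.Surjective π) (hc : π.ker ≤ Subgroup.center E)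
    (hperf : commutator E = ⊤) : Nat.card π.ker ∣ 6 := by
  have h := Cfsg.Agent.H95.StemCover.card_ker_dvd_cyclic (Cfsg.Agent.S2116.result n hn) hperf
    (e.toMonoidHom.comp π) (e.surjective.comp hπ) (by
      intro x hx
      refine hc ?_
      rw [MonoidHom.mem_ker] at hx ⊢
      exact (MulEquiv.map_eq_one_iff e).1 hx)
  have h1 : (e.toMonoidHom.comp π).ker = π.ker := by
    ext x
    exact MulEquiv.map_eq_one_iff e
  rwa [h1] at h

/-- **the row `alt7`**: `NBall 3 A₇` -/
theorem nball_alt7 {S : Type u} [Group S] [Finite S] (e : S ≃* alternatingGroup (Fin 7)) : NBall 3 S := by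
  intro m hm2 hpm E _ _ π hsurj hcen hperf hcard l hl
  have h6 : m ∣ 6 := by
    rw [← hcard]
    exact card_ker_dvd_six (Or.inr rfl) e π hsurj hcen hperf
  have hm : m = 2 := by
    have := Nat.le_of_dvd (by norm_num) h6
    interval_cases m <;> revert h6 hpm <;> decide
  subst hm
  refine nb_two_alt (n := 7) (by norm_num) e Nat.prime_three (by norm_num) ?_ E π hsurj hcen hperf hcard l hl
  refine Cfsg.Agent.H698.RIM.dvd_two (n := 7) (k := 2) Nat.prime_three (by norm_num) (by norm_num) (by norm_num) ?_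
  have : ((Nat.choose 7 2 : ℕ) : ℤ) = 21 := by decide
  rw [this]
  norm_num

end Cfsg.Agent.H175.RIM
end
end

-- part: H46/RIM/Cover
section
set_option linter.all false
open scoped Cfsg.Agent.FastGrp

/-!
# S4816: `NBall p K` from a universal cover of `K` (helper46)

* `exists_defl` : an irreducible character trivial on the kernel of `θ : Γ → E` comes from `E`;
* `Onto σ` : `σ : Γ → K` maps onto every perfect central extension of `K` (over `K`); `onto_of_trivial` (`Γ` has trivial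
  multiplier), `onto_of_card` (`|ker σ| = |multiplier of K|`);
* `nball_of_onto` : `NBall p K` from the characters of `Γ` over the nontrivial linear characters of `ker σ` of order prime
  to `p`.
-/

set_option autoImplicit false
set_option linter.unusedSectionVars false

namespace Cfsg.Agent.H46.RIM

open Cfsg Cfsg.Agent.Characters.Core Cfsg.Agent.H51.Mult Cfsg.Agent.H68.Bounds Cfsg.Agent.H665.RIM

universe u v w

/-- an irreducible character trivial on the kernel -/
theorem exists_defl {Γ : Type u} {E : Type v} [Group Γ] [Group E] [Finite Γ] (θ : Γ →* E)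
    (hθ : Function.Surjective θ) {χ : Γ → ℂ} (hχ : IsIrrCharacter Γ χ) (hk : ∀ z ∈ θ.ker, χ z = χ 1) :
    ∃ χ' : E → ℂ, IsIrrCharacter E χ' ∧ χ = χ' ∘ θ := by
  classical
  have := Fintype.ofFinite θ.ker
  have hsum : ∑ n : θ.ker, χ n ≠ 0 := by
    have h1 : ∑ n : θ.ker, χ n = ∑ _n : θ.ker, χ 1 := Finset.sum_congr rfl fun n _ => hk n n.2
    rw [h1, Finset.sum_const, Finset.card_univ, nsmul_eq_mul]
    exact mul_ne_zero (Nat.cast_ne_zero.2 Fintype.card_ne_zero) (isIrr_apply_one_ne_zero hχ)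
  obtain ⟨χ₀, h0⟩ := Blocks.Deflate.exists_deflation θ.ker χ hχ hsum
  let e := QuotientGroup.quotientKerEquivOfSurjective θ hθ
  refine ⟨(χ₀ : Γ ⧸ θ.ker → ℂ) ∘ e.symm, isIrr_comp e.symm.toMonoidHom e.symm.surjective χ₀.2, ?_⟩
  rw [h0]
  funext g
  change (χ₀ : Γ ⧸ θ.ker → ℂ) (QuotientGroup.mk g) = (χ₀ : Γ ⧸ θ.ker → ℂ) (e.symm (θ g))
  exact congrArg (χ₀ : Γ ⧸ θ.ker → ℂ) ((MulEquiv.eq_symm_apply e).2 rfl)

/-- `σ` maps onto every finite perfect central extension of `K` -/
def Onto {Γ : Type u} {K : Type v} [Group Γ] [Group K] (σ : Γ →* K) : Prop :=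
  ∀ (L : Type v) [Group L] [Finite L] (π : L →* K), PCE π → ∃ θ : Γ →* L, Function.Surjective θ ∧ ∀ x, π (θ x) = σ x

section onto

variable {Γ : Type u} {K : Type v} [Group Γ] [Group K]

theorem onto_of_trivial {σ : Γ →* K} (hσ : PCE σ) (h : Cfsg.HasCyclicSchurMultiplier Γ 1) : Onto σ := by
  intro L _ _ π hπ
  obtain ⟨D, _, f, g, hf, hg, hfg, -, -⟩ := exists_common hσ hπ
  have h1 := (ker_of_hasCyclic h hf).2
  have h2 : Function.Injective f := by
    rw [← MonoidHom.ker_eq_bot_iff]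
    exact Subgroup.eq_bot_of_card_eq _ (Nat.dvd_one.1 h1)
  let e : D ≃* Γ := MulEquiv.ofBijective f ⟨h2, hf.surj⟩
  refine ⟨g.comp e.symm.toMonoidHom, hg.surj.comp e.symm.surjective, fun x => ?_⟩
  have h3 : π (g (e.symm x)) = σ (f (e.symm x)) := (DFunLike.congr_fun hfg (e.symm x)).symm
  have h4 : f (e.symm x) = x := e.apply_symm_apply x
  rw [h4] at h3
  exact h3

theorem onto_of_card {A : Type w} [CommGroup A] (h : Cfsg.HasSchurMultiplier K A) {σ : Γ →* K} (hσ : PCE σ)
    (hc : Nat.card σ.ker = Nat.card A) : Onto σ := by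
  intro L _ _ π hπ
  obtain ⟨D, _, f, g, hf, hg, hfg, hD, -⟩ := exists_common hσ hπ
  have hA : Finite A := Cfsg.Agent.H487.finite_multiplier h
  have h1 := H990.TC.card_ker_dvd h hD
  rw [card_ker_comp hf.surj, hc] at h1
  have h3 : 0 < Nat.card A := Nat.card_pos
  have h4 : Nat.card f.ker ∣ 1 := by
    apply Nat.dvd_of_mul_dvd_mul_left h3
    rw [mul_one]; exact h1
  have h2 : Function.Injective f := by
    rw [← MonoidHom.ker_eq_bot_iff]
    exact Subgroup.eq_bot_of_card_eq _ (Nat.dvd_one.1 h4)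
  let e : D ≃* Γ := MulEquiv.ofBijective f ⟨h2, hf.surj⟩
  refine ⟨g.comp e.symm.toMonoidHom, hg.surj.comp e.symm.surjective, fun x => ?_⟩
  have h3 : π (g (e.symm x)) = σ (f (e.symm x)) := (DFunLike.congr_fun hfg (e.symm x)).symm
  have h4 : f (e.symm x) = x := e.apply_symm_apply x
  rw [h4] at h3
  exact h3

/-- **`NBall` from a universal cover** -/
theorem nball_of_onto {p : ℕ} [Finite Γ] {σ : Γ →* K} (hΓ : Onto σ)
    (H : ∀ l : σ.ker →* ℂˣ, (∃ z, l z ≠ 1) → ¬ p ∣ Nat.card l.range →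
      ∃ χ : Γ → ℂ, IsIrrCharacter Γ χ ∧ (∀ z : σ.ker, χ z = χ 1 * l z) ∧ p ∣ charDegree χ) : NBall p K := by
  intro m hm hpm E _ _ π hπs hπc hE hcard l hl
  obtain ⟨θ, hθ, hθσ⟩ := hΓ E π ⟨hπs, hπc, hE⟩
  have hθk : ∀ z ∈ σ.ker, θ z ∈ π.ker := fun z hz => by
    rw [MonoidHom.mem_ker, hθσ]
    exact hz
  let θ' : σ.ker →* π.ker := (θ.comp σ.ker.subtype).codRestrict π.ker fun z => hθk z z.2
  have hθ' : Function.Surjective θ' := by
    rintro ⟨y, hy⟩
    obtain ⟨x, rfl⟩ := hθ y
    refine ⟨⟨x, ?_⟩, rfl⟩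
    rw [MonoidHom.mem_ker, ← hθσ]
    exact hy
  have hr : Nat.card (l.comp θ').range = m := by
    have h1 : (l.comp θ').range = l.range := by
      rw [MonoidHom.range_comp, MonoidHom.range_eq_top.2 hθ', ← MonoidHom.range_eq_map]
    rw [h1, ← hcard]
    exact Nat.card_congr (MonoidHom.ofInjective hl).toEquiv.symm
  obtain ⟨χ, hχ, hχl, hpd⟩ := H (l.comp θ') (by
    by_contra hcon
    push Not at hcon
    have h1 : (l.comp θ').range = ⊥ := by
      rw [eq_bot_iff]
      rintro _ ⟨z, rfl⟩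
      exact hcon z
    rw [h1, Subgroup.card_bot] at hr
    omega) (by rw [hr]; exact hpm)
  have hker : ∀ z ∈ θ.ker, χ z = χ 1 := by
    intro z hz
    have h1 : z ∈ σ.ker := by
      rw [MonoidHom.mem_ker, ← hθσ, MonoidHom.mem_ker.1 hz, map_one]
    have h2 := hχl ⟨z, h1⟩
    have h3 : θ' ⟨z, h1⟩ = 1 := Subtype.ext hz
    rw [MonoidHom.comp_apply, h3, map_one, Units.val_one, mul_one] at h2
    exact h2
  obtain ⟨χ', hχ', hcomp⟩ := exists_defl θ hθ hχ hker
  refine ⟨χ', hχ', fun z => ?_, ?_⟩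
  · obtain ⟨y, rfl⟩ := hθ' z
    have h2 := hχl y
    rw [hcomp, Function.comp_apply, Function.comp_apply, map_one] at h2
    exact h2
  · have h1 : χ 1 = χ' 1 := by rw [hcomp, Function.comp_apply, map_one]
    obtain ⟨d, -, hd⟩ := isIrr_apply_one hχ
    rw [Blocks.Basic.charDegree_of_eq hd] at hpd
    rw [Blocks.Basic.charDegree_of_eq (h1.symm.trans hd)]
    exact hpd

/-- trivial multiplier of the cover -/
theorem nball_of_trivial {p : ℕ} [Finite Γ] {σ : Γ →* K} (hσ : PCE σ) (h : Cfsg.HasCyclicSchurMultiplier Γ 1)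
    (H : ∀ l : σ.ker →* ℂˣ, (∃ z, l z ≠ 1) → ¬ p ∣ Nat.card l.range →
      ∃ χ : Γ → ℂ, IsIrrCharacter Γ χ ∧ (∀ z : σ.ker, χ z = χ 1 * l z) ∧ p ∣ charDegree χ) : NBall p K :=
  nball_of_onto (onto_of_trivial hσ h) H

/-- the kernel has the order of the multiplier -/
theorem nball_of_card {p : ℕ} [Finite Γ] {A : Type w} [CommGroup A] (hA : Cfsg.HasSchurMultiplier K A) {σ : Γ →* K}
    (hσ : PCE σ) (hc : Nat.card σ.ker = Nat.card A)
    (H : ∀ l : σ.ker →* ℂˣ, (∃ z, l z ≠ 1) → ¬ p ∣ Nat.card l.range →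
      ∃ χ : Γ → ℂ, IsIrrCharacter Γ χ ∧ (∀ z : σ.ker, χ z = χ 1 * l z) ∧ p ∣ charDegree χ) : NBall p K :=
  nball_of_onto (onto_of_card hA hσ hc) H

end onto

end Cfsg.Agent.H46.RIM
end

-- part: H491/RIM/Eng
section
prune_inst 0x6d57039245fa2120000180510f0003ed6d2000402006b8800d1a20e0406ca3f632003ae6134a00f1a19180c7c203c006817101cad2228000020840e00413c07891880b484e1c90119a6009e00ba8b600002200800000000000000000000041004010400002
set_option linter.all false
open scoped Cfsg.Agent.FastGrp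

/-!
# Harish-Chandra induction over a character of the centre (S4816, helper491)

* `exists_prod_cen` : product of irreducible characters of commuting subgroups, compatible on the intersection;
* `exists_over_cen` : Clifford's theorem over a character of a normal subgroup and one of a central subgroup;
* `exists_irr_LJ` : the induced character of a cuspidal character of `L_J` in general position, with its values on the centre.
-/

set_option autoImplicit false
set_option linter.unusedSectionVars false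

open scoped ComplexConjugate
open Cfsg

namespace Cfsg.Agent.H491.RIM

open Cfsg.Agent.OddOrderCharacters.Clifford Cfsg.Agent.Characters Cfsg.Agent.H53.HC

section grp

variable {G : Type*} [Group G]

/-- **Product of irreducible characters of commuting subgroups.** -/
theorem exists_prod_cen [Finite G] {H K : Subgroup G} (hc : ∀ a ∈ H, ∀ b ∈ K, a * b = b * a)
    {α : H → ℂ} {β : K → ℂ} (hα : IsIrrCharacter H α) (hβ : IsIrrCharacter K β)
    (hz : ∀ z : G, ∀ h1 : z ∈ H, ∀ h2 : z ∈ K, α ⟨z, h1⟩ * β ⟨z⁻¹, inv_mem h2⟩ = α 1 * β 1) :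
    ∃ ψ : ↥(H ⊔ K) → ℂ, IsIrrCharacter _ ψ ∧
      ∀ (a : G) (ha : a ∈ H) (b : G) (hb : b ∈ K),
        ψ ⟨a * b, mul_mem (le_sup_left (b := K) ha) (le_sup_right (a := H) hb)⟩ = α ⟨a, ha⟩ * β ⟨b, hb⟩ := by
  classical
  have : Fintype G := Fintype.ofFinite G
  let f : H × K →* ↥(H ⊔ K) :=
    { toFun := fun x => ⟨x.1 * x.2, mul_mem (le_sup_left (b := K) x.1.2) (le_sup_right (a := H) x.2.2)⟩
      map_one' := by
        apply Subtype.ext
        simp
      map_mul' := by
        rintro ⟨a, b⟩ ⟨c, d⟩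
        apply Subtype.ext
        change (a * c : G) * (b * d) = (a * b) * (c * d)
        have := hc c c.2 b b.2
        calc (a * c : G) * (b * d) = a * (c * b) * d := by group
          _ = a * (b * c) * d := by rw [this]
          _ = (a * b) * (c * d) := by group }
  have hf : Function.Surjective f := by
    rintro ⟨x, hx⟩
    have hle : H ≤ Subgroup.normalizer (K : Set G) := by
      intro a ha
      rw [Subgroup.mem_normalizer_iff]
      intro b
      constructor
      · intro hb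
        rw [hc a ha b hb, mul_inv_cancel_right]
        exact hb
      · intro hb
        have h1 := hc a⁻¹ (inv_mem ha) _ hb
        have h2 : b = a * b * a⁻¹ := by
          have h3 : a⁻¹ * (a * b * a⁻¹) = (a * b * a⁻¹) * a⁻¹ := h1
          have h4 : b * a⁻¹ = (a * b * a⁻¹) * a⁻¹ := by rw [← h3]; group
          exact mul_right_cancel h4
        rw [h2]
        exact hb
    have h1 : x ∈ ((H ⊔ K : Subgroup G) : Set G) := hx
    rw [Subgroup.coe_mul_of_left_le_normalizer_right _ _ hle] at h1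
    obtain ⟨a, ha, b, hb, rfl⟩ := h1
    exact ⟨(⟨a, ha⟩, ⟨b, hb⟩), rfl⟩
  have hirr : IsIrrCharacter (H × K) (fun x => α x.1 * β x.2) := Cfsg.Agent.S0188.isIrr_outer hα hβ
  obtain ⟨ψ, hψ, hψf⟩ := Cfsg.Agent.OddOrderCharacters.PF9.Reducible.exists_of_surjective f hf hirr (by
    rintro ⟨a, b⟩ hab
    have h1 : (a : G) * b = 1 := congrArg Subtype.val hab
    have h2 : (b : G) = (a : G)⁻¹ := (inv_eq_of_mul_eq_one_right h1).symm
    have haK : (a : G) ∈ K := by
      rw [← inv_mem_iff, ← h2]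
      exact b.2
    have e1 : b = ⟨(a : G)⁻¹, inv_mem haK⟩ := Subtype.ext h2
    change α a * β b = α 1 * β 1
    rw [e1]
    exact hz a a.2 haK)
  exact ⟨ψ, hψ, fun a ha b hb => hψf (⟨a, ha⟩, ⟨b, hb⟩)⟩

/-- Action of a central element on an irreducible character. -/
theorem central_mul [Finite G] {χ : G → ℂ} (hχ : IsIrrCharacter G χ) {z : G} (hz : z ∈ Subgroup.center G) {c : ℂ}
    (hc : χ z = χ 1 * c) (g : G) : χ (z * g) = c * χ g := by
  obtain ⟨n, ρ, hρ, rfl⟩ := hχ
  obtain ⟨d, hd⟩ := Cfsg.Agent.Characters.Central.exists_smul_of_comm ρ hρ (ρ z) fun g => by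
    rw [← map_mul, ← map_mul, Subgroup.mem_center_iff.1 hz g]
  have h1 : ∀ g, LinearMap.trace ℂ _ (ρ (z * g)) = d * LinearMap.trace ℂ _ (ρ g) := fun g => by
    rw [map_mul, hd, smul_mul_assoc, one_mul, map_smul, smul_eq_mul]
  have hne : (LinearMap.trace ℂ _ (ρ 1)) ≠ 0 := Core.isIrr_apply_one_ne_zero (χ := fun g => LinearMap.trace ℂ _ (ρ g)) ⟨n, ρ, hρ, rfl⟩
  have h2 := h1 1
  rw [mul_one] at h2
  have h3 : d * LinearMap.trace ℂ _ (ρ 1) = c * LinearMap.trace ℂ _ (ρ 1) := by
    rw [← h2]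
    exact hc.trans (mul_comm _ _)
  have h4 : d = c := mul_right_cancel₀ hne h3
  rw [← h4]
  exact h1 g

/-- **Clifford's theorem** over a character of a normal subgroup and a linear character of a central subgroup. -/
theorem exists_over_cen [Finite G] {N P Z : Subgroup G} (hNP : N ≤ P) (hn : P ≤ Subgroup.normalizer (N : Set G))
    (hZP : Z ≤ P) (hZc : ∀ z ∈ Z, ∀ g ∈ P, z * g = g * z) {θ : N → ℂ} (hθ : IsIrrCharacter N θ) (l : Z →* ℂˣ)
    (hl : ∀ z (h1 : z ∈ N) (h2 : z ∈ Z), θ ⟨z, h1⟩ = θ 1 * (l ⟨z, h2⟩ : ℂˣ)) :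
    ∃ ψ : P → ℂ, IsIrrCharacter P ψ ∧ (∃ m : ℕ, 0 < m ∧ ψ 1 = m * θ 1) ∧
      (∀ (z : G) (hz : z ∈ Z) (g : G) (hg : g ∈ P), ψ ⟨z * g, mul_mem (hZP hz) hg⟩ = (l ⟨z, hz⟩ : ℂˣ) * ψ ⟨g, hg⟩) ∧
      ∃ (c : ℂ) (s : Finset (N → ℂ)), (∀ x : N, ψ ⟨x, hNP x.2⟩ = c * ∑ φ ∈ s, φ x) ∧
        ∀ φ ∈ s, ∃ g ∈ P, ∀ x (hx : x ∈ N), ∃ hx' : g * x * g⁻¹ ∈ N, φ ⟨x, hx⟩ = θ ⟨g * x * g⁻¹, hx'⟩ := by
  classical
  have hc : ∀ a ∈ N, ∀ b ∈ Z, a * b = b * a := fun a ha b hb => (hZc b hb a (hNP ha)).symm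
  have hβ : IsIrrCharacter Z (fun z => ((l z : ℂˣ) : ℂ)) := Cfsg.Agent.Characters.Linear.isIrrCharacter_hom l
  obtain ⟨θ', hθ', hval⟩ := exists_prod_cen hc hθ hβ (by
    intro z h1 h2
    rw [hl z h1 h2, map_one, mul_assoc, ← Units.val_mul, ← map_mul]
    have e : (⟨z, h2⟩ * ⟨z⁻¹, inv_mem h2⟩ : Z) = 1 := Subtype.ext (mul_inv_cancel z)
    rw [e, map_one])
  have hval1 : ∀ a (ha : a ∈ N), θ' ⟨a, le_sup_left (b := Z) ha⟩ = θ ⟨a, ha⟩ := by
    intro a ha
    have h1 := hval a ha 1 (one_mem _)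
    have e : (⟨a * 1, mul_mem (le_sup_left (b := Z) ha) (le_sup_right (a := N) (one_mem Z))⟩ : ↥(N ⊔ Z)) =
        ⟨a, le_sup_left (b := Z) ha⟩ := Subtype.ext (mul_one a)
    rw [e] at h1
    rw [h1]
    have e2 : (⟨1, one_mem Z⟩ : Z) = 1 := rfl
    rw [e2, map_one, Units.val_one, mul_one]
  have hle : N ⊔ Z ≤ P := sup_le hNP hZP
  have hn' : P ≤ Subgroup.normalizer ((N ⊔ Z : Subgroup G) : Set G) := by
    have key : ∀ g ∈ P, ∀ x ∈ N ⊔ Z, g * x * g⁻¹ ∈ N ⊔ Z := by
      intro g hg x hx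
      have h1 : N ⊔ Z ≤ (N ⊔ Z).comap (MulAut.conj g).toMonoidHom := by
        refine sup_le (fun a ha => ?_) (fun z hz => ?_)
        · exact le_sup_left (b := Z) ((Subgroup.mem_normalizer_iff.1 (hn hg) a).1 ha)
        · refine le_sup_right (a := N) ?_
          show g * z * g⁻¹ ∈ Z
          rw [← hZc z hz g hg, mul_inv_cancel_right]
          exact hz
      exact h1 hx
    intro g hg
    rw [Subgroup.mem_normalizer_iff]
    intro x
    refine ⟨key g hg x, fun hx => ?_⟩
    have h1 := key g⁻¹ (inv_mem hg) _ hx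
    rw [inv_inv] at h1
    have e : g⁻¹ * (g * x * g⁻¹) * g = x := by group
    rwa [e] at h1
  obtain ⟨ψ, hψ, ⟨m, hm, hm1⟩, c, s, hres, hs⟩ := exists_over hle hn' hθ'
  have hone : θ' 1 = θ 1 := hval1 1 (one_mem _)
  -- the members of `s` over the centre
  have hsz : ∀ φ ∈ s, ∀ (a : G) (ha : a ∈ N) (z : G) (hz : z ∈ Z),
      φ ⟨a * z, mul_mem (le_sup_left (b := Z) ha) (le_sup_right (a := N) hz)⟩ =
        φ ⟨a, le_sup_left (b := Z) ha⟩ * (l ⟨z, hz⟩ : ℂˣ) := by
    intro φ hφ a ha z hz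
    obtain ⟨g, hg, hgφ⟩ := hs φ hφ
    obtain ⟨h1, e1⟩ := hgφ (a * z) (mul_mem (le_sup_left (b := Z) ha) (le_sup_right (a := N) hz))
    obtain ⟨h2, e2⟩ := hgφ a (le_sup_left (b := Z) ha)
    have ha' : g * a * g⁻¹ ∈ N := (Subgroup.mem_normalizer_iff.1 (hn hg) a).1 ha
    rw [e1, e2]
    have h3 := hval (g * a * g⁻¹) ha' z hz
    have h4 := hval1 (g * a * g⁻¹) ha'
    rw [← h4] at h3
    rw [← h3]
    congr 1
    apply Subtype.ext
    show g * (a * z) * g⁻¹ = g * a * g⁻¹ * z
    have h5 := hZc z hz g⁻¹ (inv_mem hg)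
    calc g * (a * z) * g⁻¹ = g * a * (z * g⁻¹) := by group
      _ = g * a * (g⁻¹ * z) := by rw [h5]
      _ = g * a * g⁻¹ * z := by group
  have hψz : ∀ z (hz : z ∈ Z), ψ ⟨z, hZP hz⟩ = ψ 1 * (l ⟨z, hz⟩ : ℂˣ) := by
    intro z hz
    have h1 := hres ⟨z, le_sup_right (a := N) hz⟩
    have h2 := hres 1
    have e : ψ ⟨((1 : ↥(N ⊔ Z)) : G), hle (1 : ↥(N ⊔ Z)).2⟩ = ψ 1 := rfl
    rw [e] at h2
    rw [h2, h1, mul_assoc, Finset.sum_mul]
    congr 1
    refine Finset.sum_congr rfl fun φ hφ => ?_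
    have h3 := hsz φ hφ 1 (one_mem _) z hz
    have e3 : (⟨1 * z, mul_mem (le_sup_left (b := Z) (one_mem N)) (le_sup_right (a := N) hz)⟩ : ↥(N ⊔ Z)) =
        ⟨z, le_sup_right (a := N) hz⟩ := Subtype.ext (one_mul z)
    rw [e3] at h3
    exact h3
  refine ⟨ψ, hψ, ⟨m, hm, by rw [hm1, hone]⟩, ?_, c, s.image fun φ a => φ ⟨a, le_sup_left (b := Z) a.2⟩, ?_, ?_⟩
  · intro z hz g hg
    have hzc : (⟨z, hZP hz⟩ : P) ∈ Subgroup.center P := by
      rw [Subgroup.mem_center_iff]
      intro y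
      exact Subtype.ext (hZc z hz y y.2).symm
    exact central_mul hψ hzc (hψz z hz) ⟨g, hg⟩
  · intro x
    rw [hres ⟨x, le_sup_left (b := Z) x.2⟩, Finset.sum_image]
    intro φ hφ φ' hφ' he
    funext y
    obtain ⟨y, hy⟩ := y
    have hyy : y ∈ ((N ⊔ Z : Subgroup G) : Set G) := hy
    have hNn : N ≤ Subgroup.normalizer (Z : Set G) := by
      intro a ha
      rw [Subgroup.mem_normalizer_iff]
      intro b
      constructor
      · intro hb
        rw [hc a ha b hb, mul_inv_cancel_right]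
        exact hb
      · intro hb
        have h1 := hc a⁻¹ (inv_mem ha) _ hb
        have h3 : b * a⁻¹ = (a * b * a⁻¹) * a⁻¹ := by rw [← h1]; group
        have h4 : b = a * b * a⁻¹ := mul_right_cancel h3
        rw [h4]
        exact hb
    rw [Subgroup.coe_mul_of_left_le_normalizer_right _ _ hNn] at hyy
    obtain ⟨a, ha, z, hz, rfl⟩ := hyy
    have h1 := hsz φ hφ a ha z hz
    have h2 := hsz φ' hφ' a ha z hz
    have h3 : φ ⟨a, le_sup_left (b := Z) ha⟩ = φ' ⟨a, le_sup_left (b := Z) ha⟩ := congrFun he ⟨a, ha⟩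
    exact h1.trans ((congrArg (· * ((l ⟨z, hz⟩ : ℂˣ) : ℂ)) h3).trans h2.symm)
  · intro φ hφ
    obtain ⟨φ', hφ', rfl⟩ := Finset.mem_image.1 hφ
    obtain ⟨g, hg, hgφ⟩ := hs φ' hφ'
    refine ⟨g, hg, fun x hx => ?_⟩
    have hx' : g * x * g⁻¹ ∈ N := (Subgroup.mem_normalizer_iff.1 (hn hg) x).1 hx
    obtain ⟨h1, e1⟩ := hgφ x (le_sup_left (b := Z) hx)
    exact ⟨hx', e1.trans (hval1 _ hx')⟩

end grp

section rgd

open CoxeterSystem Cfsg.Agent.ChevalleyStructure.CoxeterGeom Cfsg.Agent.Tits.Roots Cfsg.Agent.Tits.Core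
  Cfsg.Agent.Tits.Exchange Cfsg.Agent.Nodes.Reps Cfsg.Agent.Nodes.BNOf Cfsg.Agent.Nodes.StabComb
  Cfsg.Agent.Nodes.Bruhat Cfsg.Agent.Nodes.OppDec Cfsg.Agent.Nodes.LeviDec

variable {I W Y : Type*} [Fintype I] [DecidableEq I] [Group W] [Group Y] {M : CoxeterMatrix I}
  {cs : CoxeterSystem M W} {A : I → I → ℤ} {h : IsCartan M A} {p : ℕ} {T : Subgroup Y} {n : I → Y}
  {X : (I → ℤ) → Subgroup Y} (R : RGD cs h p T n X)

include R

theorem rp_mem_normalizer_LJ {J : Set I} {w : W} {g : Y} (hg : Rp cs R.nsys w g) (hw : Perm cs h J w) :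
    g ∈ Subgroup.normalizer (LJ cs h T X J : Set Y) := by
  have key : ∀ {w : W} {g : Y}, Rp cs R.nsys w g → Perm cs h J w → ∀ x ∈ LJ cs h T X J, g * x * g⁻¹ ∈ LJ cs h T X J := by
    intro w g hg hw x hx
    have h1 : LJ cs h T X J ≤ (LJ cs h T X J).comap (MulAut.conj g).toMonoidHom := by
      refine sup_le (fun t ht => ?_) (fun m hm => ?_)
      · exact T_le_LJ ((Subgroup.mem_normalizer_iff.1 hg.mem_normalizer t).1 ht)
      · exact MJ_le_LJ J (conj_mem_MJ' R hg hw hm)
    exact h1 hx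
  rw [Subgroup.mem_normalizer_iff]
  intro x
  refine ⟨key hg hw x, fun hx => ?_⟩
  have h1 := key hg.inv (⟨by rw [inv_inv]; exact hw.2, hw.1⟩ : Perm cs h J w⁻¹) _ hx
  have e : g⁻¹ * (g * x * g⁻¹) * g⁻¹⁻¹ = x := by group
  rwa [e] at h1

/-- **The induced character**, with its values on the centre. -/
theorem exists_irr_gen [Finite W] [Fintype Y] (hG : GG cs h T X = ⊤) (J : Set I) {Z : Subgroup Y}
    (hZc : Z ≤ Subgroup.center Y) (hZT : Z ≤ T) (l : Z →* ℂˣ) {ψ : ↥(LJ cs h T X J) → ℂ} (hψ : IsIrrCharacter _ ψ)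
    (hψZ : ∀ z (hz : z ∈ Z), ψ ⟨z, T_le_LJ (hZT hz)⟩ = ψ 1 * (l ⟨z, hz⟩ : ℂˣ))
    (hc : ∀ i ∈ J, ∀ [Fintype (rad cs h X J i)], ∑ u : rad cs h X J i, ψ ⟨u, rad_le_LJ J i u.2⟩ = 0)
    (hs : ∀ w g, Rp cs R.nsys w g → w ∉ WJ cs J → Perm cs h J w →
      ∃ (L : Subgroup Y) (hL : L ≤ LJ cs h T X J) (hL' : ∀ l ∈ L, g⁻¹ * l * g ∈ LJ cs h T X J),
        ∀ [Fintype L], ∑ l : L, ψ ⟨l, hL l.2⟩ * conj (ψ ⟨g⁻¹ * l * g, hL' l l.2⟩) = 0) :
    ∃ χ : Y → ℂ, IsIrrCharacter Y χ ∧ χ 1 = (PJ cs h T X J).index * ψ 1 ∧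
      ∀ z (hz : z ∈ Z), χ z = χ 1 * (l ⟨z, hz⟩ : ℂˣ) := by
  classical
  obtain ⟨ψ', hψ', hψL, hψV⟩ := exists_infl R J hψ
  have h1 : ψ' 1 = ψ 1 := hψL 1 (one_mem _)
  have hind1 : indFun (PJ cs h T X J) ψ' 1 = (PJ cs h T X J).index * ψ 1 := by rw [indFun_one, h1]
  refine ⟨indFun (PJ cs h T X J) ψ', ?_, hind1, ?_⟩
  · refine isIrr_indFun_rgd R hG J hψ' hψV ?_ ?_
    · intro i hi hf
      rw [← hc i hi]
      exact Finset.sum_congr rfl fun u _ => hψL _ (rad_le_LJ J i u.2)
    · intro w g hg hw hp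
      obtain ⟨L, hL, hL', h0⟩ := hs w g hg hw hp
      refine ⟨L, hL.trans LJ_le_PJ, fun l hl => LJ_le_PJ (hL' l hl), ?_⟩
      intro hf
      rw [← h0]
      refine Finset.sum_congr rfl fun x _ => ?_
      rw [hψL _ (hL x.2), hψL _ (hL' x x.2)]
  · intro z hz
    have hzP : z ∈ PJ cs h T X J := LJ_le_PJ (T_le_LJ (hZT hz))
    have hzc : ∀ g : Y, g⁻¹ * z * g = z := fun g => by
      rw [Subgroup.mem_center_iff.1 (hZc hz) g⁻¹, inv_mul_cancel_right]
    have h2 : ∀ g : Y, extendByZero (PJ cs h T X J) ψ' (g⁻¹ * z * g) = ψ' ⟨z, hzP⟩ := fun g => by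
      rw [hzc g]
      exact ext_apply_mem (PJ cs h T X J) ψ' z hzP
    have h3 : ∀ g : Y, extendByZero (PJ cs h T X J) ψ' (g⁻¹ * 1 * g) = ψ' 1 := fun g => by
      rw [mul_one, inv_mul_cancel]
      exact ext_apply_mem (PJ cs h T X J) ψ' 1 (one_mem _)
    rw [indFun_apply, indFun_apply, Finset.sum_congr rfl fun g _ => h2 g, Finset.sum_congr rfl fun g _ => h3 g,
      Finset.sum_const, Finset.sum_const, nsmul_eq_mul, nsmul_eq_mul, hψL z (T_le_LJ (hZT hz)), hψZ z hz, h1]
    ring

/-- **A cuspidal character of `L_J`** in general position. -/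
theorem exists_irr_LJ [Finite W] [Fintype Y] (hG : GG cs h T X = ⊤) (J : Set I) {Z : Subgroup Y}
    (hZc : Z ≤ Subgroup.center Y) (hZT : Z ≤ T) (l : Z →* ℂˣ) {ψ : ↥(LJ cs h T X J) → ℂ} (hψ : IsIrrCharacter _ ψ)
    (hψZ : ∀ z (hz : z ∈ Z), ψ ⟨z, T_le_LJ (hZT hz)⟩ = ψ 1 * (l ⟨z, hz⟩ : ℂˣ))
    (hc : ∀ i ∈ J, ∀ [Fintype (rad cs h X J i)], ∑ u : rad cs h X J i, ψ ⟨u, rad_le_LJ J i u.2⟩ = 0)
    (hs : ∀ w g (hg : Rp cs R.nsys w g), w ∉ WJ cs J → ∀ hw : Perm cs h J w,
      ψ ∘ conjME (LJ cs h T X J) (rp_mem_normalizer_LJ R hg hw) ≠ ψ) :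
    ∃ χ : Y → ℂ, IsIrrCharacter Y χ ∧ χ 1 = (PJ cs h T X J).index * ψ 1 ∧
      ∀ z (hz : z ∈ Z), χ z = χ 1 * (l ⟨z, hz⟩ : ℂˣ) := by
  refine exists_irr_gen R hG J hZc hZT l hψ hψZ hc ?_
  intro w g hg hw hp
  have hgn := rp_mem_normalizer_LJ R hg hp
  have hgn' := inv_mem hgn
  have hmem : ∀ l ∈ LJ cs h T X J, g⁻¹ * l * g ∈ LJ cs h T X J := fun l hl => by
    have := (Subgroup.mem_normalizer_iff.1 hgn' l).1 hl
    rwa [inv_inv] at this
  refine ⟨LJ cs h T X J, le_rfl, hmem, ?_⟩
  intro hf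
  have hne : ψ ≠ ψ ∘ conjME (LJ cs h T X J) hgn' := by
    intro he
    apply hs w g hg hw hp
    funext x
    have h2 := congrFun he (conjME (LJ cs h T X J) hgn x)
    rw [Function.comp_apply] at h2
    rw [Function.comp_apply, h2]
    congr 1
    apply Subtype.ext
    simp only [conjME_coe]
    group
  have hi3 : IsIrrCharacter _ (ψ ∘ conjME (LJ cs h T X J) hgn') :=
    Core.isIrr_comp (conjME _ hgn').toMonoidHom (MulEquiv.surjective _) hψ
  have h4 := Core.classInner_irr_ne hψ hi3 hne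
  rw [Core.classInner_def, mul_eq_zero] at h4
  rcases h4 with h4 | h4
  · exact absurd (inv_eq_zero.1 h4) Core.card_ne_zero_complex
  · rw [← h4]
    refine Finset.sum_congr rfl fun x _ => ?_
    rw [Function.comp_apply]
    congr 3
    apply Subtype.ext
    rw [conjME_coe, inv_inv]

/-- **A cuspidal character of `M_J`** in general position. -/
theorem exists_irr_MJ [Finite W] [Fintype Y] (hG : GG cs h T X = ⊤) (J : Set I) {Z : Subgroup Y}
    (hZc : Z ≤ Subgroup.center Y) (hZT : Z ≤ T) (l : Z →* ℂˣ) {θ : ↥(MJ cs h X J) → ℂ} (hθ : IsIrrCharacter _ θ)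
    (hl : ∀ z (h1 : z ∈ MJ cs h X J) (h2 : z ∈ Z), θ ⟨z, h1⟩ = θ 1 * (l ⟨z, h2⟩ : ℂˣ))
    (hc : ∀ i ∈ J, ∀ [Fintype (rad cs h X J i)], ∑ u : rad cs h X J i, θ ⟨u, rad_le_MJ J i u.2⟩ = 0)
    (hs : ∀ w g (hg : Rp cs R.nsys w g), w ∉ WJ cs J → ∀ hw : Perm cs h J w,
      ∃ (m : Y) (hm : m ∈ MJ cs h X J), θ ⟨g⁻¹ * m * g, conj_mem_MJ R hg hw hm⟩ ≠ θ ⟨m, hm⟩) :
    ∃ χ : Y → ℂ, IsIrrCharacter Y χ ∧ (∃ k : ℕ, 0 < k ∧ χ 1 = (PJ cs h T X J).index * (k * θ 1)) ∧
      ∀ z (hz : z ∈ Z), χ z = χ 1 * (l ⟨z, hz⟩ : ℂˣ) := by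
  classical
  obtain ⟨ψ, hψ, ⟨k, hk, hk1⟩, hψz, c, s, hres, hsφ⟩ := exists_over_cen (MJ_le_LJ (T := T) J)
    (LJ_le_normalizer_MJ R J) (hZT.trans T_le_LJ) (fun z hz g _ => (Subgroup.mem_center_iff.1 (hZc hz) g).symm) hθ l hl
  have hψ1 : ∀ z (hz : z ∈ Z), ψ ⟨z, T_le_LJ (hZT hz)⟩ = ψ 1 * (l ⟨z, hz⟩ : ℂˣ) := by
    intro z hz
    have h1 := hψz z hz 1 (one_mem _)
    rw [mul_comm (ψ 1)]
    refine Eq.trans ?_ h1
    congr 1
    exact Subtype.ext (mul_one z).symm
  -- the conjugates are conjugates under the torus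
  have hsT : ∀ φ ∈ s, ∃ t, ∃ ht : t ∈ T, φ = θ ∘ conjME (MJ cs h X J) (T_le_normalizer_MJ R J ht) := by
    intro φ hφ
    obtain ⟨g, hg, hgφ⟩ := hsφ φ hφ
    obtain ⟨m, hm, t, ht, rfl⟩ := (mem_LJ_iff_mul' R J).1 hg
    refine ⟨t, ht, ?_⟩
    funext x
    obtain ⟨hx', e⟩ := hgφ x x.2
    rw [e, Function.comp_apply]
    have h1 := Core.isIrr_isClassFunction hθ (conjME (MJ cs h X J) (T_le_normalizer_MJ R J ht) x) ⟨m, hm⟩
    rw [← h1]
    congr 1
    apply Subtype.ext
    simp only [conjME_coe, Subgroup.coe_mul, InvMemClass.coe_inv]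
    group
  obtain ⟨χ, hχ, hχ1, hχZ⟩ := exists_irr_gen R hG J hZc hZT l hψ hψ1 (by
    intro i hi hf
    have h1 : ∀ u : rad cs h X J i, ψ ⟨u, rad_le_LJ J i u.2⟩ = c * ∑ φ ∈ s, φ ⟨u, rad_le_MJ J i u.2⟩ :=
      fun u => hres ⟨u, rad_le_MJ J i u.2⟩
    rw [Finset.sum_congr rfl fun u _ => h1 u, ← Finset.mul_sum, Finset.sum_comm]
    rw [Finset.sum_eq_zero, mul_zero]
    intro φ hφ
    obtain ⟨t, ht, rfl⟩ := hsT φ hφ
    rw [← hc i hi]
    exact Fintype.sum_equiv (conjME (rad cs h X J i) (T_le_normalizer_rad R J i ht)).toEquiv _ _ fun u => rfl) (by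
    intro w g hg hw hp
    have hgn := inv_mem (rp_mem_normalizer_MJ R hg hp)
    refine ⟨MJ cs h X J, MJ_le_LJ J, fun l hl => MJ_le_LJ J (conj_mem_MJ R hg hp hl), ?_⟩
    intro hf
    have h1 : ∀ l : MJ cs h X J, ψ ⟨l, MJ_le_LJ J l.2⟩ *
        conj (ψ ⟨g⁻¹ * l * g, MJ_le_LJ J (conj_mem_MJ R hg hp l.2)⟩) =
        ∑ φ ∈ s, ∑ φ' ∈ s, (c * conj c) * (φ l * conj ((φ' ∘ conjME (MJ cs h X J) hgn) l)) := by
      intro l
      have e2 : (⟨g⁻¹ * l * g, conj_mem_MJ R hg hp l.2⟩ : MJ cs h X J) = conjME (MJ cs h X J) hgn l := by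
        apply Subtype.ext
        rw [conjME_coe, inv_inv]
      have e3 := hres ⟨g⁻¹ * l * g, conj_mem_MJ R hg hp l.2⟩
      rw [hres l, e3, e2, map_mul, map_sum]
      simp only [← Finset.mul_sum, Function.comp_apply]
      rw [← Finset.sum_mul]
      ring
    rw [Finset.sum_congr rfl fun l _ => h1 l, Finset.sum_comm]
    refine Finset.sum_eq_zero fun φ hφ => ?_
    rw [Finset.sum_comm]
    refine Finset.sum_eq_zero fun φ' hφ' => ?_
    rw [← Finset.mul_sum]
    obtain ⟨t, ht, rfl⟩ := hsT φ hφ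
    obtain ⟨t', ht', rfl⟩ := hsT φ' hφ'
    have hne : θ ∘ conjME (MJ cs h X J) (T_le_normalizer_MJ R J ht) ≠
        (θ ∘ conjME (MJ cs h X J) (T_le_normalizer_MJ R J ht')) ∘ conjME (MJ cs h X J) hgn := by
      intro he
      have hg' : Rp cs R.nsys w (t * g * t'⁻¹) := by
        have h2 := ((rp_of_mem (cs := cs) (hN := R.nsys) ht).mul hg).mul
          (rp_of_mem (cs := cs) (hN := R.nsys) (inv_mem ht'))
        rwa [one_mul, mul_one] at h2
      obtain ⟨m, hm, hne⟩ := hs w _ hg' hw hp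
      apply hne
      have h3 := congrFun he (conjME (MJ cs h X J) (inv_mem (T_le_normalizer_MJ R J ht)) ⟨m, hm⟩)
      simp only [Function.comp_apply] at h3
      refine Eq.trans ?_ (h3.symm.trans ?_)
      · congr 1
        apply Subtype.ext
        simp only [conjME_coe]
        group
      · congr 1
        apply Subtype.ext
        simp only [conjME_coe]
        group
    have hi1 : IsIrrCharacter _ (θ ∘ conjME (MJ cs h X J) (T_le_normalizer_MJ R J ht)) :=
      Core.isIrr_comp (conjME _ (T_le_normalizer_MJ R J ht)).toMonoidHom (MulEquiv.surjective _) hθ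
    have hi2 : IsIrrCharacter _ (θ ∘ conjME (MJ cs h X J) (T_le_normalizer_MJ R J ht')) :=
      Core.isIrr_comp (conjME _ (T_le_normalizer_MJ R J ht')).toMonoidHom (MulEquiv.surjective _) hθ
    have hi3 : IsIrrCharacter _ ((θ ∘ conjME (MJ cs h X J) (T_le_normalizer_MJ R J ht')) ∘
        conjME (MJ cs h X J) hgn) :=
      Core.isIrr_comp (conjME _ hgn).toMonoidHom (MulEquiv.surjective _) hi2
    have h4 := Core.classInner_irr_ne hi1 hi3 hne
    rw [Core.classInner_def, mul_eq_zero] at h4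
    rcases h4 with h4 | h4
    · exact absurd (inv_eq_zero.1 h4) Core.card_ne_zero_complex
    · rw [mul_eq_zero]
      exact Or.inr h4)
  exact ⟨χ, hχ, ⟨k, hk, by rw [hχ1, hk1]⟩, hχZ⟩

end rgd

end Cfsg.Agent.H491.RIM
end

-- part: H643/RIM/WRev
section
set_option linter.all false
open scoped Cfsg.Agent.FastGrp

/-!
# Elements permuting the simple roots of a maximal parabolic subsystem reverse a component of type `A_m`

`J` = all nodes but `j`; `k : Fin m ↪ I` a component of `J` of type `A_m`, the only one of this type.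

* `reverse` : if `m + 1` does not divide `2 ∑ (i + 1) A (k i) j`;
* `reverse_of_neg` : if `-1` is an element of the Weyl group, `2 ≤ m`.
-/

set_option autoImplicit false

namespace Cfsg.Agent.H643.RIM

open CoxeterSystem Cfsg.Agent.ChevalleyStructure.CoxeterGeom Cfsg.Agent.Tits.Roots Cfsg.Agent.Tits.Core
  Cfsg.Agent.Tits.Exchange Cfsg.Agent.Nodes.Reps Cfsg.Agent.Nodes.BNOf Cfsg.Agent.Nodes.StabComb Cfsg.Agent.H53.HC
open Cfsg.Agent.LieRecognition.BNCox (cA cA_apply)
open Cfsg.Agent.LieRecognition.CoxClass (mA)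

/-- automorphisms of a path -/
theorem path_aut {m : ℕ} {f : Fin m → Fin m} (hf : Function.Injective f)
    (hadj : ∀ i i' : Fin m, (i : ℕ) + 1 = i' → (f i : ℕ) + 1 = f i' ∨ (f i' : ℕ) + 1 = f i) :
    (∀ i, f i = i) ∨ ∀ i, f i = i.rev := by
  rcases Nat.lt_or_ge m 2 with hm | hm
  · left
    intro i
    apply Fin.ext
    have := i.2
    have := (f i).2
    omega
  obtain ⟨a, ha⟩ : ∃ a : ℕ → ℤ, ∀ n (hn : n < m), a n = (f ⟨n, hn⟩ : ℕ) :=
    ⟨fun n => if hn : n < m then ((f ⟨n, hn⟩ : ℕ) : ℤ) else 0, fun n hn => by simp only [dif_pos hn]⟩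
  have h1 : ∀ n, n + 1 < m → a (n + 1) - a n = 1 ∨ a (n + 1) - a n = -1 := by
    intro n hn
    rw [ha _ hn, ha n (by omega)]
    rcases hadj ⟨n, by omega⟩ ⟨n + 1, hn⟩ rfl with h | h <;> omega
  have h2 : ∀ n, n + 2 < m → a (n + 2) ≠ a n := by
    intro n hn e
    rw [ha _ hn, ha n (by omega)] at e
    have h3 : f ⟨n + 2, hn⟩ = f ⟨n, by omega⟩ := Fin.ext (by exact_mod_cast e)
    have h4 := congrArg Fin.val (hf h3)
    simp only at h4
    omega
  have h3 : ∀ n, n + 1 < m → a (n + 1) - a n = a 1 - a 0 := by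
    intro n
    induction n with
    | zero => intro _; rfl
    | succ n ih =>
      intro hn
      have h4 := ih (by omega)
      have h5 := h1 n (by omega)
      have h6 := h1 (n + 1) hn
      have h7 := h2 n hn
      rw [show n + 2 = n + 1 + 1 from rfl] at h7
      omega
  have h4 : ∀ n, n < m → a n = a 0 + n * (a 1 - a 0) := by
    intro n
    induction n with
    | zero => intro _; push_cast; ring
    | succ n ih =>
      intro hn
      have h5 := ih (by omega)
      have h6 := h3 n hn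
      push_cast
      linarith
  have h0 : 0 ≤ a 0 ∧ a 0 < m := by
    rw [ha 0 (by omega)]
    have := (f ⟨0, by omega⟩).2
    omega
  have hl : 0 ≤ a (m - 1) ∧ a (m - 1) < m := by
    rw [ha (m - 1) (by omega)]
    have := (f ⟨m - 1, by omega⟩).2
    omega
  rw [h4 (m - 1) (by omega), Nat.cast_sub (by omega), Nat.cast_one] at hl
  rcases h1 0 (by omega) with h5 | h5
  · left
    rw [zero_add] at h5
    rw [h5] at hl
    have h6 : a 0 = 0 := by omega
    intro i
    apply Fin.ext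
    have h7 := h4 i i.2
    rw [ha i i.2, h5, h6] at h7
    simp only [Fin.eta] at h7
    omega
  · right
    rw [zero_add] at h5
    rw [h5] at hl
    have h6 : a 0 = m - 1 := by omega
    intro i
    apply Fin.ext
    have h7 := h4 i i.2
    rw [ha i i.2, h5, h6] at h7
    simp only [Fin.eta] at h7
    rw [Fin.val_rev]
    have := i.2
    omega

/-- the pairings of the weighted sum of the coroots of type `A_m` -/
theorem sum_chain (m i' : ℕ) (n : ℕ) :
    ∑ i ∈ Finset.range n, ((i : ℤ) + 1) * (if i = i' then (2 : ℤ) else if i + 1 = i' ∨ i' + 1 = i then -1 else 0) =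
      if n = i' then -(i' : ℤ) else if n = i' + 1 then (i' : ℤ) + 2 else 0 := by
  induction n with
  | zero =>
    rw [Finset.sum_range_zero]
    by_cases h1 : 0 = i'
    · rw [if_pos h1, ← h1]; rfl
    · rw [if_neg h1, if_neg (by omega)]
  | succ n ih =>
    rw [Finset.sum_range_succ, ih]
    split_ifs <;> first | omega | (push_cast; omega)

variable {I W : Type*} [Fintype I] [DecidableEq I] [Group W] {M : CoxeterMatrix I}
  {cs : CoxeterSystem M W} {A : I → I → ℤ} {h : IsCartan M A}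

/-- `k` is a component of type `A_m` of `J`, the only one -/
structure OneChain (M : CoxeterMatrix I) (J : Set I) {m : ℕ} (k : Fin m ↪ I) : Prop where
  mem : ∀ i, k i ∈ J
  chain : ∀ i i', M (k i) (k i') = cA m i i'
  iso : ∀ a ∈ J, a ∉ Set.range k → ∀ i, M (k i) a = 2
  uniq : ∀ k' : Fin m ↪ I, (∀ i, k' i ∈ J) → (∀ i i', M (k' i) (k' i') = cA m i i') → ∃ i, k' i ∈ Set.range k

omit [Fintype I] [DecidableEq I] in
theorem OneChain.of_card {J : Set I} [Finite I] {m : ℕ} (k : Fin m ↪ I) (mem : ∀ i, k i ∈ J)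
    (chain : ∀ i i', M (k i) (k i') = cA m i i') (iso : ∀ a ∈ J, a ∉ Set.range k → ∀ i, M (k i) a = 2)
    (hcard : Nat.card ↥(J \ Set.range k) < m) : OneChain M J k := by
  refine ⟨mem, chain, iso, fun k' hk' _ => ?_⟩
  by_contra hcon
  push Not at hcon
  have h1 : Function.Injective (fun i : Fin m => (⟨k' i, hk' i, hcon i⟩ : ↥(J \ Set.range k))) := by
    intro a b hab
    exact k'.injective (congrArg Subtype.val hab)
  have h2 := Nat.card_le_card_of_injective _ h1
  rw [Nat.card_eq_fintype_card, Fintype.card_fin] at h2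
  exact absurd h2 (not_le.2 hcard)

omit [Fintype I] [DecidableEq I] in
theorem OneChain.of_isolated {J : Set I} {m : ℕ} (hm : 2 ≤ m) (k : Fin m ↪ I) (mem : ∀ i, k i ∈ J)
    (chain : ∀ i i', M (k i) (k i') = cA m i i')
    (iso : ∀ a ∈ J, a ∉ Set.range k → ∀ b ∈ J, b ≠ a → M b a = 2) : OneChain M J k := by
  refine ⟨mem, chain, fun a ha hk i => iso a ha hk _ (mem i) (fun e => hk ⟨i, e⟩), fun k' hk' hM => ?_⟩
  refine ⟨⟨0, by omega⟩, ?_⟩
  by_contra hcon
  have h1 := iso _ (hk' ⟨0, by omega⟩) hcon (k' ⟨1, by omega⟩) (hk' _) (fun e => by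
    have := congrArg Fin.val (k'.injective e)
    simp at this)
  rw [hM, cA_apply] at h1
  simp [mA] at h1

section

variable {m : ℕ} {k : Fin m ↪ I} {J : Set I}

omit [Fintype I] [DecidableEq I] in
theorem mA_of (i i' : ℕ) : mA i i' = if i = i' then 1 else if i + 1 = i' ∨ i' + 1 = i then 3 else 2 := by
  unfold mA
  split_ifs <;> first | rfl | omega

omit [Fintype I] [DecidableEq I] in
theorem cartan_of_M (h : IsCartan M A) {a b : I} :
    (A a b = 2 ↔ a = b) ∧ (A a b = 0 ↔ M a b = 2) ∧ (A a b = -1 → A b a = -1 → M a b = 3) ∧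
      (M a b = 3 → A a b = -1 ∧ A b a = -1) := by
  by_cases hab : a = b
  · subst hab
    have h1 := h.diag a
    have h2 := M.diagonal a
    refine ⟨by simp [h1], ?_, ?_, ?_⟩
    · rw [h1, h2]; norm_num
    · rw [h1]; norm_num
    · rw [h2]; norm_num
  · rcases h.rel a b hab with ⟨h1, h2, h3⟩ | ⟨h1, h2, h3⟩ | ⟨h1, ⟨h2, h3⟩ | ⟨h2, h3⟩⟩ | ⟨h1, ⟨h2, h3⟩ | ⟨h2, h3⟩⟩ <;>
      simp [h1, h2, h3, hab]

omit [Fintype I] [DecidableEq I] in
theorem OneChain.cartan (hk : OneChain M J k) (h : IsCartan M A) (i i' : Fin m) :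
    A (k i) (k i') = if (i : ℕ) = i' then 2 else if (i : ℕ) + 1 = i' ∨ (i' : ℕ) + 1 = i then -1 else 0 := by
  obtain ⟨h1, h2, h3, h4⟩ := cartan_of_M h (a := k i) (b := k i')
  have h5 := hk.chain i i'
  rw [cA_apply, mA_of] at h5
  split_ifs at h5 ⊢ with e1 e2
  · exact h1.2 (congrArg k (Fin.ext e1))
  · exact (h4 h5).1
  · exact h2.2 h5

omit [Fintype I] [DecidableEq I] in
theorem OneChain.dvd (hk : OneChain M J k) (h : IsCartan M A) {a : I} (ha : a ∈ J) :
    ((m : ℤ) + 1) ∣ ∑ i : Fin m, ((i : ℕ) + 1 : ℤ) * A (k i) a := by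
  by_cases hr : a ∈ Set.range k
  · obtain ⟨i', rfl⟩ := hr
    have h1 : ∑ i : Fin m, ((i : ℕ) + 1 : ℤ) * A (k i) (k i') = ∑ i ∈ Finset.range m, ((i : ℤ) + 1) *
        (if i = (i' : ℕ) then (2 : ℤ) else if i + 1 = (i' : ℕ) ∨ (i' : ℕ) + 1 = i then -1 else 0) := by
      rw [← Fin.sum_univ_eq_sum_range]
      exact Finset.sum_congr rfl fun i _ => by rw [hk.cartan h]
    rw [h1, sum_chain m]
    have := i'.2
    split_ifs with e1 e2
    · omega
    · exact ⟨1, by omega⟩
    · exact dvd_zero _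
  · rw [Finset.sum_eq_zero fun i _ => ?_]
    · exact dvd_zero _
    · rw [(cartan_of_M h (a := k i) (b := a)).2.1.2 (hk.iso a ha hr i), mul_zero]

theorem sr_inj {i i' : I} (hii : (sr i : I → ℤ) = sr i') : i = i' := by
  by_contra hne
  have := congrFun hii i
  rw [sr_self, sr_ne hne] at this
  exact one_ne_zero this

/-- **Two possibilities.** -/
theorem OneChain.id_or_rev [Finite W] (hk : OneChain M J k) {w : W} (hw : Perm cs h J w) :
    (∀ i, rep cs h w (sr (k i)) = sr (k i)) ∨ ∀ i, rep cs h w (sr (k i)) = sr (k i.rev) := by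
  choose k₀ hk₀ e using fun i => hw.2 (k i) (hk.mem i)
  have hinj : Function.Injective k₀ := by
    intro a b hab
    apply k.injective
    apply sr_inj
    rw [← rep_inv_apply cs h w (sr (k a)), e, hab, ← e, rep_inv_apply]
  have hA : ∀ i i', A (k₀ i) (k₀ i') = A (k i) (k i') := fun i i' => cartan_rep (e i) (e i')
  have hM : ∀ i i', M (k₀ i) (k₀ i') = cA m i i' := by
    intro i i'
    rw [← hk.chain]
    obtain ⟨h1, h2, h3, h4⟩ := cartan_of_M h (a := k i) (b := k i')
    obtain ⟨h1', h2', h3', h4'⟩ := cartan_of_M h (a := k₀ i) (b := k₀ i')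
    have h5 := hk.cartan h i i'
    have h6 := hk.cartan h i' i
    have h7 := hk.chain i i'
    rw [cA_apply, mA_of] at h7
    split_ifs at h5 h6 h7 with g1 g2 g3 g4 g5 g6 <;> first | omega | skip
    · obtain rfl : i = i' := Fin.ext g1
      rw [M.diagonal, M.diagonal]
    all_goals first
      | (rw [h7]; exact h3' ((hA i i').trans h5) ((hA i' i).trans h6))
      | (rw [h7]; exact h2'.1 ((hA i i').trans h5))
  obtain ⟨i₁, hi₁⟩ := hk.uniq ⟨k₀, hinj⟩ hk₀ hM
  have hstep : ∀ i i' : Fin m, (i : ℕ) + 1 = i' → (k₀ i ∈ Set.range k ↔ k₀ i' ∈ Set.range k) := by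
    intro i i' hii
    have h3 : M (k₀ i) (k₀ i') = 3 := by rw [hM, cA_apply, mA_of, if_neg (by omega), if_pos (Or.inl hii)]
    constructor
    · rintro ⟨b, hb⟩
      by_contra hcon
      have := hk.iso _ (hk₀ i') hcon b
      rw [hb, h3] at this
      omega
    · rintro ⟨b, hb⟩
      by_contra hcon
      have := hk.iso _ (hk₀ i) hcon b
      rw [hb, M.symmetric, h3] at this
      omega
  have hall : ∀ n (hn : n < m), k₀ ⟨n, hn⟩ ∈ Set.range k ↔ k₀ ⟨0, by omega⟩ ∈ Set.range k := by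
    intro n
    induction n with
    | zero => intro _; exact Iff.rfl
    | succ n ih =>
      intro hn
      rw [← hstep ⟨n, by omega⟩ ⟨n + 1, hn⟩ rfl]
      exact ih (by omega)
  have hmem : ∀ i : Fin m, k₀ i ∈ Set.range k := fun i => (hall i i.2).2 ((hall i₁ i₁.2).1 hi₁)
  choose f hf using hmem
  have hfi : Function.Injective f := by
    intro a b hab
    apply hinj
    rw [← hf, ← hf, hab]
  have hadj : ∀ i i' : Fin m, (i : ℕ) + 1 = i' → (f i : ℕ) + 1 = f i' ∨ (f i' : ℕ) + 1 = f i := by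
    intro i i' hii
    have h3 : M (k₀ i) (k₀ i') = 3 := by rw [hM, cA_apply, mA_of, if_neg (by omega), if_pos (Or.inl hii)]
    rw [← hf, ← hf, hk.chain, cA_apply, mA_of] at h3
    split_ifs at h3 with g1 g2 <;> first | assumption | omega
  rcases path_aut hfi hadj with h1 | h1
  · exact Or.inl fun i => by rw [e, ← hf, h1]
  · exact Or.inr fun i => by rw [e, ← hf, h1]

theorem pairing_comm_sum (x : I → ℤ) (c : Fin m → ℤ) :
    ∑ i, c i * pairing A (k i) x = ∑ a, x a * ∑ i, c i * A (k i) a := by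
  unfold pairing
  simp only [Finset.mul_sum]
  rw [Finset.sum_comm]
  exact Finset.sum_congr rfl fun a _ => Finset.sum_congr rfl fun i _ => by ring

/-- **The component is reversed.** -/
theorem reverse [Finite W] {j : I} (hJ : ∀ i, i ∈ J ↔ i ≠ j) (hk : OneChain M J k)
    (hd : ¬ ((m : ℤ) + 1) ∣ 2 * ∑ i : Fin m, ((i : ℕ) + 1 : ℤ) * A (k i) j) {w : W} (hw : Perm cs h J w)
    (hwJ : w ∉ WJ cs J) (i : Fin m) : rep cs h w (sr (k i)) = sr (k i.rev) := by
  rcases hk.id_or_rev hw with h1 | h1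
  · exfalso
    apply hd
    have h2 : ∀ i, pairing A (k i) (rep cs h w (sr j)) = A (k i) j := by
      intro i
      rw [pairing_rep (h1 i), sr, pairing_single, mul_one]
    have h3 := pairing_comm_sum (k := k) (A := A) (rep cs h w (sr j)) fun i => ((i : ℕ) + 1 : ℤ)
    rw [Finset.sum_congr rfl fun i _ => by rw [h2 i]] at h3
    have h4 : rep cs h w (sr j) j = -1 := by rw [apply_eq_neg hJ hw hwJ, sr_self]
    rw [← Finset.add_sum_erase _ _ (Finset.mem_univ j), h4] at h3
    have h5 : ((m : ℤ) + 1) ∣ ∑ a ∈ Finset.univ.erase j, rep cs h w (sr j) a * ∑ i : Fin m, ((i : ℕ) + 1 : ℤ) * A (k i) a := by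
      refine Finset.dvd_sum fun a ha => ?_
      exact Dvd.dvd.mul_left (hk.dvd h ((hJ a).2 (Finset.ne_of_mem_erase ha))) _
    have h6 : 2 * ∑ i : Fin m, ((i : ℕ) + 1 : ℤ) * A (k i) j =
        ∑ a ∈ Finset.univ.erase j, rep cs h w (sr j) a * ∑ i : Fin m, ((i : ℕ) + 1 : ℤ) * A (k i) a := by
      linarith
    rw [h6]
    exact h5
  · exact h1 i

/-- elements fixing the coordinate `j` are in `W_J` -/
theorem mem_WJ_of_coord {j : I} (hJ : ∀ i, i ∈ J ↔ i ≠ j) {u : W} (hu : ∀ x, rep cs h u x j = x j) : u ∈ WJ cs J := by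
  induction hn : cs.length u using Nat.strong_induction_on generalizing u with
  | _ n ih =>
    by_cases h1 : u = 1
    · rw [h1]; exact one_mem _
    obtain ⟨i, hi⟩ := cs.exists_rightDescent_of_ne_one h1
    have h2 : rep cs h u (sr i) ≤ 0 := nonpos_of_lt cs h u i hi
    have hij : i ≠ j := by
      rintro rfl
      have h3 := h2 i
      rw [hu, sr_self] at h3
      exact absurd h3 (by simp)
    have h4 : u * cs.simple i ∈ WJ cs J := by
      refine ih _ ?_ (fun x => ?_) rfl
      · rw [← hn]; exact hi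
      · rw [rep_mul_apply, hu, rep_simple_apply cs h i x j hij.symm]
    have h5 : u = u * cs.simple i * cs.simple i := by rw [mul_assoc, simple_mul_simple_self, mul_one]
    rw [h5]
    exact mul_mem h4 (simple_mem_WJ cs ((hJ i).2 hij))

/-- a vector pairing to zero with all but one simple coroot -/
theorem exists_weight [Finite W] (cs : CoxeterSystem M W) (h : IsCartan M A) (b : I) :
    ∃ (y : I → ℤ) (N : ℤ), N ≠ 0 ∧ pairing A b y = N ∧ ∀ a, a ≠ b → pairing A a y = 0 := by
  have := Fintype.ofFinite W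
  let B : Matrix I I ℤ := Matrix.of A
  have hdet : B.det ≠ 0 := by
    intro h0
    obtain ⟨v, hv, hv0⟩ := Matrix.exists_mulVec_eq_zero_iff.2 h0
    have h1 : ∀ a, pairing A a v = 0 := fun a => congrFun hv0 a
    have h2 : ∀ a, form cs h v (sr a) = 0 := by
      intro a
      have := two_form cs h a v
      rw [h1, zero_mul] at this
      omega
    have h3 := form_pos cs h hv
    rw [form_eq_sum, Finset.sum_eq_zero fun a _ => by rw [h2, mul_zero]] at h3
    exact lt_irrefl _ h3
  refine ⟨B.adjugate.mulVec (Pi.single b 1), B.det, hdet, ?_, fun a ha => ?_⟩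
  · have h1 : B.mulVec (B.adjugate.mulVec (Pi.single b 1)) = B.det • Pi.single b 1 := by
      rw [Matrix.mulVec_mulVec, Matrix.mul_adjugate, Matrix.smul_mulVec, Matrix.one_mulVec]
    have h2 := congrFun h1 b
    rw [Pi.smul_apply, Pi.single_eq_same, smul_eq_mul, mul_one] at h2
    exact h2
  · have h1 : B.mulVec (B.adjugate.mulVec (Pi.single b 1)) = B.det • Pi.single b 1 := by
      rw [Matrix.mulVec_mulVec, Matrix.mul_adjugate, Matrix.smul_mulVec, Matrix.one_mulVec]
    have h2 := congrFun h1 a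
    rw [Pi.smul_apply, Pi.single_eq_of_ne ha, smul_zero] at h2
    exact h2

/-- **The component is reversed**, if `-1` is an element of the Weyl group. -/
theorem reverse_of_neg [Finite W] {j : I} (hJ : ∀ i, i ∈ J ↔ i ≠ j) (hk : OneChain M J k) (hm : 2 ≤ m)
    {w₀ : W} (h0 : ∀ x, rep cs h w₀ x = -x) {w : W} (hw : Perm cs h J w)
    (hwJ : w ∉ WJ cs J) (i : Fin m) : rep cs h w (sr (k i)) = sr (k i.rev) := by
  rcases hk.id_or_rev hw with h1 | h1
  · exfalso
    obtain ⟨y, N, hN, hy1, hy2⟩ := exists_weight cs h (k ⟨0, by omega⟩)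
    have hmem : w₀ * w ∈ WJ cs J := by
      refine mem_WJ_of_coord (h := h) hJ fun x => ?_
      rw [rep_mul_apply, h0, Pi.neg_apply, apply_eq_neg hJ hw hwJ, neg_neg]
    have key : ∀ v ∈ WJ cs J, ∀ y : I → ℤ, (∀ a, N ∣ pairing A a y) → (∀ a, N ∣ pairing A a (rep cs h v y)) ∧
        N * ((m : ℤ) + 1) ∣ ∑ i : Fin m, ((i : ℕ) + 1 : ℤ) * pairing A (k i) (rep cs h v y) -
          ∑ i : Fin m, ((i : ℕ) + 1 : ℤ) * pairing A (k i) y := by
      intro v hv
      induction hv using Subgroup.closure_induction with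
      | mem v hv =>
        obtain ⟨a, ha, rfl⟩ := hv
        intro y hy
        have e : ∀ b, pairing A b (rep cs h (cs.simple a) y) = pairing A b y - pairing A a y * A b a := by
          intro b
          rw [rep_simple_eq, sub_eq_add_neg, ← neg_smul, pairing_add, pairing_smul, sr, pairing_single]
          ring
        refine ⟨fun b => ?_, ?_⟩
        · rw [e]
          exact dvd_sub (hy b) ((hy a).mul_right _)
        · have e2 : ∑ i : Fin m, ((i : ℕ) + 1 : ℤ) * pairing A (k i) (rep cs h (cs.simple a) y) -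
              ∑ i : Fin m, ((i : ℕ) + 1 : ℤ) * pairing A (k i) y =
              -(pairing A a y * ∑ i : Fin m, ((i : ℕ) + 1 : ℤ) * A (k i) a) := by
            rw [← Finset.sum_sub_distrib, Finset.mul_sum, ← Finset.sum_neg_distrib]
            exact Finset.sum_congr rfl fun i _ => by rw [e]; ring
          rw [e2, dvd_neg]
          exact mul_dvd_mul (hy a) (hk.dvd h ha)
      | one =>
        intro y hy
        rw [map_one, Module.End.one_apply, sub_self]
        exact ⟨hy, dvd_zero _⟩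
      | mul v v' _ _ ih ih' =>
        intro y hy
        obtain ⟨g1, g2⟩ := ih' y hy
        obtain ⟨g3, g4⟩ := ih _ g1
        rw [rep_mul_apply]
        refine ⟨g3, ?_⟩
        have := dvd_add g4 g2
        rwa [sub_add_sub_cancel] at this
      | inv v _ ih =>
        intro y hy
        have hfin : ∃ n : ℕ, v⁻¹ = v ^ n := by
          obtain ⟨n, hn⟩ := (mem_powers_iff_mem_zpowers (x := v) (y := v⁻¹)).2 (by simp)
          exact ⟨n, hn.symm⟩
        obtain ⟨n, hn⟩ := hfin
        rw [hn]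
        clear hn
        induction n with
        | zero =>
          rw [pow_zero, map_one, Module.End.one_apply, sub_self]
          exact ⟨hy, dvd_zero _⟩
        | succ n ihn =>
          obtain ⟨g1, g2⟩ := ihn
          obtain ⟨g3, g4⟩ := ih _ g1
          rw [pow_succ', rep_mul_apply]
          refine ⟨g3, ?_⟩
          have := dvd_add g4 g2
          rwa [sub_add_sub_cancel] at this
    obtain ⟨-, h2⟩ := key _ hmem y (fun a => by
      by_cases ha : a = k ⟨0, by omega⟩
      · rw [ha, hy1]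
      · rw [hy2 a ha]; exact dvd_zero _)
    have h3 : ∀ i, pairing A (k i) (rep cs h (w₀ * w) y) = - pairing A (k i) y := by
      intro i
      rw [rep_mul_apply, h0, ← neg_one_smul ℤ, pairing_smul, pairing_rep (h1 i), neg_one_mul]
    have h4 : ∑ i : Fin m, ((i : ℕ) + 1 : ℤ) * pairing A (k i) y = N := by
      rw [Finset.sum_eq_single (⟨0, by omega⟩ : Fin m)]
      · rw [hy1]; simp
      · intro i _ hi
        rw [hy2 _ (fun e => hi (k.injective e)), mul_zero]
      · intro hi
        exact absurd (Finset.mem_univ _) hi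
    rw [Finset.sum_congr rfl fun i _ => by rw [h3 i, mul_neg], Finset.sum_neg_distrib, h4] at h2
    have h5 : N * ((m : ℤ) + 1) ∣ N * 2 := by
      have e : -N - N = -(N * 2) := by ring
      rw [e, dvd_neg] at h2
      exact h2
    have h6 : ((m : ℤ) + 1) ∣ 2 := (mul_dvd_mul_iff_left hN).1 h5
    have h7 := Int.le_of_dvd (by norm_num) h6
    omega
  · exact h1 i

end

end Cfsg.Agent.H643.RIM
end

-- part: H46/RIM/Restr_mg
section
prune_inst 0x220080000000000000080000000000001c410002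
set_option linter.all false
open scoped Cfsg.Agent.FastGrp

-- part: H46/RIM/Restr
section
/-!
# S4816: restriction to a normal subgroup, with central characters (helper46)

* `exists_irr_restr` : `N` normal in `G`, `Z` central, `χ ∈ Irr(G)` over `μ ∈ Irr(Z)`: `N` has an irreducible character `θ` over
  `μ`, `χ(1) = t θ(1)`, `t ∣ |G : N Z|`.
-/

set_option autoImplicit false
set_option linter.unusedSectionVars false

namespace Cfsg.Agent.H46.RIM

open Cfsg Cfsg.Agent.Characters.Core Cfsg.Agent.Characters.Linear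
open scoped ComplexConjugate

universe u v w

/-- **Restriction to a normal subgroup with a central character.** -/
theorem exists_irr_restr {G : Type u} [Group G] [Finite G] (N Z : Subgroup G) [hN : N.Normal]
    (hZ : ∀ z ∈ Z, ∀ g, z * g = g * z) {χ : G → ℂ} (hχ : IsIrrCharacter G χ) (μ : Z →* ℂˣ)
    (hμ : ∀ (z : Z) (g : G), χ (z * g) = μ z * χ g) {d : ℕ} (hd : χ 1 = d) :
    ∃ (θ : N → ℂ) (e t : ℕ), IsIrrCharacter N θ ∧ θ 1 = e ∧ e * t = d ∧ t ∣ (N ⊔ Z).index ∧
      ∀ (z : G) (hzN : z ∈ N) (hzZ : z ∈ Z), θ ⟨z, hzN⟩ = θ 1 * μ ⟨z, hzZ⟩ := by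
  classical
  have hZn : Z.Normal := ⟨fun z hz g => by rw [← hZ z hz g, mul_inv_cancel_right]; exact hz⟩
  let M : Subgroup G := N ⊔ Z
  have hMn : M.Normal := Subgroup.sup_normal N Z
  have := Fintype.ofFinite G
  have := Fintype.ofFinite M
  have hres : IsCharacter M (fun n : M => χ n) := isCharacter_comp M.subtype (isIrr_isCharacter hχ)
  have h0 : (fun n : M => χ n) ≠ 0 := by
    intro h
    have := congrFun h 1
    exact isIrr_apply_one_ne_zero hχ this
  obtain ⟨θ, hθ, hne⟩ := Cfsg.Agent.H113.NormTwoChar.exists_constituent hres h0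
  obtain ⟨e, he0, he⟩ := isIrr_apply_one hθ
  obtain ⟨h1, h2⟩ := Cfsg.Agent.S0887.result M χ hχ θ hθ hne d e hd he
  -- the central character of `θ`
  have hNM : N ≤ M := le_sup_left
  have hZM : Z ≤ M := le_sup_right
  have hcen : ∀ (z : G) (hz : z ∈ Z), θ ⟨z, hZM hz⟩ = μ ⟨z, hz⟩ * θ 1 := by
    intro z hz
    by_contra hcon
    apply hne
    have hZ' : ∀ z ∈ Z.subgroupOf M, ∀ g, z * g = g * z := fun z hz g => Subtype.ext (hZ z hz g)
    let μ' : Z.subgroupOf M →* ℂˣ := μ.comp (Subgroup.subgroupOfEquivOfLe hZM).toMonoidHom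
    exact H115.HC.CuspCentral.classInner_eq_zero hθ (Z.subgroupOf M) hZ' μ' (Φ := fun n : M => χ n)
      (fun z x => hμ ⟨z.1.1, z.2⟩ x.1) (z := ⟨⟨z, hZM hz⟩, hz⟩) hcon
  -- `N × Z → M`
  let f : N × Z →* M :=
    { toFun := fun x => ⟨x.1.1 * x.2.1, M.mul_mem (hNM x.1.2) (hZM x.2.2)⟩
      map_one' := Subtype.ext (by simp)
      map_mul' := fun x y => Subtype.ext (by
        change x.1.1 * y.1.1 * (x.2.1 * y.2.1) = x.1.1 * x.2.1 * (y.1.1 * y.2.1)
        rw [mul_assoc, mul_assoc, ← mul_assoc y.1.1, ← hZ x.2.1 x.2.2 y.1.1, mul_assoc]) }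
  have hf : Function.Surjective f := by
    rintro ⟨m, hm⟩
    obtain ⟨n, hn, z, hz, rfl⟩ := Subgroup.mem_sup_of_normal_left.1 hm
    exact ⟨(⟨n, hn⟩, ⟨z, hz⟩), rfl⟩
  obtain ⟨φ, ψ, hφ, hψ, hfp⟩ := (Cfsg.Agent.S0188.result _).1 (isIrr_comp f hf hθ)
  have hval : ∀ (n : N) (z : Z), θ (f (n, z)) = φ n * ψ z := fun n z => congrFun hfp (n, z)
  have hφ0 : φ 1 ≠ 0 := isIrr_apply_one_ne_zero hφ
  have hf1 : ∀ z : Z, f (1, z) = ⟨z, hZM z.2⟩ := fun z => Subtype.ext (one_mul _)
  have hψ1 : ∀ z, ψ z = ψ 1 * μ z := by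
    intro z
    have e1 := hval 1 z
    have e2 := hval 1 1
    rw [hf1] at e1 e2
    rw [hcen z z.2] at e1
    have e3 : (⟨((1 : Z) : G), hZM (1 : Z).2⟩ : M) = 1 := rfl
    rw [e3] at e2
    rw [e2] at e1
    apply mul_left_cancel₀ hφ0
    rw [← e1]
    ring
  have hψone : ψ 1 = 1 := by
    obtain ⟨k, hk0, hk⟩ := isIrr_apply_one hψ
    have := Fintype.ofFinite Z
    have e1 := classInner_irr_self hψ
    have e2 : ψ = ψ 1 • fun z => (μ z : ℂ) := by
      funext z
      rw [Pi.smul_apply, smul_eq_mul]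
      exact hψ1 z
    have e3 := classInner_irr_self (isIrrCharacter_hom μ)
    rw [e2, classInner_smul_left, classInner_smul_right, e3, hk] at e1
    have e4 : (k : ℂ) * (k : ℂ) = 1 := by
      rw [← e1, mul_one]
      simp
    have e5 : k * k = 1 := by exact_mod_cast e4
    rw [hk, Nat.eq_one_of_mul_eq_one_right e5, Nat.cast_one]
  have hφN : ∀ n : N, φ n = θ ⟨n, hNM n.2⟩ := by
    intro n
    have e1 := hval n 1
    rw [hψone, mul_one] at e1
    rw [← e1]
    congr 1
    exact Subtype.ext (mul_one _)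
  refine ⟨φ, e, d / e, hφ, ?_, Nat.mul_div_cancel' h1, h2, ?_⟩
  · rw [hφN, ← he]
    rfl
  · intro z hzN hzZ
    rw [hφN, hφN]
    have e1 := hcen z hzZ
    have e2 : (⟨((1 : N) : G), hNM (1 : N).2⟩ : M) = 1 := rfl
    rw [e2, mul_comm]
    exact e1

end Cfsg.Agent.H46.RIM
end

-- part: H886/RIM/GLn
section
/-!
# Characters of `GL_n(q)` with prescribed central character (S4816, RIM-L-PSL; helper886)

`μ : Fˣ →* ℂˣ` arbitrary.

* `exists_theta_mu` : a regular character of `Lˣ`, `[L : F] = n ≥ 2`, extending `μ`;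
* `exists_cus` : a cuspidal irreducible character of `GL_n(q)` of degree `∏_{0<i<n} (q^i - 1)` with central character `μ`;
* `exists_hyp` : `n ≥ 3`, degree `(q^n - 1)/(q - 1) ∏_{0<i<n-1} (q^i - 1)`, central character `μ`;
* `exists_two` : degree `q + 1` for `GL_2(q)`, central character `α β`, `α ≠ β`;
* `exists_gl` : `n ≥ 3`, `p` a prime divisor of `|PSL_n(q)|`, `p ∤ q`: degree divisible by `p * gcd(n, q - 1)`.
-/

set_option autoImplicit false
set_option linter.unusedSectionVars false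
set_option linter.style.haveILetI false

open Cfsg Matrix

namespace Cfsg.Agent.H886.RIM

open Cfsg.Agent.H53.HC Cfsg.Agent.Characters MulAction Module
open Cfsg.Agent.H113.PSL.Para Cfsg.Agent.H113.PSL.Pass Cfsg.Agent.H113.PSL.Degrees Cfsg.Agent.H113.PSL.Main
open Cfsg.Agent.H139.Cusp

universe u v w

/-! ### characters of the multiplicative group -/

section theta

variable {F : Type u} [Field F] [Finite F] {L : Type w} [Field L] [Finite L] [Algebra F L]

/-- the restrictions of the powers of an injective character are all characters -/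
theorem exists_pow_mu {θ : L →*₀ ℂ} (hθ : Function.Injective θ) (μ : Fˣ →* ℂˣ) :
    ∃ k : ℕ, 1 ≤ k ∧ k ≤ Nat.card F - 1 ∧ ∀ c : Fˣ, θ (algebraMap F L c) ^ k = μ c := by
  have hq : 1 < Nat.card F := Finite.one_lt_card
  obtain ⟨γ, hγt⟩ := IsCyclic.exists_generator (α := Fˣ)
  have hγ : orderOf γ = Nat.card Fˣ := orderOf_eq_card_of_forall_mem_zpowers hγt
  have hcF : Nat.card Fˣ = Nat.card F - 1 := Nat.card_units F
  have hprim : IsPrimitiveRoot (θ (algebraMap F L γ)) (Nat.card F - 1) := by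
    refine ⟨?_, fun m hm => ?_⟩
    · rw [← map_pow, ← map_pow, ← Units.val_pow_eq_pow_val, ← hcF, pow_card_eq_one', Units.val_one, map_one, map_one]
    · rw [← hcF, ← hγ]
      apply orderOf_dvd_of_pow_eq_one
      apply Units.ext
      rw [Units.val_pow_eq_pow_val, Units.val_one]
      apply (algebraMap F L).injective
      apply hθ
      rw [map_pow, map_pow, hm, map_one, map_one]
  have hne : NeZero (Nat.card F - 1) := ⟨by omega⟩
  have hμ : ((μ γ : ℂˣ) : ℂ) ^ (Nat.card F - 1) = 1 := by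
    rw [← Units.val_pow_eq_pow_val, ← map_pow, ← hcF, pow_card_eq_one', map_one, Units.val_one]
  obtain ⟨j, hj, hj'⟩ := hprim.eq_pow_of_pow_eq_one hμ
  -- on the generator it is enough
  have key : ∀ k : ℕ, θ (algebraMap F L γ) ^ k = μ γ → ∀ c : Fˣ, θ (algebraMap F L c) ^ k = μ c := by
    intro k hk c
    obtain ⟨i, rfl⟩ := (isOfFinOrder_of_finite γ).mem_powers_iff_mem_zpowers.2 (hγt c)
    simp only [map_pow, Units.val_pow_eq_pow_val]
    rw [← hk, ← pow_mul, ← pow_mul, mul_comm]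
  rcases Nat.eq_zero_or_pos j with h0 | h0
  · refine ⟨Nat.card F - 1, by omega, le_rfl, key _ ?_⟩
    rw [← hj', h0, pow_zero, hprim.pow_eq_one]
  · exact ⟨j, h0, by omega, key _ hj'⟩

/-- **a regular character extending `μ`** -/
theorem exists_theta_mu {n : ℕ} (hL : Module.finrank F L = n) (μ : Fˣ →* ℂˣ) :
    ∃ θ : L →*₀ ℂ, (∀ c : Fˣ, θ (algebraMap F L c) = μ c) ∧ Regular F n θ := by
  obtain ⟨θ, hθ⟩ := Cfsg.Agent.H139.Cusp.exists_theta L
  obtain ⟨k, h1, h2, h3⟩ := exists_pow_mu hθ μ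
  have hk : k ≠ 0 := by omega
  refine ⟨powTheta θ k hk, fun c => ?_, ?_⟩
  · rw [powTheta_apply, h3]
  · rw [regular_powTheta_iff hθ hk hL]
    intro i hi hin hd
    have hq : 1 < Nat.card F := Finite.one_lt_card
    have h4 : 1 < Nat.card F ^ i := Nat.one_lt_pow (by omega) hq
    have h5 : 0 < k * (Nat.card F ^ i - 1) := Nat.mul_pos (by omega) (by omega)
    have h6 := Nat.le_of_dvd h5 hd
    have h7 : k * (Nat.card F ^ i - 1) ≤ (Nat.card F - 1) * (Nat.card F ^ i - 1) := Nat.mul_le_mul_right _ h2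
    have h8 : Nat.card F ^ (i + 1) ≤ Nat.card F ^ n := Nat.pow_le_pow_right (by omega) (by omega)
    have h9 : (Nat.card F - 1) * (Nat.card F ^ i - 1) + (Nat.card F - 1) + Nat.card F ^ i = Nat.card F ^ (i + 1) := by
      obtain ⟨a, ha⟩ : ∃ a, Nat.card F = a + 1 := ⟨Nat.card F - 1, by omega⟩
      obtain ⟨b, hb⟩ : ∃ b, Nat.card F ^ i = b + 1 := ⟨Nat.card F ^ i - 1, by omega⟩
      rw [pow_succ, hb, ha, Nat.add_sub_cancel, Nat.add_sub_cancel]
      ring
    omega

end theta

/-! ### characters of `GL_n(q)` -/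

section gl

variable {F : Type u} [Field F] [Fintype F]

/-- the scalars are central -/
theorem scalar_mem_center {n : ℕ} (c : Fˣ) : GeneralLinearGroup.scalar (Fin n) c ∈ Subgroup.center (GL (Fin n) F) := by
  rw [Subgroup.mem_center_iff]
  intro g
  apply Units.ext
  rw [Units.val_mul, Units.val_mul, GeneralLinearGroup.coe_scalar]
  exact (Matrix.scalar_commute (c : F) (fun r => Commute.all _ _) (g : Matrix (Fin n) (Fin n) F)).symm.eq

/-- the value at the scalars is enough -/
theorem central_of_scalar {n : ℕ} {χ : GL (Fin n) F → ℂ} (hχ : IsIrrCharacter _ χ) {μ : Fˣ →* ℂˣ}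
    (h : ∀ c : Fˣ, χ (GeneralLinearGroup.scalar (Fin n) c) = μ c * χ 1) (c : Fˣ) (g : GL (Fin n) F) :
    χ (GeneralLinearGroup.scalar (Fin n) c * g) = μ c * χ g := by
  classical
  have : Fintype (GL (Fin n) F) := Fintype.ofFinite _
  obtain ⟨w, -, hw⟩ := CharDeep.DegreeBound.exists_omega hχ (scalar_mem_center (n := n) c)
  have h1 := hw 1
  rw [one_mul, h c] at h1
  have h2 := mul_right_cancel₀ (Core.isIrr_apply_one_ne_zero hχ) h1
  have h3 : GeneralLinearGroup.scalar (Fin n) c * g = g * GeneralLinearGroup.scalar (Fin n) c :=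
    (Subgroup.mem_center_iff.1 (scalar_mem_center (n := n) c) g).symm
  rw [h3, hw g, h2]

/-- **cuspidal characters** -/
theorem exists_cus {n : ℕ} (hn : 1 ≤ n) (μ : Fˣ →* ℂˣ) :
    ∃ χ : GL (Fin n) F → ℂ, IsIrrCharacter _ χ ∧ IsCusp χ ∧
      χ 1 = ((∏ i ∈ Finset.range (n - 1), (Fintype.card F ^ (i + 1) - 1) : ℕ) : ℂ) ∧
      ∀ (c : Fˣ) (g : GL (Fin n) F), χ (GeneralLinearGroup.scalar (Fin n) c * g) = μ c * χ g := by
  classical
  obtain ⟨p, hp⟩ := CharP.exists F
  have hpp : Fact p.Prime := ⟨CharP.char_is_prime F p⟩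
  have hnz : NeZero n := ⟨by omega⟩
  let L := FiniteField.Extension F p n
  have hL : Module.finrank F L = n := FiniteField.finrank_extension F p n
  obtain ⟨θ, h1, h2⟩ := exists_theta_mu (F := F) (L := L) hL μ
  refine ⟨psi L θ, psi_isIrr θ hL h2, psi_isCusp L θ, ?_, ?_⟩
  · rw [psi_one L θ (by omega), degP, Nat.card_eq_fintype_card]
  · intro c g
    rw [psi_scalar θ hL c g, h1 c]

/-- the value of a parabolically induced character at a scalar -/
theorem paraChar_scalar' {V : Type v} [AddCommGroup V] [Module F V] {a b : ℕ} {G : Type w} [Group G]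
    (ρ : G →* (V ≃ₗ[F] V)) [Fintype (dimSet F V a)] {Ψ : GL (Fin a) F → ℂ} (hΨ : IsClassFunction _ Ψ)
    {Φ : GL (Fin b) F → ℂ} (hΦ : IsClassFunction _ Φ) [FiniteDimensional F V] (hn : finrank F V = a + b) {z : G}
    {c : Fˣ} (hz : ∀ v, ρ z v = (c : F) • v) :
    paraChar ρ Ψ Φ z = (Nat.card (dimSet F V a) : ℂ) *
      (Ψ (GeneralLinearGroup.scalar (Fin a) c) * Φ (GeneralLinearGroup.scalar (Fin b) c)) := by
  classical
  unfold paraChar
  have h1 : ∀ W : dimSet F V a, paraTerm ρ Ψ Φ z W.1 =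
      Ψ (GeneralLinearGroup.scalar (Fin a) c) * Φ (GeneralLinearGroup.scalar (Fin b) c) := by
    intro W
    have h : W.1.map (ρ z : V →ₗ[F] V) = W.1 := map_eq_of_le ρ fun w hw => by
      rw [hz]; exact W.1.smul_mem _ hw
    have hW : finrank F W.1 = a := W.2
    have hW' : finrank F (V ⧸ W.1) = b := by
      have := Submodule.finrank_quotient_add_finrank W.1
      omega
    rw [paraTerm_of ρ Ψ Φ h, cl_eq hΨ (finBasisOfFinrankEq F W.1 hW), cl_eq hΦ (finBasisOfFinrankEq F _ hW'),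
      glE_smul _ c _ (fun w => Subtype.ext (hz w)), glE_smul _ c _ (fun w => by
        obtain ⟨w, rfl⟩ := Submodule.Quotient.mk_surjective _ w
        rw [quo_mk, hz]
        rfl)]
  rw [Finset.sum_congr rfl fun W _ => h1 W, Finset.sum_const, Finset.card_univ, ← Nat.card_eq_fintype_card,
    nsmul_eq_mul]

/-- the linear character of `GL_1` -/
theorem lin_one (μ : Fˣ →* ℂˣ) : ∃ Φ : GL (Fin 1) F → ℂ, IsIrrCharacter _ Φ ∧ Φ 1 = 1 ∧
    ∀ c : Fˣ, Φ (GeneralLinearGroup.scalar (Fin 1) c) = μ c := by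
  refine ⟨fun g => ((μ.comp GeneralLinearGroup.det) g : ℂˣ), ?_, ?_, ?_⟩
  · have h := Cfsg.Agent.CharactersDeep.ExtUnique.isIrr_mul_hom (Core.isIrr_one (G := GL (Fin 1) F))
      (μ.comp GeneralLinearGroup.det)
    have h2 : (fun g : GL (Fin 1) F => (1 : GL (Fin 1) F → ℂ) g * ((μ.comp GeneralLinearGroup.det) g : ℂ)) =
        fun g => ((μ.comp GeneralLinearGroup.det) g : ℂ) := by
      funext g
      rw [Pi.one_apply, one_mul]
    rwa [h2] at h
  · simp
  · intro c
    have h1 : GeneralLinearGroup.det (GeneralLinearGroup.scalar (Fin 1) c) = c := by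
      apply Units.ext
      simp
    show (((μ (GeneralLinearGroup.det (GeneralLinearGroup.scalar (Fin 1) c))) : ℂˣ) : ℂ) = μ c
    rw [h1]

/-- **Harish-Chandra induction from a maximal parabolic subgroup**, with the central character -/
theorem exists_parab {n a b : ℕ} (hnab : n = a + b) {α β : Fˣ →* ℂˣ} {Ψ : GL (Fin a) F → ℂ}
    (hΨ : IsIrrCharacter _ Ψ) (hc : IsCusp Ψ) {Φ : GL (Fin b) F → ℂ} (hΦ : IsIrrCharacter _ Φ)
    (hα : ∀ c : Fˣ, Ψ (GeneralLinearGroup.scalar (Fin a) c) = α c * Ψ 1)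
    (hβ : ∀ c : Fˣ, Φ (GeneralLinearGroup.scalar (Fin b) c) = β c * Φ 1)
    (hcase : b < a ∨ ∃ e : a = b, Ψ ≠ e ▸ Φ) {d : ℕ} (hd : Ψ 1 * Φ 1 = d) :
    ∃ χ : GL (Fin n) F → ℂ, IsIrrCharacter _ χ ∧
      χ 1 = ((Nat.card {W : Submodule F (Fin n → F) // finrank F W = a} * d : ℕ) : ℂ) ∧
      ∀ (c : Fˣ) (g : GL (Fin n) F), χ (GeneralLinearGroup.scalar (Fin n) c * g) = (α * β) c * χ g := by
  classical
  let ρ : GL (Fin n) F →* ((Fin n → F) ≃ₗ[F] (Fin n → F)) := (glE (Pi.basisFun F (Fin n))).symm.toMonoidHom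
  have hρ : Function.Surjective ρ := (glE (Pi.basisFun F (Fin n))).symm.surjective
  have hfr : finrank F (Fin n → F) = a + b := by rw [finrank_fin_fun, hnab]
  letI : Fintype (dimSet F (Fin n → F) a) := Fintype.ofFinite _
  letI : Fintype (GL (Fin n) F) := Fintype.ofFinite _
  have hirr : IsIrrCharacter _ (paraChar ρ Ψ Φ) := by
    rcases hcase with h | ⟨rfl, h⟩
    · exact isIrr_paraChar ρ hρ h hfr hΨ hc hΦ
    · exact isIrr_paraChar_eq ρ hρ hfr hΨ hc hΦ h
  have c1 := Core.isIrr_isClassFunction hΨ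
  have c2 := Core.isIrr_isClassFunction hΦ
  have hone := paraChar_one ρ c1 c2 hfr
  refine ⟨paraChar ρ Ψ Φ, hirr, ?_, ?_⟩
  · rw [hone, hd]
    push_cast
    rfl
  · refine central_of_scalar hirr fun c => ?_
    have e1 : ρ (GeneralLinearGroup.scalar (Fin n) c) = LinearEquiv.smulOfUnit c := by
      change (glE (Pi.basisFun F (Fin n))).symm _ = _
      rw [MulEquiv.symm_apply_eq]
      exact (glE_smul _ c _ (fun w => rfl)).symm
    rw [paraChar_scalar' ρ c1 c2 hfr (c := c) (fun v => by rw [e1]; rfl), hone, hα, hβ, MonoidHom.mul_apply,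
      Units.val_mul]
    ring

/-- **degree `(q^n - 1)/(q - 1) ∏_{0<i<n-1} (q^i - 1)`** -/
theorem exists_hyp {m : ℕ} (hm : 2 ≤ m) (μ : Fˣ →* ℂˣ) :
    ∃ (χ : GL (Fin (m + 1)) F → ℂ) (N : ℕ), IsIrrCharacter _ χ ∧
      N * (Fintype.card F - 1) = Fintype.card F ^ (m + 1) - 1 ∧
      χ 1 = ((N * ∏ i ∈ Finset.range (m - 1), (Fintype.card F ^ (i + 1) - 1) : ℕ) : ℂ) ∧
      ∀ (c : Fˣ) (g : GL (Fin (m + 1)) F), χ (GeneralLinearGroup.scalar (Fin (m + 1)) c * g) = μ c * χ g := by
  obtain ⟨Ψ, h1, h2, h3, h4⟩ := exists_cus (F := F) (n := m) (by omega) 1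
  obtain ⟨Φ, h5, h6, h7⟩ := lin_one μ
  obtain ⟨χ, h8, h9, h10⟩ := exists_parab (n := m + 1) (a := m) (b := 1) rfl (α := 1) (β := μ) h1 h2 h5
    (fun c => by simpa using h4 c 1) (fun c => by rw [h7, h6, mul_one]) (Or.inl (by omega))
    (d := ∏ i ∈ Finset.range (m - 1), (Fintype.card F ^ (i + 1) - 1)) (by rw [h3, h6, mul_one])
  exact ⟨χ, _, h8, card_hyper (by rw [finrank_fin_fun]), h9, by simpa using h10⟩

/-- **degree `q + 1`** for `GL_2(q)` -/
theorem exists_two {α β : Fˣ →* ℂˣ} (hne : α ≠ β) :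
    ∃ χ : GL (Fin 2) F → ℂ, IsIrrCharacter _ χ ∧ χ 1 = ((Fintype.card F + 1 : ℕ) : ℂ) ∧
      ∀ (c : Fˣ) (g : GL (Fin 2) F), χ (GeneralLinearGroup.scalar (Fin 2) c * g) = (α * β) c * χ g := by
  obtain ⟨Ψ, h1, h2, h3, h4⟩ := exists_cus (F := F) (n := 1) le_rfl α
  obtain ⟨Φ, h5, -, h6, h7⟩ := exists_cus (F := F) (n := 1) le_rfl β
  simp only [Nat.sub_self, Finset.range_zero, Finset.prod_empty, Nat.cast_one] at h3 h6
  have hne' : Ψ ≠ Φ := by
    intro h15
    apply hne
    ext c
    have h13 := h4 c 1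
    have h14 := h7 c 1
    rw [h15, h14, h6, mul_one, mul_one] at h13
    exact h13.symm
  obtain ⟨χ, h8, h9, h10⟩ := exists_parab (n := 2) (a := 1) (b := 1) rfl (α := α) (β := β) h1 h2 h5
    (fun c => by simpa using h4 c 1) (fun c => by simpa using h7 c 1) (Or.inr ⟨rfl, hne'⟩)
    (d := 1) (by rw [h3, h6]; norm_num)
  refine ⟨χ, h8, ?_, h10⟩
  rw [h9, mul_one]
  have h11 := card_hyper (F := F) (V := Fin 2 → F) (m := 1) (by rw [finrank_fin_fun])
  have hq := Fintype.one_lt_card (α := F)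
  have h12 : Nat.card {W : Submodule F (Fin 2 → F) // finrank F W = 1} = Fintype.card F + 1 := by
    apply Nat.eq_of_mul_eq_mul_right (Nat.sub_pos_of_lt hq)
    rw [h11]
    have := Nat.sq_sub_sq (Fintype.card F) 1
    rw [one_pow] at this
    exact this
  rw [h12]

/-- `gcd(n, q - 1)` divides `(q^n - 1)/(q - 1)` -/
theorem gcd_dvd {q n N : ℕ} (hq : 1 < q) (hN : N * (q - 1) = q ^ n - 1) : Nat.gcd n (q - 1) ∣ N := by
  have h1 : N = ∑ j ∈ Finset.range n, q ^ j := by
    apply Nat.eq_of_mul_eq_mul_right (Nat.sub_pos_of_lt hq)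
    rw [hN]
    exact (geom_sum_mul_of_one_le hq.le n).symm
  have h2 : Nat.gcd n (q - 1) ∣ q - 1 := Nat.gcd_dvd_right _ _
  rw [h1, ← ZMod.natCast_eq_zero_iff]
  have h3 : ((q : ℕ) : ZMod (Nat.gcd n (q - 1))) = 1 := by
    have h4 : ((q - 1 : ℕ) : ZMod (Nat.gcd n (q - 1))) = 0 := (ZMod.natCast_eq_zero_iff _ _).2 h2
    rw [Nat.cast_sub hq.le, Nat.cast_one] at h4
    exact sub_eq_zero.1 h4
  push_cast
  rw [h3]
  simp only [one_pow, Finset.sum_const, Finset.card_range, nsmul_eq_mul, mul_one]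
  exact (ZMod.natCast_eq_zero_iff _ _).2 (Nat.gcd_dvd_left _ _)

/-- **`n ≥ 3`**: a character with degree divisible by `p * gcd(n, q - 1)` and prescribed central character -/
theorem exists_gl {n : ℕ} (hn : 3 ≤ n) {p : ℕ} (hp : p.Prime) {i : ℕ} (hi : 1 ≤ i) (hin : i ≤ n)
    (hpi : p ∣ Fintype.card F ^ i - 1) (μ : Fˣ →* ℂˣ) :
    ∃ (χ : GL (Fin n) F → ℂ) (d : ℕ), IsIrrCharacter _ χ ∧ χ 1 = d ∧
      p * Nat.gcd n (Fintype.card F - 1) ∣ d ∧
      ∀ (c : Fˣ) (g : GL (Fin n) F), χ (GeneralLinearGroup.scalar (Fin n) c * g) = μ c * χ g := by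
  have hq := Fintype.one_lt_card (α := F)
  have hg : Nat.gcd n (Fintype.card F - 1) ∣ Fintype.card F - 1 := Nat.gcd_dvd_right _ _
  obtain ⟨m, rfl⟩ : ∃ m, n = m + 1 := ⟨n - 1, by omega⟩
  -- the factors
  have hfac : ∀ {M j : ℕ}, 1 ≤ j → j ≤ M → p ∣ Fintype.card F ^ j - 1 →
      p ∣ ∏ i ∈ Finset.range M, (Fintype.card F ^ (i + 1) - 1) := by
    intro M j h1 h2 h3
    refine h3.trans ?_
    have h4 := Finset.dvd_prod_of_mem (fun i => Fintype.card F ^ (i + 1) - 1) (Finset.mem_range.2 (show j - 1 < M by omega))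
    simp only [show j - 1 + 1 = j by omega] at h4
    exact h4
  by_cases h1 : ∃ j, 1 ≤ j ∧ j ≤ m - 1 ∧ p ∣ Fintype.card F ^ j - 1
  · obtain ⟨j, hj1, hj2, hj3⟩ := h1
    obtain ⟨χ, N, h2, h3, h4, h5⟩ := exists_hyp (F := F) (m := m) (by omega) μ
    refine ⟨χ, _, h2, h4, ?_, h5⟩
    rw [mul_comm]
    exact mul_dvd_mul (gcd_dvd hq h3) (hfac hj1 hj2 hj3)
  push Not at h1
  have hp1 : ¬ p ∣ Fintype.card F - 1 := by
    have := h1 1 le_rfl (by omega)
    rwa [pow_one] at this
  have hcop : Nat.Coprime p (Nat.gcd (m + 1) (Fintype.card F - 1)) :=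
    (Nat.Prime.coprime_iff_not_dvd hp).2 fun h => hp1 (h.trans hg)
  rcases (show i = m + 1 ∨ i = m by
    by_contra hcon
    exact h1 i hi (by omega) hpi) with rfl | rfl
  · obtain ⟨χ, N, h2, h3, h4, h5⟩ := exists_hyp (F := F) (m := m) (by omega) μ
    refine ⟨χ, _, h2, h4, ?_, h5⟩
    have h6 : p ∣ N := by
      rw [← h3] at hpi
      exact (hp.dvd_mul.1 hpi).resolve_right hp1
    exact (hcop.mul_dvd_of_dvd_of_dvd h6 (gcd_dvd hq h3)).trans (dvd_mul_right _ _)
  · obtain ⟨χ, h2, -, h4, h5⟩ := exists_cus (F := F) (n := i + 1) (by omega) μ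
    refine ⟨χ, _, h2, h4, ?_, h5⟩
    rw [Nat.add_sub_cancel]
    refine hcop.mul_dvd_of_dvd_of_dvd (hfac (by omega) le_rfl hpi) (hg.trans ?_)
    have h6 := Finset.dvd_prod_of_mem (fun i => Fintype.card F ^ (i + 1) - 1) (Finset.mem_range.2 (show 0 < i by omega))
    simpa using h6

/-- the primes of `|PSL_n(q)|` -/
theorem exists_exp {n : ℕ} (hn : 2 ≤ n) {p : ℕ} (hp : p.Prime) (hpF : ¬ p ∣ Fintype.card F)
    (hd : p ∣ Nat.card (ProjectiveSpecialLinearGroup (Fin n) F)) :
    ∃ i, 1 ≤ i ∧ i ≤ n ∧ p ∣ Fintype.card F ^ i - 1 := by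
  have h1 := Cfsg.Agent.S0243.result (F := F) rfl n hn
  have h2 : p ∣ ∏ i : Fin n, (Fintype.card F ^ n - Fintype.card F ^ (i : ℕ)) := by
    rw [← h1]
    exact (hd.mul_left _).mul_left _
  obtain ⟨i, -, hi⟩ := (Prime.dvd_finsetProd_iff hp.prime _).1 h2
  refine ⟨n - i, by omega, by omega, ?_⟩
  have h3 : Fintype.card F ^ n - Fintype.card F ^ (i : ℕ) = Fintype.card F ^ (i : ℕ) * (Fintype.card F ^ (n - i) - 1) := by
    rw [Nat.mul_sub, mul_one, ← pow_add, Nat.add_sub_cancel' i.2.le]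
  rw [h3] at hi
  exact (hp.dvd_mul.1 hi).resolve_left fun h => hpF (hp.dvd_of_dvd_pow h)

end gl

end Cfsg.Agent.H886.RIM
end
end

-- part: BZ/Comp/Main
section
prune_inst 0x4f5705d607be212000018050090002234440004020040880098a00e400a0b72620003894002801d1a184828880004002006001cc4600000000a840000002507299000d404c2c9011da6009980328b61000220080000000000000080000004100401c410002
set_option linter.all false
open scoped Cfsg.Agent.FastGrp

/-!
# BZ: companions of characters in central `r`-extensions (helper25)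

* `Ext r σ` : the kernel of `σ : K →* S` is a central `r`-group; `Ov σ ν χ` : `χ` lies over `ν`;
* `Up`, `exists_up`, `Up.inner`, `Up.inner_irr` : the lift of a virtual character which vanishes on the `r`-singular elements;
* `gram` : the characters over `ν` have the same Cartan matrix; `dz`, `one`, `two`; the forms for tables `gram_tab`, `one_tab`, `two_tab`.
-/

set_option autoImplicit false
set_option linter.unusedSectionVars false

namespace Cfsg.Agent.BZ.Comp

open Cfsg Subgroup Cfsg.Agent.Characters.Core Cfsg.Agent.OddOrderCharacters.VChar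
open Cfsg.Agent.H613.RegGram Cfsg.Agent.Blocks.Blau Cfsg.Agent.H644.CentralQuot Cfsg.Agent.H658.RegPow
open scoped ComplexConjugate

universe u v

/-- the kernel is a central `r`-group -/
structure Ext (r : ℕ) {K : Type u} {S : Type v} [Group K] [Group S] (σ : K →* S) : Prop where
  surj : Function.Surjective σ
  cen : σ.ker ≤ center K
  pg : IsPGroup r σ.ker

/-- `χ` lies over `ν` -/
def Ov {K : Type u} {S : Type v} [Group K] [Group S] (σ : K →* S) (ν : σ.ker →* ℂˣ) (χ : K → ℂ) : Prop :=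
  ∀ z : σ.ker, χ z = (ν z : ℂ) * χ 1

/-- `Φ` is the lift of `Ψ` -/
structure Up (r : ℕ) {K : Type u} {S : Type v} [Group K] [Group S] (σ : K →* S) (ν : σ.ker →* ℂˣ) (Ψ : S → ℂ)
    (Φ : K → ℂ) : Prop where
  reg : ∀ (z : σ.ker) (s : K), ¬ r ∣ orderOf s → Φ (z * s) = (ν z : ℂ) * Ψ (σ s)
  up0 : ∀ k, r ∣ orderOf (σ k) → Φ k = 0
  sing : ∀ g, r ∣ orderOf g → Ψ g = 0

section closed
variable {G : Type u} [Group G] [Fintype G] {r : ℕ} {κ ι : Type} [Fintype κ] [Fintype ι] {φ : κ → G → ℂ} {β : ι → G → ℂ}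
  {Dm : κ → ι → ℤ}

theorem closed (hφ : ∀ j, IsIrrCharacter G (φ j)) (hA : ∀ j g, ¬ r ∣ orderOf g → φ j g = ∑ i, (Dm j i : ℂ) * β i g)
    (hB : ∀ i g, r ∣ orderOf g → ∑ j, (Dm j i : ℂ) * φ j g = 0) {ψ : G → ℂ} (hψ : IsIrrCharacter G ψ)
    (h : ∀ j, φ j ≠ ψ) (j : κ) : rg r (φ j) ψ = 0 := by
  have h1 : ∀ j, rg r (φ j) ψ = ∑ i, (Dm j i : ℂ) * rg r (β i) ψ := fun j => by
    simp only [rg_eq_classInner, ← classInner_smul_left, ← classInner_sum_left, ← regPart_sum_smul]
    congr 1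
    funext g
    by_cases hg : r ∣ orderOf g
    · rw [regPart_of_dvd hg, regPart_of_dvd hg]
    · rw [regPart_of_not_dvd hg, regPart_of_not_dvd hg, hA j g hg, Finset.sum_apply]
      rfl
  have h2 : ∀ i, ∑ j, (Dm j i : ℂ) * rg r (φ j) ψ = 0 := fun i => by
    have h3 : regPart r (∑ j, (Dm j i : ℂ) • φ j) = ∑ j, (Dm j i : ℂ) • φ j := by
      funext g
      by_cases hg : r ∣ orderOf g
      · rw [regPart_of_dvd hg, Finset.sum_apply]
        exact (hB i g hg).symm
      · rw [regPart_of_not_dvd hg]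
    simp only [rg_eq_classInner, ← classInner_smul_left, ← classInner_sum_left, ← regPart_sum_smul]
    rw [h3, classInner_sum_left]
    exact Finset.sum_eq_zero fun j _ => by rw [classInner_smul_left, classInner_irr_ne (hφ j) hψ (h j), mul_zero]
  have h3 : ∑ j, Complex.normSq (rg r (φ j) ψ) = 0 := by
    have h4 : ∑ j, conj (rg r (φ j) ψ) * rg r (φ j) ψ = ∑ i, conj (rg r (β i) ψ) * ∑ j, (Dm j i : ℂ) * rg r (φ j) ψ := by
      simp only [Finset.mul_sum]
      rw [Finset.sum_comm]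
      refine Finset.sum_congr rfl fun j _ => ?_
      conv_lhs => rw [h1 j, map_sum, ← h1 j, Finset.sum_mul]
      exact Finset.sum_congr rfl fun i _ => by rw [map_mul, map_intCast]; ring
    simp only [h2, mul_zero, Finset.sum_const_zero, ← Complex.normSq_eq_conj_mul_self] at h4
    exact_mod_cast h4
  exact Complex.normSq_eq_zero.1
    ((Finset.sum_eq_zero_iff_of_nonneg fun j _ => Complex.normSq_nonneg _).1 h3 j (Finset.mem_univ _))

theorem link [Fact r.Prime] {M : Ideal AlgInt} (hM : IsPModular r M) {b : Set (IrrCharacter G)} (hb : IsPBlock M b)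
    {θ₀ θ : IrrCharacter G} (h₀ : θ₀ ∈ b) (h0 : blockHeight r b (θ₀ : G → ℂ) = 0) (h : θ ∈ b) :
    rg r (θ₀ : G → ℂ) (θ : G → ℂ) ≠ 0 := fun e => by
  obtain ⟨n, h1, h2, -⟩ := (S4426.result r M hM b hb θ₀ h₀).2.1 h0 θ h
  have h3 : (fun x : G => if r ∣ orderOf x then (0 : ℂ) else ((r ^ (Nat.card G).factorization r : ℕ) : ℂ) * (θ₀ : G → ℂ) x) =
      ((r ^ (Nat.card G).factorization r : ℕ) : ℂ) • regPart r (θ₀ : G → ℂ) := by
    funext x
    by_cases hx : r ∣ orderOf x
    · rw [if_pos hx, Pi.smul_apply, regPart_of_dvd hx, smul_zero]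
    · rw [if_neg hx, Pi.smul_apply, regPart_of_not_dvd hx, smul_eq_mul]
  rw [h3, classInner_smul_left, ← rg_eq_classInner, e, mul_zero] at h1
  exact h2 (by exact_mod_cast h1.symm)

end closed

variable {r : ℕ} [hr : Fact r.Prime] {K : Type u} {S : Type v} [Group K] [Group S] [Finite K] {σ : K →* S}
  {ν : σ.ker →* ℂˣ}

theorem Ext.ord (h : Ext r σ) (z : σ.ker) : ∃ k, orderOf (z : K) = r ^ k := by
  obtain ⟨k, hk⟩ := IsPGroup.iff_orderOf.1 h.pg z
  exact ⟨k, by rw [orderOf_coe, hk]⟩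

theorem Ext.com (h : Ext r σ) (z : σ.ker) (g : K) : g * z = z * g := mem_center_iff.1 (h.cen z.2) g

theorem reg_map {s : K} (hs : ¬ r ∣ orderOf s) : ¬ r ∣ orderOf (σ s) := fun e => hs (e.trans (orderOf_map_dvd σ s))

/-- the regular lift -/
theorem dec {k : K} (hk : ¬ r ∣ orderOf (σ k)) : ∃ (z : σ.ker) (s : K), ¬ r ∣ orderOf s ∧ k = z * s := by
  obtain ⟨n, m, -, h⟩ := exists_regExp r K 0
  have h1 : orderOf (σ k) ∣ m := Nat.Coprime.dvd_of_dvd_mul_left
    (Nat.Coprime.pow_right n (hr.out.coprime_iff_not_dvd.2 hk).symm)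
    ((orderOf_map_dvd σ k).trans (orderOf_dvd_of_pow_eq_one (h.pow_eq_one k)))
  have h2 := (pow_eq_pow_iff_modEq (x := σ k)).2 (h.modEq.of_dvd h1)
  exact ⟨⟨k * (k ^ r ^ n)⁻¹, by rw [MonoidHom.mem_ker, map_mul, map_inv, map_pow, h2, pow_one, mul_inv_cancel]⟩, k ^ r ^ n,
    h.not_dvd_orderOf k, (inv_mul_cancel_right _ _).symm⟩

theorem map_mul_ker (z : σ.ker) (s : K) : σ (z * s) = σ s := by rw [map_mul, MonoidHom.mem_ker.1 z.2, one_mul]

variable {Ψ Ψ' : S → ℂ} {Φ Φ' : K → ℂ}

theorem Up.mul (u : Up r σ ν Ψ Φ) (z : σ.ker) (k : K) : Φ (z * k) = (ν z : ℂ) * Φ k := by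
  by_cases hk : r ∣ orderOf (σ k)
  · rw [u.up0 k hk, u.up0 _ (by rwa [map_mul_ker]), mul_zero]
  · obtain ⟨y, s, hs, rfl⟩ := dec hk
    rw [← mul_assoc, ← coe_mul, u.reg _ _ hs, u.reg _ _ hs, map_mul, Units.val_mul, mul_assoc]

theorem Up.cls (h : Ext r σ) (u : Up r σ ν Ψ Φ) (hΨ : IsClassFunction S Ψ) : IsClassFunction K Φ := fun k x => by
  by_cases hk : r ∣ orderOf (σ k)
  · rw [u.up0 k hk, u.up0 _ (by rwa [map_mul, map_mul, map_inv, ← MulAut.conj_apply, MulEquiv.orderOf_eq])]
  · obtain ⟨y, s, hs, rfl⟩ := dec hk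
    rw [← mul_assoc, h.com, mul_assoc, mul_assoc, ← mul_assoc x,
      u.reg _ _ (by rwa [← MulAut.conj_apply, MulEquiv.orderOf_eq]), u.reg _ _ hs, map_mul, map_mul, map_inv, hΨ]

theorem nu_conj (z : σ.ker) : (ν z : ℂ) * conj (ν z : ℂ) = 1 := by
  have h1 : (ν z : ℂ) ^ Nat.card σ.ker = 1 := by
    rw [← Units.val_pow_eq_pow_val, ← map_pow, pow_card_eq_one', map_one, Units.val_one]
  rw [Complex.mul_conj', Complex.norm_eq_one_of_pow_eq_one h1 Nat.card_pos.ne']
  simp

/-- the inner product with a function over `ν` -/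
theorem Up.inner_of [Fintype K] [Fintype S] (h : Ext r σ) (u : Up r σ ν Ψ Φ) {χ : K → ℂ} {γ : S → ℂ}
    (h1 : ∀ (z : σ.ker) (s : K), ¬ r ∣ orderOf s → χ (z * s) = (ν z : ℂ) * γ (σ s)) : classInner Φ χ = classInner Ψ γ := by
  rw [← H829.GowDesc.classInner_comp_surj σ h.surj, classInner_def, classInner_def]
  refine congrArg _ (Finset.sum_congr rfl fun k _ => ?_)
  by_cases hk : r ∣ orderOf (σ k)
  · rw [u.up0 k hk, Function.comp_apply, u.sing _ hk, zero_mul, zero_mul]
  · obtain ⟨y, s, hs, rfl⟩ := dec hk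
    rw [u.reg _ _ hs, h1 _ _ hs, Function.comp_apply, Function.comp_apply, map_mul_ker, map_mul]
    linear_combination (Ψ (σ s) * conj (γ (σ s))) * nu_conj (ν := ν) y

/-- **the lift is an isometry** -/
theorem Up.inner [Fintype K] [Fintype S] (h : Ext r σ) (u : Up r σ ν Ψ Φ) (u' : Up r σ ν Ψ' Φ') :
    classInner Φ Φ' = classInner Ψ Ψ' := u.inner_of h u'.reg

theorem Ov.mul (h : Ext r σ) {χ : K → ℂ} (hχ : IsIrrCharacter K χ) (o : Ov σ ν χ) (z : σ.ker) (k : K) :
    χ (z * k) = (ν z : ℂ) * χ k := by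
  have := Fintype.ofFinite K
  obtain ⟨w, -, hw⟩ := CharDeep.DegreeBound.exists_omega hχ (h.cen z.2)
  have h1 := hw 1
  rw [one_mul, o z] at h1
  rw [← h.com, hw, mul_right_cancel₀ (isIrr_apply_one_ne_zero hχ) h1]

theorem Up.inner_irr [Fintype K] [Fintype S] (h : Ext r σ) (u : Up r σ ν Ψ Φ) {χ : K → ℂ} (hχ : IsIrrCharacter K χ)
    (o : Ov σ ν χ) {γ : S → ℂ} (h1 : ∀ s, ¬ r ∣ orderOf s → χ s = γ (σ s)) : classInner Φ χ = classInner Ψ γ :=
  u.inner_of h fun z s hs => by rw [o.mul h hχ, h1 s hs]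

theorem Up.ov [Fintype K] (h : Ext r σ) (u : Up r σ ν Ψ Φ) {χ : K → ℂ} (hχ : IsIrrCharacter K χ)
    (h0 : classInner Φ χ ≠ 0) : Ov σ ν χ := by
  by_contra h1
  exact h0 (H548.RIM.inner_eq_zero h.cen u.mul hχ fun h2 => h1 fun z => (h2 z).trans (mul_comm _ _))

/-- the regular values come from a virtual character of the quotient -/
theorem exists_down (h : Ext r σ) (χ : IrrCharacter K) :
    ∃ γ : S → ℂ, IsGeneralizedCharacter S γ ∧ ∀ s, ¬ r ∣ orderOf s → (χ : K → ℂ) s = γ (σ s) := by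
  have := finite_irr (G := K ⧸ σ.ker)
  have := Fintype.ofFinite (IrrCharacter (K ⧸ σ.ker))
  obtain ⟨m, hm⟩ := H658.exists_int_comb h.cen h.pg χ
  let e := QuotientGroup.quotientKerEquivOfSurjective σ h.surj
  refine ⟨(∑ ψ : IrrCharacter (K ⧸ σ.ker), (m ψ : ℂ) • (ψ : K ⧸ σ.ker → ℂ)) ∘ e.symm.toMonoidHom,
    gen_comp _ (gen_sum _ fun ψ _ => gen_intCast_smul _ (gen_of_irr ψ.2)), fun s hs => ?_⟩
  have h1 : e.symm.toMonoidHom (σ s) = QuotientGroup.mk s := e.symm_apply_eq.2 rfl
  rw [hm s hs, Function.comp_apply, h1, Finset.sum_apply]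
  rfl

/-- **the lift** -/
theorem exists_up (h : Ext r σ) (ν : σ.ker →* ℂˣ) (hΨ : IsGeneralizedCharacter S Ψ) (h0 : ∀ g, r ∣ orderOf g → Ψ g = 0) :
    ∃ Φ : K → ℂ, IsGeneralizedCharacter K Φ ∧ Up r σ ν Ψ Φ := by
  classical
  have := Fintype.ofFinite K
  have := Finite.of_surjective σ h.surj
  have := Fintype.ofFinite S
  obtain ⟨n, m, -, e⟩ := exists_regExp r K 0
  have u : Up r σ ν Ψ fun k => if hk : k * (k ^ r ^ n)⁻¹ ∈ σ.ker then (ν ⟨_, hk⟩ : ℂ) * Ψ (σ k) else 0 := by
    refine ⟨fun z s hs => ?_, fun k hk => ?_, h0⟩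
    · have h1 : (z : K) * s * (((z : K) * s) ^ r ^ n)⁻¹ = z := by
        rw [← h.com z s, e.mul_pow_eq (h.com z s) (h.ord z), e.pow_of_not_dvd hs, h.com, mul_inv_cancel_right]
      rw [dif_pos (h1.symm ▸ z.2), map_mul_ker]
      exact congrArg (fun y : σ.ker => (ν y : ℂ) * Ψ (σ s)) (Subtype.ext h1)
    · split_ifs
      · rw [h0 _ hk, mul_zero]
      · rfl
  refine ⟨_, gen_of_inner_int (u.cls h (gen_isClassFunction hΨ)) fun χ hχ => ?_, u⟩
  by_cases h1 : Ov σ ν χ
  · obtain ⟨γ, h2, h3⟩ := exists_down h ⟨χ, hχ⟩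
    rw [u.inner_irr h hχ h1 h3]
    exact gen_inner hΨ h2
  · exact ⟨0, by_contra fun h2 => h1 (u.ov h hχ fun h3 => h2 (h3.trans Int.cast_zero.symm))⟩

variable {κ ι : Type} [Fintype κ] [Fintype ι] {φ : κ → S → ℂ} {β : ι → S → ℂ} {Dm : κ → ι → ℤ}

/-- the blocks of `K` over a union of blocks of `S` -/
theorem span [Fintype S] (h : Ext r σ) (hφ : ∀ j, IsIrrCharacter S (φ j))
    (hA : ∀ j g, ¬ r ∣ orderOf g → φ j g = ∑ i, (Dm j i : ℂ) * β i g)
    (hB : ∀ i g, r ∣ orderOf g → ∑ j, (Dm j i : ℂ) * φ j g = 0) (χ : IrrCharacter K) :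
    (∃ n : κ → ℤ, ∀ s, ¬ r ∣ orderOf s → (χ : K → ℂ) s = ∑ j, (n j : ℂ) * φ j (σ s)) ∨
      ∃ γ : S → ℂ, (∀ s, ¬ r ∣ orderOf s → (χ : K → ℂ) s = γ (σ s)) ∧ ∀ j, classInner (φ j) γ = 0 := by
  classical
  have := Fintype.ofFinite K
  have := Fintype.ofFinite (K ⧸ σ.ker)
  have := finite_irr (G := K ⧸ σ.ker)
  obtain ⟨M, hM⟩ := Blocks.ExistsModular.exists_isPModular hr.out
  have := hM.2.1.isPrime
  have hb := Blocks.Basic.isPBlock_blockOf (M := M) χ
  have hd := isPBlock_defl hM h.cen h.pg hb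
  have := Fintype.ofFinite (defl σ.ker (blockOf M (χ : K → ℂ)))
  obtain ⟨m, hm⟩ := H658.exists_int_defl hM h.cen h.pg hb (Blocks.Basic.mem_blockOf_self χ)
  obtain ⟨θ₀, h₀, h0⟩ := Blocks.HeightZeroSection.exists_height_zero (exists_mem_defl hM h.pg hb) r
  let e := QuotientGroup.quotientKerEquivOfSurjective σ h.surj
  have hi : ∀ j, IsIrrCharacter _ (φ j ∘ e) := fun j => isIrr_comp e.toMonoidHom e.surjective (hφ j)
  have hc := fun {ψ : K ⧸ σ.ker → ℂ} => closed (r := r) (φ := fun j => φ j ∘ e) (β := fun i => β i ∘ e) (ψ := ψ) hi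
    (fun j g hg => hA j _ (by rwa [e.orderOf_eq])) fun i g hg => hB i _ (by rwa [e.orderOf_eq])
  by_cases h1 : ∃ j, φ j ∘ e = θ₀
  · obtain ⟨j₀, h1⟩ := h1
    have h2 : ∀ θ : defl σ.ker (blockOf M (χ : K → ℂ)), ∃ j, φ j ∘ e = θ.1 := fun θ => by_contra fun h2 =>
      link hM hd h₀ h0 θ.2 (h1 ▸ hc θ.1.2 (fun j h3 => h2 ⟨j, h3⟩) j₀)
    choose c hc' using h2
    refine .inl ⟨fun j => ∑ θ with c θ = j, m θ, fun s hs => ?_⟩
    rw [hm s hs, ← Finset.sum_fiberwise Finset.univ c]
    refine Finset.sum_congr rfl fun j _ => ?_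
    rw [Int.cast_sum, Finset.sum_mul]
    refine Finset.sum_congr rfl fun θ hθ => ?_
    rw [infl_apply, ← hc', (Finset.mem_filter.1 hθ).2]
    rfl
  · refine .inr ⟨(∑ θ, (m θ : ℂ) • (θ.1 : K ⧸ σ.ker → ℂ)) ∘ e.symm, fun s hs => ?_, fun j => ?_⟩
    · have h2 : e.symm (σ s) = QuotientGroup.mk s := e.symm_apply_eq.2 rfl
      rw [hm s hs, Function.comp_apply, h2, Finset.sum_apply]
      rfl
    · rw [← H829.GowDesc.classInner_comp_surj e.toMonoidHom e.surjective]
      have h2 : ((∑ θ, (m θ : ℂ) • (θ.1 : K ⧸ σ.ker → ℂ)) ∘ e.symm) ∘ e.toMonoidHom =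
          ∑ θ, (m θ : ℂ) • (θ.1 : K ⧸ σ.ker → ℂ) := funext fun x => congrArg _ (e.symm_apply_apply x)
      rw [h2, classInner_sum_right]
      refine Finset.sum_eq_zero fun θ _ => ?_
      rw [classInner_smul_right, classInner_irr_ne (χ := φ j ∘ e.toMonoidHom) (hi j) θ.1.2 fun h3 => ?_, mul_zero]
      refine link hM hd h₀ h0 θ.2 ?_
      rw [← conj_rg, ← h3]
      exact (congrArg conj (hc θ₀.2 (fun j h4 => h1 ⟨j, h4⟩) j)).trans (map_zero _)

/-- **the characters over `ν` have the same Cartan matrix** -/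
theorem gram (h : Ext r σ) (ν : σ.ker →* ℂˣ) (φ : κ → S → ℂ) (hφ : ∀ j, IsIrrCharacter S (φ j))
    (hi : Function.Injective φ) (β : ι → S → ℂ) (Dm : κ → ι → ℤ)
    (hA : ∀ j g, ¬ r ∣ orderOf g → φ j g = ∑ i, (Dm j i : ℂ) * β i g)
    (hB : ∀ i g, r ∣ orderOf g → ∑ j, (Dm j i : ℂ) * φ j g = 0) :
    ∃ (X : Finset (IrrCharacter K)) (d : IrrCharacter K → ι → ℤ),
      (∀ χ ∈ X, Ov σ ν (χ : K → ℂ) ∧ ∀ s, ¬ r ∣ orderOf s → (χ : K → ℂ) s = ∑ i, (d χ i : ℂ) * β i (σ s)) ∧
      ∀ i k, ∑ χ ∈ X, d χ i * d χ k = ∑ j, Dm j i * Dm j k := by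
  classical
  have := Fintype.ofFinite K
  have := Finite.of_surjective σ h.surj
  have := Fintype.ofFinite S
  have := finite_irr (G := K)
  have := Fintype.ofFinite (IrrCharacter K)
  choose Φ g u using fun i => exists_up (Ψ := ∑ j, (Dm j i : ℂ) • φ j) h ν
    (gen_sum _ fun j _ => gen_intCast_smul _ (gen_of_irr (hφ j))) fun g hg => by
      rw [Finset.sum_apply]
      exact hB i g hg
  choose d hd using fun (χ : IrrCharacter K) i => gen_inner (g i) (gen_of_irr χ.2)
  have key : ∀ (a b : κ → ℤ), classInner (∑ j, (a j : ℂ) • φ j) (∑ j, (b j : ℂ) • φ j) = ((∑ j, a j * b j : ℤ) : ℂ) := by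
    intro a b
    rw [classInner_sum_left, Int.cast_sum]
    refine Finset.sum_congr rfl fun j _ => ?_
    rw [classInner_smul_left, classInner_sum_right, Finset.sum_eq_single j, classInner_smul_right,
      classInner_irr_self (hφ j), map_intCast, mul_one, Int.cast_mul]
    · intro j' _ h1
      rw [classInner_smul_right, classInner_irr_ne (hφ j) (hφ j') fun e => h1 (hi e).symm, mul_zero]
    · exact fun h1 => absurd (Finset.mem_univ _) h1
  refine ⟨Finset.univ.filter fun χ => ∃ i, d χ i ≠ 0, d, fun χ hχ => ?_, fun i k => ?_⟩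
  · obtain ⟨i, h1⟩ := (Finset.mem_filter.1 hχ).2
    have o := (u i).ov h χ.2 (by rw [hd]; exact_mod_cast h1)
    refine ⟨o, ?_⟩
    rcases span h hφ hA hB χ with ⟨n, hn⟩ | ⟨γ, h2, h3⟩
    · have h2 : ∀ i, d χ i = ∑ j, Dm j i * n j := fun i => Int.cast_injective (α := ℂ) (by
        rw [← hd, (u i).inner_irr h χ.2 o (γ := ∑ j, (n j : ℂ) • φ j) fun s hs => by rw [hn s hs, Finset.sum_apply]; rfl,
          key])
      intro s hs
      simp only [hn s hs, h2, hA _ _ (reg_map hs), Int.cast_sum, Int.cast_mul, Finset.mul_sum, Finset.sum_mul]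
      rw [Finset.sum_comm]
      exact Finset.sum_congr rfl fun i _ => Finset.sum_congr rfl fun j _ => by ring
    · refine absurd (Int.cast_injective (α := ℂ) ?_) h1
      rw [← hd, (u i).inner_irr h χ.2 o h2, classInner_sum_left, Int.cast_zero]
      exact Finset.sum_eq_zero fun j _ => by rw [classInner_smul_left, h3, mul_zero]
  · rw [Finset.sum_filter_of_ne fun χ _ h1 => ⟨i, left_ne_zero_of_mul h1⟩]
    refine Int.cast_injective (α := ℂ) ?_
    rw [← key, ← (u i).inner h (u k), classInner_eq_sum (gen_isClassFunction (g i)) (gen_isClassFunction (g k)),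
      Int.cast_sum]
    exact Finset.sum_congr rfl fun χ _ => by rw [hd, hd, map_intCast, Int.cast_mul]

theorem pos_of (χ : IrrCharacter K) {m : ℤ} (h : (χ : K → ℂ) 1 = m) : 0 < m := by
  obtain ⟨n, h1, h2⟩ := isIrr_apply_one χ.2
  have h3 : m = n := by exact_mod_cast h.symm.trans h2
  omega

theorem reg_one : ¬ r ∣ orderOf (1 : K) := by
  rw [orderOf_one]
  exact hr.out.not_dvd_one

/-- **one Brauer character**: at most three members with the same regular values -/
theorem one (h : Ext r σ) (ν : σ.ker →* ℂˣ) (φ : κ → S → ℂ) (hφ : ∀ j, IsIrrCharacter S (φ j)) (hi : Function.Injective φ)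
    (j₀ : κ) (h3 : Fintype.card κ ≤ 3) (hA : ∀ j g, ¬ r ∣ orderOf g → φ j g = φ j₀ g)
    (hB : ∀ g, r ∣ orderOf g → ∑ j, φ j g = 0) :
    ∃ X : Finset (IrrCharacter K), X.card = Fintype.card κ ∧
      ∀ χ ∈ X, Ov σ ν (χ : K → ℂ) ∧ ∀ s, ¬ r ∣ orderOf s → (χ : K → ℂ) s = φ j₀ (σ s) := by
  obtain ⟨X, d, h1, h2⟩ := gram (ι := Unit) h ν φ hφ hi (fun _ => φ j₀) (fun _ _ => 1) (fun j g hg => by simp [hA j g hg])
    fun _ g hg => by simpa only [_root_.Int.cast_one, _root_.one_mul] using hB g hg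
  have h4 := h2 () ()
  simp only [mul_one, Finset.sum_const, Finset.card_univ, nsmul_eq_mul] at h4
  obtain ⟨n, hn, h5⟩ := isIrr_apply_one (hφ j₀)
  have h6 : ∀ χ ∈ X, d χ () = 1 := fun χ hχ => by
    have h7 := pos_of χ (m := d χ () * n) (by simpa only [h5, _root_.Int.cast_mul, _root_.Int.cast_natCast, _root_.Finset.univ_unique, _root_.PUnit.default_eq_unit, _root_.map_one, _root_.Finset.sum_singleton] using (h1 χ hχ).2 1 reg_one)
    have h8 := Finset.single_le_sum (f := fun χ => d χ () * d χ ()) (fun _ _ => mul_self_nonneg _) hχ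
    have h9 : 0 < d χ () := by_contra fun h9 => by nlinarith only [h7, h9]
    have h10 : (Fintype.card κ : ℤ) ≤ 3 := by exact_mod_cast h3
    nlinarith only [h3, h4, h8, h9]
  refine ⟨X, ?_, fun χ hχ => ⟨(h1 χ hχ).1, fun s hs => by simpa [h6 χ hχ] using (h1 χ hχ).2 s hs⟩⟩
  rw [Finset.sum_congr rfl fun χ hχ => by rw [h6 χ hχ]] at h4
  simpa only [_root_.mul_one, _root_.Finset.sum_const, _root_.Int.nsmul_eq_mul, _root_.Nat.cast_inj] using h4

/-- **defect zero** -/
theorem dz (h : Ext r σ) (ν : σ.ker →* ℂˣ) {φ : S → ℂ} (hφ : IsIrrCharacter S φ) (h0 : ∀ g, r ∣ orderOf g → φ g = 0) :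
    ∃ χ : IrrCharacter K, Ov σ ν (χ : K → ℂ) ∧ ∀ s, ¬ r ∣ orderOf s → (χ : K → ℂ) s = φ (σ s) := by
  obtain ⟨X, h1, h2⟩ := one (κ := Unit) h ν (fun _ => φ) (fun _ => hφ) (fun _ _ _ => rfl) () (by simp) (fun _ _ _ => rfl)
    fun g hg => by simpa using h0 g hg
  obtain ⟨χ, hχ⟩ := Finset.card_pos.1 (h1.trans_gt Fintype.card_pos)
  exact ⟨χ, h2 χ hχ⟩

/-- **two Brauer characters**: the tree with three vertices -/
theorem two (h : Ext r σ) (ν : σ.ker →* ℂˣ) (φ : Fin 3 → S → ℂ) (hφ : ∀ j, IsIrrCharacter S (φ j))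
    (hi : Function.Injective φ) (hA : ∀ g, ¬ r ∣ orderOf g → φ 2 g = φ 0 g + φ 1 g)
    (hB : ∀ g, r ∣ orderOf g → φ 0 g + φ 2 g = 0 ∧ φ 1 g + φ 2 g = 0) (j : Fin 3) :
    ∃ χ : IrrCharacter K, Ov σ ν (χ : K → ℂ) ∧ ∀ s, ¬ r ∣ orderOf s → (χ : K → ℂ) s = φ j (σ s) := by
  obtain ⟨X, d, h1, h2⟩ := gram (ι := Fin 2) h ν φ hφ hi ![φ 0, φ 1] ![![1, 0], ![0, 1], ![1, 1]]
    (fun j g hg => by (revert j; simp only [hA g hg, _root_.Fin.forall_fin_succ, _root_.Matrix.cons_val', _root_.Matrix.cons_val_fin_one, Fin.isValue, _root_.Fin.sum_univ_two, _root_.Matrix.cons_val_zero, _root_.Matrix.cons_val_one, _root_.Int.cast_one, _root_.one_mul, _root_.Int.cast_zero, _root_.MulZeroClass.zero_mul, _root_.add_zero, _root_.Matrix.cons_val_succ, _root_.Fin.succ_zero_eq_one, _root_.zero_add, _root_.Fin.succ_one_eq_two, _root_.IsEmpty.forall_iff, _root_.and_self])) fun i g hg => by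
      (revert i; simp only [Fin.sum_univ_three, (hB g hg).1, (hB g hg).2, _root_.Fin.forall_fin_succ, _root_.Matrix.cons_val', _root_.Matrix.cons_val_fin_one, Fin.isValue, _root_.Matrix.cons_val_zero, _root_.Matrix.cons_val_one, _root_.Matrix.cons_val, _root_.Int.cast_one, _root_.one_mul, _root_.Int.cast_zero, _root_.MulZeroClass.zero_mul, _root_.add_zero, _root_.Matrix.cons_val_succ, _root_.zero_add, _root_.implies_true, _root_.and_self])
  have a1 : ∑ χ ∈ X, d χ 0 * d χ 0 = 2 := by simpa [Fin.sum_univ_three] using h2 0 0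
  have a2 : ∑ χ ∈ X, d χ 1 * d χ 1 = 2 := by simpa [Fin.sum_univ_three] using h2 1 1
  have a3 : ∑ χ ∈ X, d χ 0 * d χ 1 = 1 := by simpa [Fin.sum_univ_three] using h2 0 1
  have a4 : ∑ χ ∈ X, (d χ 0 - d χ 1) * (d χ 0 - d χ 1) = 2 := by
    rw [Finset.sum_congr rfl fun χ _ => show _ = d χ 0 * d χ 0 + d χ 1 * d χ 1 - 2 * (d χ 0 * d χ 1) by ring,
      Finset.sum_sub_distrib, Finset.sum_add_distrib, ← Finset.mul_sum, a1, a2, a3]
    rfl
  obtain ⟨m, hm, b1⟩ := isIrr_apply_one (hφ 0)
  obtain ⟨n, hn, b2⟩ := isIrr_apply_one (hφ 1)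
  have h3 : ∀ χ ∈ X, (d χ 0 = 1 ∧ d χ 1 = 0) ∨ (d χ 0 = 0 ∧ d χ 1 = 1) ∨ (d χ 0 = 1 ∧ d χ 1 = 1) := fun χ hχ => by
    have c0 := pos_of χ (m := d χ 0 * m + d χ 1 * n) (by simpa only [b1, b2, _root_.Fin.isValue, _root_.Int.cast_add, _root_.Int.cast_mul, _root_.Int.cast_natCast, _root_.map_one, _root_.Matrix.cons_val', _root_.Matrix.cons_val_fin_one, _root_.Fin.sum_univ_two, _root_.Matrix.cons_val_zero, _root_.Matrix.cons_val_one] using (h1 χ hχ).2 1 reg_one)
    have c1 := (Finset.single_le_sum (f := fun χ => d χ 0 * d χ 0) (fun _ _ => mul_self_nonneg _) hχ).trans_eq a1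
    have c2 := (Finset.single_le_sum (f := fun χ => d χ 1 * d χ 1) (fun _ _ => mul_self_nonneg _) hχ).trans_eq a2
    have c3 := (Finset.single_le_sum (f := fun χ => (d χ 0 - d χ 1) * (d χ 0 - d χ 1)) (fun _ _ => mul_self_nonneg _)
      hχ).trans_eq a4
    generalize d χ 0 = a at *
    generalize d χ 1 = b at *
    have c4 : -1 ≤ a ∧ a ≤ 1 := ⟨by nlinarith only [c1], by nlinarith only [c1]⟩
    have c5 : -1 ≤ b ∧ b ≤ 1 := ⟨by nlinarith only [c2], by nlinarith only [c2]⟩
    obtain ⟨c4, c6⟩ := c4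
    obtain ⟨c5, c7⟩ := c5
    interval_cases a <;> interval_cases b <;> (clear * - hm hn c0 c3; omega)
  have h4 : ∀ F : IrrCharacter K → ℤ, ∑ χ ∈ X, F χ = 1 → ∃ χ ∈ X, F χ ≠ 0 := fun F hF =>
    Finset.exists_ne_zero_of_sum_ne_zero (hF.trans_ne one_ne_zero)
  have h5 : ∃ χ ∈ X, d χ 0 = ![1, 0, 1] j ∧ d χ 1 = ![0, 1, 1] j := by
    fin_cases j
    · obtain ⟨χ, hχ, c⟩ := h4 (fun χ => d χ 0 * d χ 0 - d χ 0 * d χ 1) (by rw [Finset.sum_sub_distrib, a1, a3]; rfl)
      exact ⟨χ, hχ, by rcases h3 χ hχ with e | e | e <;> first | exact e | exact absurd (by simp only [e.1, e.2]; rfl) c⟩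
    · obtain ⟨χ, hχ, c⟩ := h4 (fun χ => d χ 1 * d χ 1 - d χ 0 * d χ 1) (by rw [Finset.sum_sub_distrib, a2, a3]; rfl)
      exact ⟨χ, hχ, by rcases h3 χ hχ with e | e | e <;> first | exact e | exact absurd (by simp only [e.1, e.2]; rfl) c⟩
    · obtain ⟨χ, hχ, c⟩ := h4 _ a3
      exact ⟨χ, hχ, by rcases h3 χ hχ with e | e | e <;> first | exact e | exact absurd (by simp only [e.1, e.2]; rfl) c⟩
  obtain ⟨χ, hχ, c1, c2⟩ := h5
  refine ⟨χ, (h1 χ hχ).1, fun s hs => ?_⟩
  rw [(h1 χ hχ).2 s hs, Fin.sum_univ_two, c1, c2]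
  (revert j; simp only [hA _ (reg_map hs), _root_.Fin.forall_fin_succ, Fin.isValue, _root_.Nat.succ_eq_add_one, Nat.reduceAdd, _root_.Matrix.cons_val', _root_.Matrix.cons_val_fin_one, _root_.Matrix.cons_val_zero, _root_.Matrix.cons_val_one, _root_.Int.cast_one, _root_.one_mul, _root_.Int.cast_zero, _root_.MulZeroClass.zero_mul, _root_.add_zero, _root_.implies_true, _root_.Matrix.cons_val_succ, _root_.zero_add, _root_.Fin.succ_zero_eq_one, _root_.Fin.succ_one_eq_two, _root_.IsEmpty.forall_iff, _root_.and_self])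

/-! ### tables -/

open Cfsg.Agent.TAB.Eng Cfsg.Agent.TAB.Use

/-- the values of the relation `a` -/
def rv (R : Rows) (a t : ℕ) : ℤ := (R.rel.getD a ([], [])).2.getD t 0

/-- the relations `a j` are rows of different irreducible characters `c j` -/
abbrev rowsB (R : Rows) {k : ℕ} (a c : Fin k → ℕ) : Prop :=
  (∀ j, (R.rel.getD (a j) ([], [])).1 = [(c j, 1)] ∧ c j < R.n) ∧ ∀ i j, c i = c j → i = j

variable {D : Dat} {T : TD S D} {R : Rows}

theorem rows_of_tab (hT : Tab T R) {k : ℕ} {a c : Fin k → ℕ} (h : rowsB R a c) :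
    (∀ j, IsIrrCharacter S fun g => (rv R (a j) (T.ty g) : ℂ)) ∧
      Function.Injective fun j => fun g => (rv R (a j) (T.ty g) : ℂ) := by
  obtain ⟨χ, hE, hR⟩ := hT
  have h1 : ∀ j, (fun g => (rv R (a j) (T.ty g) : ℂ)) = χ (c j) := fun j => funext fun g => by
    have h2 := (h.1 j).1
    have h3 : a j < R.rel.length := by_contra fun h3 => by
      rw [List.getD_eq_default _ _ (not_lt.1 h3)] at h2
      exact absurd h2 (by simp)
    have h4 := hR (R.rel.getD (a j) ([], [])) (by rw [List.getD_eq_getElem _ _ h3]; exact List.getElem_mem _) g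
    rw [h2] at h4
    simpa only [rv, _root_.List.getD_eq_getElem?_getD, _root_.List.map_cons, _root_.Int.cast_one, _root_.one_mul, _root_.List.map_nil, _root_.List.sum_cons, _root_.List.sum_nil, _root_.add_zero] using h4.symm
  exact ⟨fun j => h1 j ▸ hE.irr _ (h.1 j).2,
    fun i j e => h.2 i j (hE.inj _ (h.1 i).2 _ (h.1 j).2 ((h1 i).symm.trans (e.trans (h1 j))))⟩

/-- `gram` on a table; all hypotheses by `decide +kernel` -/
theorem gram_tab (h : Ext r σ) (ν : σ.ker →* ℂˣ) (hT : Tab T R) {k l : ℕ} (a c : Fin k → ℕ) (h1 : rowsB R a c)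
    (b : Fin l → ℕ → ℤ) (Dm : Fin k → Fin l → ℤ)
    (hA : ∀ t < D.n, ¬ r ∣ D.ord t → ∀ j, rv R (a j) t = ∑ i, Dm j i * b i t)
    (hB : ∀ t < D.n, r ∣ D.ord t → ∀ i, ∑ j, Dm j i * rv R (a j) t = 0) :
    ∃ (X : Finset (IrrCharacter K)) (d : IrrCharacter K → Fin l → ℤ),
      (∀ χ ∈ X, Ov σ ν (χ : K → ℂ) ∧
        ∀ s, ¬ r ∣ orderOf s → (χ : K → ℂ) s = ((∑ i, d χ i * b i (T.ty (σ s)) : ℤ) : ℂ)) ∧
      ∀ i m, ∑ χ ∈ X, d χ i * d χ m = ∑ j, Dm j i * Dm j m := by
  obtain ⟨h2, h3⟩ := rows_of_tab hT h1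
  obtain ⟨X, d, h4, h5⟩ := gram h ν _ h2 h3 (fun i g => (b i (T.ty g) : ℂ)) Dm
    (fun j g hg => by exact_mod_cast hA _ (T.lt g) (T.ord g ▸ hg) j)
    fun i g hg => by exact_mod_cast hB _ (T.lt g) (T.ord g ▸ hg) i
  exact ⟨X, d, fun χ hχ => ⟨(h4 χ hχ).1, fun s hs => by rw [(h4 χ hχ).2 s hs]; push_cast; rfl⟩, h5⟩

/-- `one` on a table (`k = 0` : defect zero) -/
theorem one_tab (h : Ext r σ) (ν : σ.ker →* ℂˣ) (hT : Tab T R) {k : ℕ} (hk : k ≤ 2) (a c : Fin (k + 1) → ℕ)
    (h1 : rowsB R a c) (hA : ∀ t < D.n, ¬ r ∣ D.ord t → ∀ j, rv R (a j) t = rv R (a 0) t)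
    (hB : ∀ t < D.n, r ∣ D.ord t → ∑ j, rv R (a j) t = 0) :
    ∃ χ : IrrCharacter K, Ov σ ν (χ : K → ℂ) ∧ ∀ s, ¬ r ∣ orderOf s → (χ : K → ℂ) s = rv R (a 0) (T.ty (σ s)) := by
  obtain ⟨h2, h3⟩ := rows_of_tab hT h1
  obtain ⟨X, h4, h5⟩ := one h ν _ h2 h3 0 (by rw [Fintype.card_fin]; omega)
    (fun j g hg => by exact_mod_cast hA _ (T.lt g) (T.ord g ▸ hg) j)
    fun g hg => by exact_mod_cast hB _ (T.lt g) (T.ord g ▸ hg)
  obtain ⟨χ, hχ⟩ := Finset.card_pos.1 (h4.trans_gt Fintype.card_pos)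
  exact ⟨χ, h5 χ hχ⟩

/-- `two` on a table -/
theorem two_tab (h : Ext r σ) (ν : σ.ker →* ℂˣ) (hT : Tab T R) (a c : Fin 3 → ℕ) (h1 : rowsB R a c)
    (hA : ∀ t < D.n, ¬ r ∣ D.ord t → rv R (a 2) t = rv R (a 0) t + rv R (a 1) t)
    (hB : ∀ t < D.n, r ∣ D.ord t → rv R (a 0) t + rv R (a 2) t = 0 ∧ rv R (a 1) t + rv R (a 2) t = 0) (j : Fin 3) :
    ∃ χ : IrrCharacter K, Ov σ ν (χ : K → ℂ) ∧ ∀ s, ¬ r ∣ orderOf s → (χ : K → ℂ) s = rv R (a j) (T.ty (σ s)) := by
  obtain ⟨h2, h3⟩ := rows_of_tab hT h1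
  exact two h ν _ h2 h3 (fun g hg => by exact_mod_cast hA _ (T.lt g) (T.ord g ▸ hg))
    (fun g hg => by exact_mod_cast hB _ (T.lt g) (T.ord g ▸ hg)) j

end Cfsg.Agent.BZ.Comp

private theorem dce_44cc8d214a2d : _root_.True := by
  try have : _root_.True := by simp only [_root_.Cfsg.Agent.BZ.Comp.rv.eq_1]
  exact _root_.True.intro
end
end
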